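import Cfsg.Agent.Lib.Perm.Groups.AltAut

/-!
# No automorphism of `A₇` exchanges the four groups of a dihedral subgroup of order eight
-/

set_option autoImplicit false
set_option linter.unusedSimpArgs false

namespace CfsgLib.Invol.GTwoCent.Alt7

open Equiv

/-- the standard element of order four -/
def a0 : Perm (Fin 7) := swap 0 1 * swap 1 2 * swap 2 3 * swap 4 5

/-- the common fixed points -/
def cnt (x y : Perm (Fin 7)) : ℕ := (Finset.univ.filter fun i => x i = i ∧ y i = i).card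

theorem cnt_conj (s x y : Perm (Fin 7)) : cnt (s * x * s⁻¹) (s * y * s⁻¹) = cnt x y := by
  refine (Finset.card_bij (fun i _ => s i) (fun i hi => ?_) (fun i _ j _ h => s.injective h) fun j hj => ?_).symm
  · rw [Finset.mem_filter_univ] at hi ⊢
    simp [hi.1, hi.2]
  · rw [Finset.mem_filter_univ] at hj
    simp only [Perm.mul_apply] at hj
    refine ⟨s⁻¹ j, ?_, by simp⟩
    simp only [Finset.mem_filter_univ]
    exact ⟨s.injective (by simpa using hj.1), s.injective (by simpa using hj.2)⟩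

theorem a0_facts : (∀ i, a0 i = i → i = 6) ∧ a0 4 = 5 ∧ a0 5 = 4 ∧ a0 6 = 6 ∧
    a0⁻¹ 4 = 5 ∧ a0⁻¹ 5 = 4 ∧ a0⁻¹ 6 = 6 ∧ (∀ i, a0 (a0 i) = i → i = 4 ∨ i = 5 ∨ i = 6) ∧
    a0.cycleType = {4, 2} ∧ a0 ^ 4 = 1 ∧ a0 * a0 ≠ 1 := by
  refine ⟨by decide, by decide, by decide, by decide, by decide, by decide, by decide, by decide,
    by decide +kernel, by decide +kernel, by decide +kernel⟩

theorem cnt_eq {z : Perm (Fin 7)} (h6 : z 6 = 6) :
    (z 4 = 4 ∧ z 5 = 5 → cnt (a0 * a0) z = 3) ∧ (z 4 = 5 ∧ z 5 = 4 → cnt (a0 * a0) z = 1) := by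
  obtain ⟨-, h4, h5, h6', -, -, -, hF, -⟩ := a0_facts
  refine ⟨fun ⟨e4, e5⟩ => ?_, fun ⟨e4, e5⟩ => ?_⟩
  · rw [cnt, show (Finset.univ.filter fun i => (a0 * a0) i = i ∧ z i = i) = {4, 5, 6} from ?_]
    · decide
    ext i
    rw [Finset.mem_filter_univ]
    simp only [Perm.mul_apply, Finset.mem_insert, Finset.mem_singleton]
    refine ⟨fun h => hF i h.1, ?_⟩
    rintro (rfl | rfl | rfl)
    exacts [⟨by rw [h4, h5], e4⟩, ⟨by rw [h5, h4], e5⟩, ⟨by rw [h6', h6'], h6⟩]
  · rw [cnt, show (Finset.univ.filter fun i => (a0 * a0) i = i ∧ z i = i) = {6} from ?_]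
    · decide
    ext i
    rw [Finset.mem_filter_univ]
    simp only [Perm.mul_apply, Finset.mem_singleton]
    refine ⟨fun h => ?_, ?_⟩
    · rcases hF i h.1 with rfl | rfl | rfl
      · exact absurd (e4.symm.trans h.2) (by decide)
      · exact absurd (e5.symm.trans h.2) (by decide)
      · rfl
    · rintro rfl
      exact ⟨by rw [h6', h6'], h6⟩

theorem key_a0 {y : Perm (Fin 7)} (hy : y * y = 1) (hinv : y * a0 * y = a0⁻¹) :
    cnt (a0 * a0) y ≠ cnt (a0 * a0) (y * a0) ∧ cnt (a0 * a0) y ≠ cnt (a0 * a0) (y * a0⁻¹) := by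
  obtain ⟨hfix, h4, h5, h6, g4, g5, g6, hF, -⟩ := a0_facts
  have yy : ∀ i, y (y i) = i := fun i => by rw [← Perm.mul_apply, hy, Perm.one_apply]
  have swap' : ∀ i, a0 (y i) = y (a0⁻¹ i) := fun i => by
    rw [← hinv, Perm.mul_apply, Perm.mul_apply, yy]
  have y6 : y 6 = 6 := hfix _ (by rw [swap', g6])
  have hm : ∀ i, i = 4 ∨ i = 5 → y i = 4 ∨ y i = 5 := by
    intro i hi
    have h : a0 (a0 (y i)) = y i := by
      rcases hi with rfl | rfl <;> simp only [swap', g4, g5]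
    rcases hF _ h with e | e | e
    · exact Or.inl e
    · exact Or.inr e
    · exfalso
      have := y.injective (e.trans y6.symm)
      rcases hi with rfl | rfl <;> exact absurd this (by decide)
  have e1 : (y * a0) 6 = 6 ∧ (y * a0⁻¹) 6 = 6 := by simp [Perm.mul_apply, h6, g6, y6]
  rcases hm 4 (Or.inl rfl) with e | e
  · have e' : y 5 = 5 := (hm 5 (Or.inr rfl)).resolve_left fun h => absurd (y.injective (h.trans e.symm)) (by decide)
    rw [(cnt_eq y6).1 ⟨e, e'⟩, (cnt_eq e1.1).2 (by simp [Perm.mul_apply, h4, h5, e, e']),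
      (cnt_eq e1.2).2 (by simp [Perm.mul_apply, g4, g5, e, e'])]
    decide
  · have e' : y 5 = 4 := (hm 5 (Or.inr rfl)).resolve_right fun h => absurd (y.injective (h.trans e.symm)) (by decide)
    rw [(cnt_eq y6).2 ⟨e, e'⟩, (cnt_eq e1.1).1 (by simp [Perm.mul_apply, h4, h5, e, e']),
      (cnt_eq e1.2).1 (by simp [Perm.mul_apply, g4, g5, e, e'])]
    decide

theorem cycleType_four {x : Perm (Fin 7)} (hx : orderOf x = 4) (hsign : Perm.sign x = 1) :
    x.cycleType = {4, 2} := by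
  have hl : x.cycleType.lcm = 4 := by rw [Perm.lcm_cycleType, hx]
  have hs : x.cycleType.sum ≤ 7 := by
    rw [Perm.sum_cycleType]
    exact x.support.card_le_univ.trans_eq (Fintype.card_fin 7)
  have hd : ∀ n ∈ x.cycleType, n = 2 ∨ n = 4 := by
    intro n hn
    have h2 := Perm.two_le_of_mem_cycleType hn
    obtain ⟨k, hk, rfl⟩ := (Nat.dvd_prime_pow Nat.prime_two).1 (show n ∣ 2 ^ 2 from (Multiset.dvd_lcm hn).trans hl.dvd)
    interval_cases k <;> simp_all
  have h4 : (4 : ℕ) ∈ x.cycleType := by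
    by_contra h
    have : x.cycleType.lcm ∣ 2 := Multiset.lcm_dvd.2 fun n hn => by
      rcases hd n hn with rfl | rfl
      · exact dvd_rfl
      · exact absurd hn h
    rw [hl] at this
    exact absurd (Nat.le_of_dvd two_pos this) (by norm_num)
  obtain ⟨M, hM⟩ := Multiset.exists_cons_of_mem h4
  rw [Perm.sign_of_cycleType, hM, Multiset.sum_cons, Multiset.card_cons] at hsign
  rw [hM, Multiset.sum_cons] at hs
  have hM2 : ∀ n ∈ M, n = 2 := fun n hn => (hd n (hM ▸ Multiset.mem_cons_of_mem hn)).resolve_right fun e => by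
    have := Multiset.single_le_sum (fun _ _ => Nat.zero_le _) n hn
    omega
  obtain ⟨c, hc⟩ : ∃ c, M = Multiset.replicate c 2 := ⟨_, Multiset.eq_replicate_card.2 hM2⟩
  subst hc
  simp only [Multiset.sum_replicate, smul_eq_mul, Multiset.card_replicate] at hsign hs
  have : c ≤ 1 := by omega
  interval_cases c
  · exact absurd hsign (by decide)
  · rw [hM]; rfl

/-- **no exchange** -/
theorem no_swap {L : Type*} [Group L] (e : L ≃* ↥(alternatingGroup (Fin 7))) (α : MulAut L) {a j : L}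
    (ha : orderOf a = 4) (hj : j * j = 1) (hinv : j * a * j = a⁻¹) (hfix : α (a * a) = a * a)
    (hsw : α j = j * a ∨ α j = j * a⁻¹) : False := by
  obtain ⟨s, hs⟩ := (CfsgLib.Perm.Groups.AltAut.conjNormal_bijective (Ω := Fin 7) (by simp) (by simp)).2
    ((e.symm.trans α).trans e)
  let ι : L →* Perm (Fin 7) := (alternatingGroup (Fin 7)).subtype.comp e.toMonoidHom
  have hι : Function.Injective ι := Subtype.val_injective.comp e.injective
  have hα : ∀ u : L, ι (α u) = s * ι u * s⁻¹ := fun u => by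
    have h := congrArg (fun β : MulAut ↥(alternatingGroup (Fin 7)) => ((β (e u) : ↥(alternatingGroup (Fin 7))) : Perm (Fin 7))) hs
    simp only [MulAut.conjNormal_apply, MulEquiv.trans_apply, MulEquiv.symm_apply_apply] at h
    exact h.symm
  obtain ⟨hct, hc4, hc2⟩ := a0_facts.2.2.2.2.2.2.2.2
  obtain ⟨c, hc⟩ := isConj_iff.1 (Perm.isConj_iff_cycleType_eq.2
    ((cycleType_four (x := ι a) (by rw [orderOf_injective ι hι, ha]) (Perm.mem_alternatingGroup.1 (e a).2)).trans hct.symm))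
  have hy : c * ι j * c⁻¹ * (c * ι j * c⁻¹) = 1 := by
    rw [show c * ι j * c⁻¹ * (c * ι j * c⁻¹) = c * ι (j * j) * c⁻¹ by rw [map_mul]; group, hj, map_one]; group
  have hyinv : c * ι j * c⁻¹ * a0 * (c * ι j * c⁻¹) = a0⁻¹ := by
    rw [← hc, show c * ι j * c⁻¹ * (c * ι a * c⁻¹) * (c * ι j * c⁻¹) = c * ι (j * a * j) * c⁻¹ by
      rw [map_mul, map_mul]; group, hinv, map_inv]
    group
  obtain ⟨k1, k2⟩ := key_a0 hy hyinv
  have e0 : a0 * a0 = c * ι (a * a) * c⁻¹ := by rw [← hc, map_mul]; group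
  rw [e0, cnt_conj] at k1 k2
  have hsame : cnt (ι (a * a)) (ι j) = cnt (ι (a * a)) (ι (α j)) := by
    conv_rhs => rw [← hfix, hα, hα]
    rw [cnt_conj]
  rcases hsw with h | h
  · refine k1 ?_
    rw [hsame, h, show c * ι j * c⁻¹ * a0 = c * ι (j * a) * c⁻¹ by rw [← hc, map_mul]; group, cnt_conj]
  · refine k2 ?_
    rw [hsame, h, show c * ι j * c⁻¹ * a0⁻¹ = c * ι (j * a⁻¹) * c⁻¹ by rw [← hc, map_mul, map_inv]; group, cnt_conj]

end CfsgLib.Invol.GTwoCent.Alt7
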