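import Cfsg.Agent.Lib.Invol.GTwoCent.Four

/-!
# The two commuting special linear groups and the commutator subgroup
-/

set_option autoImplicit false
set_option linter.unusedSectionVars false
set_option linter.style.haveILetI false
set_option linter.unusedSimpArgs false

namespace CfsgLib.Invol.GTwoCent

open Subgroup CfsgLib.Invol CfsgLib.Invol.GTwoOdd CfsgLib.Invol.GTwoOdd.Sd
open scoped commutatorElement

universe u

/-- `L` is a special linear group of dimension two over a field of odd order -/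
def IsSL2Odd (L : Type*) [Group L] : Prop :=
  ∃ (F : Type) (_ : Field F) (_ : Fintype F), Odd (Fintype.card F) ∧
    Nonempty (L ≃* Matrix.SpecialLinearGroup (Fin 2) F)

namespace Cen

variable {Q : Type u} [Group Q] [Finite Q] {m : ℕ} [NeZero m] (C : Cen Q m)

/-- one side and the other -/
structure Side (X Y : Subgroup (Sd (2 * m))) (P : Sylow 2 (↥C.K ⧸ C.Zk)) (N N' : Subgroup (↥C.K ⧸ C.Zk)) : Prop where
  hX : X ≤ inner m
  hY : Y ≤ inner m
  hP : (P : Subgroup (↥C.K ⧸ C.Zk)) = C.ψ.range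
  hfix : ∀ g ∈ normalizer (C.SI : Set Q), g ∈ normalizer ((X.map C.φ : Subgroup Q) : Set Q)
  hfix' : ∀ g ∈ normalizer (C.SI : Set Q), g ∈ normalizer ((Y.map C.φ : Subgroup Q) : Set Q)
  hN : N = normalClosure (C.Db X : Set (↥C.K ⧸ C.Zk))
  hN' : N' = normalClosure (C.Db Y : Set (↥C.K ⧸ C.Zk))
  hNP : N ⊓ (P : Subgroup (↥C.K ⧸ C.Zk)) = C.Db X
  hNP' : N' ⊓ (P : Subgroup (↥C.K ⧸ C.Zk)) = C.Db Y
  htop : N ⊔ N' = ⊤
  hc : ∀ a b : ↥C.K, QuotientGroup.mk' C.Zk a ∈ N → QuotientGroup.mk' C.Zk b ∈ N' → Commute a b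

variable {C} {X Y : Subgroup (Sd (2 * m))} {P : Sylow 2 (↥C.K ⧸ C.Zk)} {N N' : Subgroup (↥C.K ⧸ C.Zk)}

theorem Side.symm (hs : C.Side X Y P N N') : C.Side Y X P N' N :=
  ⟨hs.hY, hs.hX, hs.hP, hs.hfix', hs.hfix, hs.hN', hs.hN, hs.hNP', hs.hNP, (sup_comm _ _).trans hs.htop,
    fun a b ha hb => (hs.hc b a hb ha).symm⟩

theorem Side.normal (hs : C.Side X Y P N N') : (C.pL N).Normal := C.pL_normal hs.hX hs.hfix hs.hN

theorem Side.le (hs : C.Side X Y P N N') : C.Db X ≤ N := hs.hNP ▸ inf_le_left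

theorem Side.pL_comm (hs : C.Side X Y P N N') : C.pL N' ≤ centralizer (C.pL N : Set Q) := by
  intro x hx
  refine mem_centralizer_iff.2 fun l hl => ?_
  obtain ⟨hxK, hxN⟩ := C.mem_pL.1 hx
  obtain ⟨hlK, hlN⟩ := C.mem_pL.1 hl
  exact congrArg Subtype.val (hs.hc ⟨l, hlK⟩ ⟨x, hxK⟩ hlN hxN).eq

theorem Side.K_le (hs : C.Side X Y P N N') : C.K ≤ C.pL N ⊔ C.pL N' := by
  intro x hx
  haveI : N'.Normal := hs.hN' ▸ normalClosure_normal
  have h : QuotientGroup.mk' C.Zk ⟨x, hx⟩ ∈ N ⊔ N' := hs.htop ▸ mem_top _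
  obtain ⟨a, ha, b, hb, hab⟩ := mem_sup_of_normal_right.1 h
  obtain ⟨a', rfl⟩ := QuotientGroup.mk'_surjective C.Zk a
  obtain ⟨b', rfl⟩ := QuotientGroup.mk'_surjective C.Zk b
  rw [← map_mul] at hab
  obtain ⟨z, hz, e⟩ := (QuotientGroup.mk'_eq_mk' C.Zk).1 hab
  rw [show x = (a' : Q) * (b' : Q) * (z : Q) from (congrArg Subtype.val e).symm]
  refine mul_mem (mul_mem (mem_sup_left (C.mem_pL.2 ⟨a'.2, ha⟩)) (mem_sup_right (C.mem_pL.2 ⟨b'.2, hb⟩))) ?_
  rcases C.mem_Zk.1 hz with h | h <;> rw [h]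
  · exact one_mem _
  · exact mem_sup_left (C.gz_pL N)

theorem Side.cent_both (hs : C.Side X Y P N N') {x : Q} (hx : x ∈ C.N0)
    (h : x ∈ centralizer (C.pL N : Set Q)) (h' : x ∈ centralizer (C.pL N' : Set Q)) : x = 1 ∨ x = C.φ (gz m) := by
  refine C.cent_small hx (mem_centralizer_iff.2 fun k hk => ?_)
  have hle : C.pL N ⊔ C.pL N' ≤ centralizer ({x} : Set Q) := sup_le
    (fun l hl => mem_centralizer_singleton_iff.2 (mem_centralizer_iff.1 h l hl))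
    (fun l hl => mem_centralizer_singleton_iff.2 (mem_centralizer_iff.1 h' l hl))
  exact mem_centralizer_singleton_iff.1 (hle (hs.K_le hk))

/-- the conclusions on a side with a simple factor -/
def Big (N : Subgroup (↥C.K ⧸ C.Zk)) : Prop :=
  C.pL N ≤ commutator Q ∧ IsSL2Odd ↥(C.pL N) ∧ commutator Q ≤ C.pL N ⊔ centralizer (C.pL N : Set Q)

theorem Side.big (hs : C.Side X Y P N N') (hdih : Nonempty (↥(C.Db X) ≃* DihedralGroup m)) {r J : Sd (2 * m)}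
    (hr : r ∈ X) (hJ : J ∈ X) (hJsq : J * J = gz m) (hrm : r ^ m = gz m)
    (hord : ∀ i : ℕ, r ^ i = 1 ∨ r ^ i = gz m → m ∣ i) (hconj : J * r * J⁻¹ = r⁻¹)
    (hd1 : g10 m * r * (g10 m)⁻¹ = r⁻¹) (hd2 : g10 m * J * (g10 m)⁻¹ = J * r⁻¹)
    (hsimp : IsSimpleGroup ↥N) (hp : Group.IsPerfect ↥N) (hPS : CfsgLib.GW.IsPSLTwoOrA7 ↥N) : Big N := by
  rcases hPS with ⟨F, i1, i2, hodd, h3, ⟨f⟩⟩ | ⟨⟨f⟩⟩
  swap
  · exact (C.no_alt7 hs.hX hs.hfix hs.hN P hs.hNP hdih hr hJ hJsq hrm hord hconj hd1 hd2 f).elim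
  refine ⟨?_, ⟨F, i1, i2, hodd, C.pL_sl2 hs.hX hJ hJsq hs.le hp hodd h3 f⟩, ?_⟩
  · rw [← C.pL_perfect hs.hX hJ hJsq hs.le hp, _root_.commutator_def]
    exact commutator_mono le_top le_top
  · refine C.commutator_le_side hs.hX hJ hJsq hs.le hp hs.normal hodd f hsimp fun hab => ?_
    haveI := hsimp
    obtain ⟨a, ha⟩ := exists_ne (1 : ↥N)
    refine ha (mem_bot.1 ?_)
    have h : commutator ↥N ≤ ⊥ := by
      rw [_root_.commutator_def, commutator_le]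
      exact fun a _ b _ => mem_bot.2 (commutatorElement_eq_one_iff_mul_comm.2 (hab.is_comm.comm a b))
    exact h (hp.commutator_eq_top ▸ mem_top a)

/-- the subgroup attached to a side with a four group -/
noncomputable def W (C : Cen Q m) (N' : Subgroup (↥C.K ⧸ C.Zk)) : Subgroup Q :=
  C.N0 ⊓ centralizer (C.pL N' : Set Q)

theorem Side.W_normal (hs : C.Side X Y P N N') : (C.W N').Normal := by
  haveI := hs.symm.normal
  haveI : (centralizer (C.pL N' : Set Q)).Normal := normal_centralizer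
  exact Subgroup.normal_inf_normal _ _

section V

variable {r J rY : Sd (2 * m)} (hs : C.Side X Y P N N') (hp : Part m X Y r J rY) (hm2 : m = 2) (hV : N = C.Db X)
  (e : ↥(C.Db X) ≃* DihedralGroup 2)

include hs hV in
theorem Side.hβ (g : Q) : (C.Db X).map (C.β g).toMonoidHom = C.Db X := hV ▸ C.β_map hs.hX hs.hfix hs.hN g

include hs hp hV in
theorem Side.pL_eq : C.pL N = X.map C.φ := by rw [hV, C.pL_Db hs.hX hp.gzX]

include hs hp hV in
theorem Side.X_normal : (X.map C.φ : Subgroup Q).Normal := hs.pL_eq hp hV ▸ hs.normal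

include hs hp hV in
theorem Side.X_le_W : X.map C.φ ≤ C.W N' := by
  intro x hx
  refine ⟨?_, hs.symm.pL_comm ((hs.pL_eq hp hV).symm ▸ hx)⟩
  obtain ⟨u, hu, rfl⟩ := hx
  exact (C.mem_N0 u).2 (hs.hX hu)

include hs hp hm2 hV in
theorem Side.exists_mover_pr : ∃ n ∈ C.N0,
    C.ρ (hs.hβ hV) e n (C.pr hp hm2 hs.hX e) ≠ C.pr hp hm2 hs.hX e := by
  have gsq : g00 m * g00 m = (1 : Sd (2 * m)) := by simp [mul_def, g00, one_def, Sd.mk.injEq, Sd.one_add_one]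
  obtain ⟨n, hnN, hn⟩ := C.exists_mover (mem_inner.2 rfl : g00 m ∈ inner m) gsq
    (by simp [g00, one_def, Sd.mk.injEq]) (by simp [g00, gz, Sd.mk.injEq])
  exact ⟨n, hnN, C.mover_moves hp hm2 hs.hX (hs.hβ hV) e P hs.hP hs.hNP' hs.symm.le hs.hY (hs.X_normal hp hV)
    hs.symm.normal hn⟩

include hs hp hm2 hV e in
theorem Side.X_le_comm : X.map C.φ ≤ commutator Q := by
  have hr2 : r * r = gz m := by
    have := hp.r_pow
    rwa [show r ^ m = r * r from (congrArg (r ^ ·) hm2).trans (pow_two r)] at this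
  have hr : C.φ r ∈ commutator Q := by
    have h : ⁅C.φ (g10 m), C.φ J⁆ = C.φ r := by
      rw [commutatorElement_def, C.conj_φ, hp.d2, ← map_inv, ← map_mul]
      refine congrArg C.φ ?_
      calc J * r⁻¹ * J⁻¹ = (J * r * J⁻¹)⁻¹ := by group
        _ = r := by rw [hp.conj, inv_inv]
    rw [← h]
    exact commutator_mem_commutator (mem_top _) (mem_top _)
  obtain ⟨n, hnN, hn⟩ := hs.exists_mover_pr hp hm2 hV e
  haveI := hs.X_normal hp hV
  obtain ⟨a, ha, hae⟩ : C.φ (g10 m) * n * (C.φ (g10 m))⁻¹ * n⁻¹ * C.φ r *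
      (C.φ (g10 m) * n * (C.φ (g10 m))⁻¹ * n⁻¹)⁻¹ ∈ X.map C.φ :=
    ‹(X.map C.φ : Subgroup Q).Normal›.conj_mem _ ⟨r, hp.rX, rfl⟩ _
  rw [← commutatorElement_def] at hae
  have haQ : C.φ a ∈ commutator Q := hae ▸ (commutator Q).normal_of_characteristic.conj_mem _ hr _
  have hc := C.comm_moves hp hm2 hs.hX (hs.hβ hV) e hn
  have hc3 : C.ρ (hs.hβ hV) e ⁅C.φ (g10 m), n⁆ ^ 3 = 1 :=
    C.ρ_cube hm2 (hs.hβ hV) e (C.commutator_le_N0 (commutator_mem_commutator (mem_top _) (mem_top _)))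
  have hmove : C.β ⁅C.φ (g10 m), n⁆ (C.ψ ⟨r, hs.hX hp.rX⟩) ≠ C.ψ ⟨r, hs.hX hp.rX⟩ := fun h =>
    hc ((perm_three _).2.1 hc3 _ ((C.ρ_pr hp hm2 hs.hX (hs.hβ hV) e).2 h))
  rcases hp.gen a ha with ⟨i, hi⟩ | ⟨i, hi⟩
  · exfalso
    have hb : C.β ⁅C.φ (g10 m), n⁆ (C.ψ ⟨r, hs.hX hp.rX⟩) = C.ψ ⟨r, hs.hX hp.rX⟩ ^ i := by
      rw [C.β_ψ _ _ (⟨r, hs.hX hp.rX⟩ ^ i : inner m) (by rw [SubgroupClass.coe_pow, ← hi]; exact hae.symm),
        map_pow]
    have hpow : ∀ i : ℕ, C.ψ ⟨r, hs.hX hp.rX⟩ ^ i = 1 ∨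
        C.ψ ⟨r, hs.hX hp.rX⟩ ^ i = C.ψ ⟨r, hs.hX hp.rX⟩ := by
      intro i
      induction i with
      | zero => exact Or.inl (pow_zero _)
      | succ i ih =>
        rcases ih with h | h <;> rw [pow_succ, h]
        · exact Or.inr (one_mul _)
        · exact Or.inl (C.sq_r hp hs.hX hr2)
    rcases hpow i with h | h <;> rw [h] at hb
    · exact C.ψr_ne hp hm2 hs.hX ((MulEquiv.map_eq_one_iff _).1 hb)
    · exact hmove hb
  · have hJQ : C.φ J ∈ commutator Q := by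
      rw [hi, map_mul, map_pow] at haQ
      exact ((commutator Q).mul_mem_cancel_left (pow_mem hr i)).1 haQ
    rintro _ ⟨u, hu, rfl⟩
    rcases hp.gen u hu with ⟨i, rfl⟩ | ⟨i, rfl⟩
    · rw [map_pow]; exact pow_mem hr i
    · rw [map_mul, map_pow]; exact mul_mem (pow_mem hr i) hJQ

theorem ρ_of_cent {hβ : ∀ g : Q, (C.Db X).map (C.β g).toMonoidHom = C.Db X} {g : Q}
    (hg : g ∈ centralizer ((X.map C.φ : Subgroup Q) : Set Q)) : C.ρ hβ e g = 1 := by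
  refine (C.ρ_one hβ e).2 ?_
  rintro _ ⟨v, hv, rfl⟩
  exact C.β_ψ g v v (by
    rw [show g * C.φ (v : Sd (2 * m)) = C.φ (v : Sd (2 * m)) * g from (mem_centralizer_iff.1 hg _ ⟨_, hv, rfl⟩).symm,
      mul_inv_cancel_right])

include hs hp hm2 hV in
/-- the kernel of the action on the attached subgroup -/
theorem Side.ker_W {g : Q} (hg : g ∈ C.W N') (h1 : C.ρ (hs.hβ hV) e g = 1) : g ∈ X.map C.φ := by
  obtain ⟨q, hq, hc⟩ := C.adjust hp hm2 hs.hX (hs.hβ hV) e h1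
  have hqW : C.φ q ∈ C.W N' := hs.X_le_W hp hV ⟨q, hq, rfl⟩
  have hd : (C.φ q)⁻¹ * g ∈ C.W N' := mul_mem (inv_mem hqW) hg
  rw [← mul_inv_cancel_left (C.φ q) g]
  refine mul_mem ⟨q, hq, rfl⟩ ?_
  rcases hs.cent_both hd.1 (by rw [hs.pL_eq hp hV]; exact hc) hd.2 with h | h <;> rw [h]
  · exact one_mem _
  · exact ⟨_, hp.gzX, rfl⟩

include hs hm2 hV in
/-- the image of an element is a power of that of a moving one -/
theorem Side.power_of {w x : Q} (hw : w ∈ C.N0) (hw1 : C.ρ (hs.hβ hV) e w ≠ 1) (hx : x ∈ C.N0) :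
    ∃ i : ℕ, C.ρ (hs.hβ hV) e ((w ^ i)⁻¹ * x) = 1 := by
  rcases (perm_three _).2.2 _ (C.ρ_cube hm2 (hs.hβ hV) e hw) (C.ρ_cube hm2 (hs.hβ hV) e hx) hw1 with h | h | h
  · exact ⟨0, by simp [h]⟩
  · exact ⟨1, by simp [h]⟩
  · exact ⟨2, by simp [h, pow_two]⟩

include hs hp hm2 hV in
theorem Side.W_le_comm {w : Q} (hw : w ∈ C.W N') (hwQ : w ∈ commutator Q) (hw1 : C.ρ (hs.hβ hV) e w ≠ 1) :
    C.W N' ≤ commutator Q := by
  intro x hx
  obtain ⟨i, hi⟩ := hs.power_of hm2 hV e hw.1 hw1 hx.1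
  rw [← mul_inv_cancel_left (w ^ i) x]
  exact mul_mem (pow_mem hwQ i) (hs.X_le_comm hp hm2 hV e
    (hs.ker_W hp hm2 hV e (mul_mem (inv_mem (pow_mem hw i)) hx) hi))

include hs hp hm2 hV e in
theorem Side.cube_W {x : Q} (hx : x ∈ C.W N') : x ^ 3 ∈ X.map C.φ :=
  hs.ker_W hp hm2 hV e (pow_mem hx 3)
    ((map_pow _ x 3).trans (C.ρ_cube hm2 (hs.hβ hV) e hx.1))

include hs hp hm2 hV in
theorem Side.comm_le {w : Q} (hw : w ∈ C.W N') (hw1 : C.ρ (hs.hβ hV) e w ≠ 1) :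
    commutator Q ≤ C.W N' ⊔ (C.N0 ⊓ centralizer ((X.map C.φ : Subgroup Q) : Set Q)) := by
  intro x hx
  have hxN := C.commutator_le_N0 hx
  obtain ⟨i, hi⟩ := hs.power_of hm2 hV e hw.1 hw1 hxN
  obtain ⟨q, hq, hc⟩ := C.adjust hp hm2 hs.hX (hs.hβ hV) e hi
  rw [show x = w ^ i * C.φ q * ((C.φ q)⁻¹ * ((w ^ i)⁻¹ * x)) by group]
  exact mul_mem (mem_sup_left (mul_mem (pow_mem hw i) (hs.X_le_W hp hV ⟨q, hq, rfl⟩)))
    (mem_sup_right (mem_inf.2 ⟨mul_mem (inv_mem ((C.mem_N0 q).2 (hs.hX hq)))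
      (mul_mem (inv_mem (pow_mem (show w ∈ C.N0 from hw.1) i)) hxN), hc⟩))

include hs hp hm2 hV in
theorem Side.W_sl2 (hcard : Nat.card X = 8) {w : Q} (hw : w ∈ C.W N') (hw1 : C.ρ (hs.hβ hV) e w ≠ 1) :
    IsSL2Odd ↥(C.W N') := by
  haveI : Fact (Nat.Prime 3) := ⟨Nat.prime_three⟩
  set f := (C.ρ (hs.hβ hV) e).comp (C.W N').subtype with hf
  have hker : f.ker = (X.map C.φ).subgroupOf (C.W N') := by
    ext x
    refine ⟨fun h => hs.ker_W hp hm2 hV e x.2 h, fun h => ?_⟩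
    obtain ⟨u, hu, hux⟩ := h
    show C.ρ (hs.hβ hV) e (x : Q) = 1
    rw [show (x : Q) = C.φ u from hux.symm]
    exact C.ρ_inner hm2 _ e (hs.hX hu)
  have hk8 : Nat.card f.ker = 8 := by
    rw [hker, Nat.card_congr (subgroupOfEquivOfLe (hs.X_le_W hp hV)).toEquiv,
      ← Nat.card_congr (X.equivMapOfInjective C.φ C.φ_inj).toEquiv, hcard]
  have hrange : f.range = zpowers (C.ρ (hs.hβ hV) e w) := by
    refine le_antisymm ?_ (zpowers_le.2 ⟨⟨w, hw⟩, rfl⟩)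
    rintro _ ⟨x, rfl⟩
    rcases (perm_three _).2.2 _ (C.ρ_cube hm2 _ e hw.1) (C.ρ_cube hm2 (hs.hβ hV) e x.2.1) hw1 with h | h | h
    · rw [show f x = 1 from h]; exact one_mem _
    · rw [show f x = _ from h]; exact mem_zpowers _
    · rw [show f x = _ from h]; exact mul_mem (mem_zpowers _) (mem_zpowers _)
  have h24 : Nat.card ↥(C.W N') = 24 := by
    rw [← f.ker.card_mul_index, hk8, index_ker, hrange, Nat.card_zpowers,
      orderOf_eq_prime (C.ρ_cube hm2 _ e hw.1) hw1]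
  have hr2 : r * r = gz m := by
    have := hp.r_pow
    rwa [show r ^ m = r * r from (congrArg (r ^ ·) hm2).trans (pow_two r)] at this
  have huniq : ∀ x : ↥(C.W N'), orderOf x = 2 → (x : Q) = C.φ (gz m) := by
    intro x hx
    obtain ⟨h2, hne⟩ := invol_iff.1 hx
    have hx1 : C.ρ (hs.hβ hV) e (x : Q) = 1 := by
      have h := C.ρ_cube hm2 (hs.hβ hV) e x.2.1
      rwa [pow_succ, pow_two, ← map_mul, show (x : Q) * x = 1 from congrArg Subtype.val h2, map_one, one_mul] at h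
    obtain ⟨u, hu, hux⟩ := hs.ker_W hp hm2 hV e x.2 hx1
    have hu2 : u * u = 1 := C.φ_inj (by rw [map_mul, hux, map_one]; exact congrArg Subtype.val h2)
    have hcase : u = 1 ∨ u = gz m := by
      rcases hp.gen u hu with ⟨i, hi⟩ | ⟨i, hi⟩
      · obtain ⟨k, rfl | rfl⟩ := Nat.even_or_odd' i
        · rw [pow_mul, pow_two, hr2] at hi
          obtain ⟨l, rfl | rfl⟩ := Nat.even_or_odd' k
          · rw [pow_mul, pow_two, gz_sq', one_pow] at hi; exact Or.inl hi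
          · rw [pow_succ, pow_mul, pow_two, gz_sq', one_pow, one_mul] at hi; exact Or.inr hi
        · rw [hi, ← pow_add, show 2 * k + 1 + (2 * k + 1) = 2 * (2 * k + 1) by ring, pow_mul, pow_two, hr2,
            pow_succ, pow_mul, pow_two, gz_sq', one_pow, one_mul] at hu2
          exact absurd hu2 gz_ne'
      · have hJi : J * r ^ i = (r ^ i)⁻¹ * J := by
          have := map_pow (MulAut.conj J) r i
          simp only [MulAut.conj_apply, hp.conj, inv_pow] at this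
          exact mul_inv_eq_iff_eq_mul.1 this
        rw [hi, show r ^ i * J * (r ^ i * J) = r ^ i * (J * r ^ i) * J by group, hJi,
          show r ^ i * ((r ^ i)⁻¹ * J) * J = J * J by group, hp.J_sq] at hu2
        exact absurd hu2 gz_ne'
    rcases hcase with rfl | rfl
    · exact absurd (Subtype.ext (hux.symm.trans (map_one _))) hne
    · exact hux.symm
  have hXW : ∀ {u}, u ∈ X → C.φ u ∈ C.W N' := fun hu => hs.X_le_W hp hV ⟨_, hu, rfl⟩
  obtain ⟨t, ht⟩ := exists_prime_orderOf_dvd_card' (G := ↥(C.W N')) 3 (by rw [h24]; norm_num)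
  refine ⟨ZMod 3, inferInstance, inferInstance, by rw [ZMod.card]; decide, ?_⟩
  refine CfsgLib.Char.mulEquiv_SL23_of_order_24 h24 (fun x y hx hy => Subtype.ext ((huniq x hx).trans (huniq y hy).symm))
    f.ker hk8 ⟨⟨C.φ r, hXW hp.rX⟩, ?_, ⟨C.φ J, hXW hp.JX⟩, ?_, fun h => ?_⟩ ht ?_
  · rw [hker]; exact ⟨r, hp.rX, rfl⟩
  · rw [hker]; exact ⟨J, hp.JX, rfl⟩
  · replace h : C.φ r * C.φ J = C.φ J * C.φ r := congrArg Subtype.val h
    rw [← map_mul, ← map_mul] at h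
    have h' : J * r * J⁻¹ = r := by rw [← C.φ_inj h, mul_inv_cancel_right]
    rw [hp.conj, inv_eq_iff_mul_eq_one, hr2] at h'
    exact gz_ne' h'
  · by_contra! hall
    have hcX : (t : Q) ∈ centralizer ((X.map C.φ : Subgroup Q) : Set Q) := by
      refine mem_centralizer_iff.2 fun a ha => ?_
      exact (congrArg Subtype.val (hall ⟨a, hs.X_le_W hp hV ha⟩ (by rw [hker]; exact ha))).symm
    rcases hs.cent_both t.2.1 (by rw [hs.pL_eq hp hV]; exact hcX) t.2.2 with h | h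
    · rw [show t = 1 from Subtype.ext h, orderOf_one] at ht
      omega
    · have h2 : t * t = 1 := Subtype.ext (by
        show (t : Q) * t = 1
        rw [h]; exact (invol_iff.1 C.gz_ord).1)
      have := Nat.le_of_dvd two_pos (orderOf_dvd_of_pow_eq_one (x := t) (n := 2) (by rw [pow_two, h2]))
      omega

include hs hp hm2 hV in
/-- the other factor simple -/
theorem Side.exists_gen_big (hb : Big N') :
    ∃ w ∈ C.W N', w ∈ commutator Q ∧ C.ρ (hs.hβ hV) e w ≠ 1 := by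
  obtain ⟨n, -, hn⟩ := hs.exists_mover_pr hp hm2 hV e
  have hcQ : ⁅C.φ (g10 m), n⁆ ∈ commutator Q := commutator_mem_commutator (mem_top _) (mem_top _)
  have hc := C.comm_moves hp hm2 hs.hX (hs.hβ hV) e hn
  haveI := hs.symm.normal
  obtain ⟨l, hl, c, hcc, hlc⟩ := mem_sup_of_normal_left.1 (hb.2.2 hcQ)
  have hcQ' : c ∈ commutator Q := by
    rw [← hlc] at hcQ
    exact ((commutator Q).mul_mem_cancel_left (hb.1 hl)).1 hcQ
  refine ⟨c, ⟨C.commutator_le_N0 hcQ', hcc⟩, hcQ', fun h => hc ?_⟩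
  rw [← hlc, map_mul, h, mul_one]
  refine ρ_of_cent e ?_
  rw [← hs.pL_eq hp hV]
  exact hs.pL_comm hl

include hs hp hm2 hV in
/-- the other factor a four group -/
theorem Side.exists_gen_four {JY rX : Sd (2 * m)} (hpY : Part m Y X rY JY rX) (hV' : N' = C.Db Y)
    (eY : ↥(C.Db Y) ≃* DihedralGroup 2) :
    ∃ w ∈ C.W N', w ∈ commutator Q ∧ C.ρ (hs.hβ hV) e w ≠ 1 := by
  obtain ⟨n, hnN, hn, hfx⟩ := C.second_mover hp hm2 hs.hX (hs.hβ hV) e P hs.hP hs.hNP' hs.symm.le hs.hY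
    (hs.X_normal hp hV) hs.symm.normal
  have hn1 : C.ρ (hs.symm.hβ hV') eY n = 1 := by
    refine (perm_three _).2.1 (C.ρ_cube hm2 _ eY hnN) _ ((C.ρ_pr hpY hm2 hs.hY (hs.symm.hβ hV') eY).2 ?_)
    rcases hfx with h | h
    · exact C.β_ψ n _ _ h
    · rw [C.β_ψ n _ (⟨rY, hs.hY hpY.rX⟩ * ⟨gz m, hs.hY hpY.gzX⟩) h, map_mul, C.ψ_gz, mul_one]
  have hcQ : ⁅C.φ (g10 m), n⁆ ∈ commutator Q := commutator_mem_commutator (mem_top _) (mem_top _)
  have hc1 : C.ρ (hs.symm.hβ hV') eY ⁅C.φ (g10 m), n⁆ = 1 := by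
    rw [map_commutatorElement, hn1, commutatorElement_one_right]
  obtain ⟨q, hq, hcent⟩ := C.adjust hpY hm2 hs.hY (hs.symm.hβ hV') eY hc1
  have hqQ : C.φ q ∈ commutator Q := hs.symm.X_le_comm hpY hm2 hV' eY ⟨q, hq, rfl⟩
  have hwQ : (C.φ q)⁻¹ * ⁅C.φ (g10 m), n⁆ ∈ commutator Q := mul_mem (inv_mem hqQ) hcQ
  refine ⟨_, ⟨C.commutator_le_N0 hwQ, by rw [hs.symm.pL_eq hpY hV']; exact hcent⟩, hwQ, ?_⟩
  rw [map_mul, map_inv, C.ρ_inner hm2 (hs.hβ hV) e (hs.hY hq), inv_one, one_mul]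
  exact C.comm_moves hp hm2 hs.hX (hs.hβ hV) e hn

include hs hp hm2 hV in
/-- two attached subgroups commute -/
theorem Side.W_comm {JY rX : Sd (2 * m)} (hpY : Part m Y X rY JY rX) (hV' : N' = C.Db Y)
    (eY : ↥(C.Db Y) ≃* DihedralGroup 2) : ⁅C.W N', C.W N⁆ = ⊥ := by
  rw [commutator_eq_bot_iff_le_centralizer]
  intro a ha
  refine mem_centralizer_iff.2 fun b hb => ?_
  haveI := hs.W_normal
  haveI := hs.symm.W_normal
  have hab : ⁅a, b⁆ ∈ C.W N' ⊓ C.W N := by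
    replace hb : b ∈ C.W N := hb
    replace ha : a ∈ C.W N' := ha
    refine mem_inf.2 ⟨?_, mul_mem (hs.symm.W_normal.conj_mem b hb a) (inv_mem hb)⟩
    rw [show ⁅a, b⁆ = a * (b * a⁻¹ * b⁻¹) by rw [commutatorElement_def]; group]
    exact mul_mem ha (hs.W_normal.conj_mem a⁻¹ (inv_mem ha) b)
  rcases hs.cent_both hab.1.1 hab.2.2 hab.1.2 with h | h
  · exact ((commutatorElement_eq_one_iff_mul_comm).1 h).symm
  · exfalso
    have hb3 : b ^ 3 ∈ C.pL N' := by rw [hs.symm.pL_eq hpY hV']; exact hs.symm.cube_W hpY hm2 hV' eY hb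
    have hz2 : C.φ (gz m) * C.φ (gz m) = 1 := (invol_iff.1 C.gz_ord).1
    have hconj : a * b * a⁻¹ = C.φ (gz m) * b := by rw [← h, commutatorElement_def]; group
    have h3 : (a * b * a⁻¹) ^ 3 = b ^ 3 := by
      rw [conj_pow, ← mem_centralizer_iff.1 ha.2 _ hb3, mul_inv_cancel_right]
    have hz3 : C.φ (gz m) ^ 3 = C.φ (gz m) := by rw [pow_succ, pow_two, hz2, one_mul]
    rw [hconj, (Commute.mul_pow (C.central' b).symm 3), mul_eq_right, hz3] at h3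
    exact gz_ne' (C.φ_inj (h3.trans (map_one _).symm))

end V

end Cen

end CfsgLib.Invol.GTwoCent
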