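import Cfsg.Agent.Lib.Invol.GTwoCent.Quotient
import Cfsg.Agent.Lib.GW.Final

/-!
# The two factors and their Sylow subgroups
-/

set_option autoImplicit false
set_option linter.unusedSectionVars false
set_option linter.style.haveILetI false

namespace CfsgLib.Invol.GTwoCent

open Subgroup CfsgLib.Invol CfsgLib.Invol.GTwoOdd CfsgLib.Invol.GTwoOdd.Sd
open scoped commutatorElement

universe u

open CfsgLib.GW in
/-- one class of involutions -/
theorem one_class {N : Type u} [Group N] [Finite N] (hs : IsSimpleGroup N) (hd : DihTwo N) {s t : N}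
    (hs2 : orderOf s = 2) (ht : orderOf t = 2) : ∃ g : N, g * s * g⁻¹ = t :=
  Min.isConj_invol ⟨hs, hd, fun H _ _ _ h1 h2 => gwBelow (Nat.card H) H le_rfl h1 h2⟩ hs2 ht

/-- a subgroup of a factor normal in it is normal -/
theorem normal_of_factor {G : Type*} [Group G] {N N' L : Subgroup G} (hc : ∀ u ∈ N, ∀ v ∈ N', Commute u v)
    (hn : ∀ v ∈ N', v ∈ normalizer (N : Set G)) (htop : N ⊔ N' = ⊤) (hL : L ≤ N)
    (h : ∀ n ∈ N, ∀ l ∈ L, n * l * n⁻¹ ∈ L) : L.Normal := by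
  refine ⟨fun l hl g => ?_⟩
  obtain ⟨a, ha, b, hb, rfl⟩ := CfsgLib.Coprime.mem_sup_exists (N := N) (H := N') hn (htop ▸ mem_top g)
  rw [show a * b * l * (a * b)⁻¹ = a * (b * l) * b⁻¹ * a⁻¹ by group, ← (hc l (hL hl) b hb).eq, ← mul_assoc,
    mul_inv_cancel_right]
  exact h a ha l hl

open CfsgLib.GW in
/-- the possible factors -/
theorem factor_type {G : Type u} [Group G] [Finite G] (hO : Cfsg.oddCore G = ⊥) (P : Sylow 2 G)
    {S N N' : Subgroup G} (hN : N = normalClosure (S : Set G)) (hN' : N'.Normal)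
    (hc : ∀ u ∈ N, ∀ v ∈ N', Commute u v) (htop : N ⊔ N' = ⊤) (hinf : N ⊓ N' = ⊥)
    (hNP : N ⊓ (P : Subgroup G) = S) {m : ℕ} (hm : 2 ≤ m) (e : ↥S ≃* DihedralGroup m)
    (hperf : m ≠ 2 → commutator G = ⊤) :
    (N = S ∧ m = 2) ∨ (IsSimpleGroup ↥N ∧ Group.IsPerfect ↥N ∧ IsPSLTwoOrA7 ↥N ∧ DihTwo ↥N) := by
  classical
  haveI : Fact (Nat.Prime 2) := ⟨Nat.prime_two⟩
  haveI : NeZero m := ⟨by omega⟩
  haveI hNn : N.Normal := hN ▸ normalClosure_normal
  have hSN : S ≤ N := hN ▸ subset_normalClosure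
  have hSP : S ≤ (P : Subgroup G) := hNP ▸ inf_le_right
  have hn : ∀ v ∈ N', v ∈ normalizer (N : Set G) := fun v _ => by rw [normalizer_eq_top]; exact mem_top v
  have min : ∀ L : Subgroup G, L ≤ N → (∀ n ∈ N, ∀ l ∈ L, n * l * n⁻¹ ∈ L) → S ≤ L → L = N := by
    intro L hL h hSL
    haveI := normal_of_factor hc hn htop hL h
    exact le_antisymm hL (hN ▸ normalClosure_le_normal hSL)
  have hON : Cfsg.oddCore ↥N = ⊥ := by
    have h := CfsgLib.Coprime.pPrimeCore_map_subtype_eq (p := 2) Nat.prime_two N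
    rw [show Cfsg.pPrimeCore 2 G = ⊥ from hO, bot_inf_eq] at h
    exact (Subgroup.map_eq_bot_iff_of_injective _ N.subtype_injective).1 h
  have hodd : ¬ 2 ∣ ((P : Subgroup G).subgroupOf N).index := fun h =>
    P.not_dvd_index (h.trans (CfsgLib.ProdFusion.relIndex_dvd_of_normal _ N))
  let R : Sylow 2 ↥N := (P.2.comap_subtype (K := N)).toSylow hodd
  have hR : (R : Subgroup ↥N).map N.subtype = S := by
    show ((P : Subgroup G).subgroupOf N).map N.subtype = S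
    rw [subgroupOf_map_subtype, inf_comm, hNP]
  have eR : ↥(R : Subgroup ↥N) ≃* DihedralGroup m :=
    ((equivMapOfInjective _ _ N.subtype_injective).trans (MulEquiv.subgroupCongr hR)).trans e
  have hdih : DihTwo ↥N := dihTwo_of_sylow R hm eR
  have hS4 : Nat.card S = 2 * m := by rw [Nat.card_congr e.toEquiv, DihedralGroup.nat_card]
  by_cases h2 : m = 2
  swap
  · right
    have hc' : ∀ u ∈ N, ∀ v ∈ N', ⁅u, v⁆ = 1 := fun u hu v hv =>
      commutatorElement_eq_one_iff_commute.2 (hc u hu v hv)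
    have hle : commutator G ≤ (commutator ↥N).map N.subtype ⊔ N' := by
      refine commutator_le.2 fun x _ y _ => ?_
      obtain ⟨a, ha, b, hb, rfl⟩ := CfsgLib.Coprime.mem_sup_exists (N := N) (H := N') hn (htop ▸ mem_top x)
      obtain ⟨c, hc2, d, hd, rfl⟩ := CfsgLib.Coprime.mem_sup_exists (N := N) (H := N') hn (htop ▸ mem_top y)
      have h1 : ⁅a * b, c * d⁆ = ⁅a, c⁆ * ⁅b, d⁆ := by
        have k1 : b * c = c * b := (hc c hc2 b hb).eq.symm
        have k2 : d * a⁻¹ = a⁻¹ * d := (hc a⁻¹ (inv_mem ha) d hd).eq.symm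
        have k3 : b⁻¹ * a⁻¹ = a⁻¹ * b⁻¹ := (hc a⁻¹ (inv_mem ha) b⁻¹ (inv_mem hb)).eq.symm
        have k4 : (b * d * b⁻¹ * d⁻¹) * c⁻¹ = c⁻¹ * (b * d * b⁻¹ * d⁻¹) :=
          (hc c⁻¹ (inv_mem hc2) _ (mul_mem (mul_mem (mul_mem hb hd) (inv_mem hb)) (inv_mem hd))).eq.symm
        rw [commutatorElement_def, commutatorElement_def, commutatorElement_def]
        calc a * b * (c * d) * (a * b)⁻¹ * (c * d)⁻¹
            = a * (b * c) * d * (b⁻¹ * a⁻¹) * (d⁻¹ * c⁻¹) := by group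
          _ = a * c * b * (d * a⁻¹) * b⁻¹ * d⁻¹ * c⁻¹ := by rw [k1, k3]; group
          _ = a * c * (b * a⁻¹) * d * b⁻¹ * d⁻¹ * c⁻¹ := by rw [k2]; group
          _ = a * c * (a⁻¹ * b) * d * b⁻¹ * d⁻¹ * c⁻¹ := by rw [(hc a⁻¹ (inv_mem ha) b hb).eq]
          _ = a * c * a⁻¹ * ((b * d * b⁻¹ * d⁻¹) * c⁻¹) := by group
          _ = _ := by rw [k4]; group
      rw [h1]
      refine mul_mem (le_sup_left (a := (commutator ↥N).map N.subtype)
        ⟨⁅⟨a, ha⟩, ⟨c, hc2⟩⁆, commutator_mem_commutator (mem_top _) (mem_top _), rfl⟩) ?_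
      exact le_sup_right (a := (commutator ↥N).map N.subtype)
        (mul_mem (mul_mem (mul_mem hb hd) (inv_mem hb)) (inv_mem hd))
    haveI : Group.IsPerfect ↥N := by
      rw [Group.isPerfect_def, eq_top_iff]
      intro x _
      have hx : (x : G) ∈ (commutator ↥N).map N.subtype ⊔ N' := hle ((hperf h2).symm ▸ mem_top _)
      obtain ⟨a, ha, b, hb, hab⟩ := CfsgLib.Coprime.mem_sup_exists
        (fun v hv => centralizer_le_normalizer _ (mem_centralizer_iff.2 fun a ha =>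
          (hc a (map_subtype_le _ ha) v hv).eq)) hx
      have hb1 : b ∈ N ⊓ N' := ⟨by simpa [← hab] using mul_mem (inv_mem (map_subtype_le _ ha)) x.2, hb⟩
      rw [hinf, mem_bot] at hb1
      obtain ⟨y, hy, rfl⟩ := ha
      rw [hb1, mul_one] at hab
      rwa [show x = y from Subtype.ext hab.symm]
    have h := gw_perfect ↥N hdih
    have hPS : IsPSLTwoOrA7 ↥N :=
      IsPSLTwoOrA7.congr ((QuotientGroup.quotientMulEquivOfEq hON).trans QuotientGroup.quotientBot).symm h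
    refine ⟨?_, inferInstance, hPS, hdih⟩
    rcases hPS with ⟨F, i1, i2, ho, h3, ⟨f⟩⟩ | ⟨⟨f⟩⟩
    · haveI := (CfsgLib.Perm.Dickson.psl_simple_noncomm (F := F) (by rw [Nat.card_eq_fintype_card]; omega)).1
      exact f.isSimpleGroup
    · haveI : IsSimpleGroup ↥(alternatingGroup (Fin 7)) := alternatingGroup.isSimpleGroup (by simp)
      exact f.isSimpleGroup
  rcases structure_core hdih hON (gwBelow _) with h | h | ⟨M, hM, hMs, hMc, hMd, -, hMP⟩
  · left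
    refine ⟨le_antisymm (fun x hx => ?_) hSN, h2⟩
    have hpg : IsPGroup 2 N := h
    obtain ⟨g, hg⟩ := exists_conj_le_sylow hpg P
    have h1 : N ≤ (P : Subgroup G) := fun y hy => by
      have := hg (g⁻¹ * y * g) (by simpa using hNn.conj_mem y hy g⁻¹)
      rwa [show g * (g⁻¹ * y * g) * g⁻¹ = y by group] at this
    exact hNP ▸ ⟨hx, h1 hx⟩
  · exfalso
    obtain ⟨V, hV, hVk, -, hVc⟩ := h
    have hcardN : Nat.card S * ((R : Subgroup ↥N).index) = Nat.card N := by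
      rw [← hR, card_map_of_injective N.subtype_injective, card_mul_index]
    have hoddR : ¬ 2 ∣ (R : Subgroup ↥N).index := R.not_dvd_index
    obtain ⟨g, hg⟩ := exists_conj_le_sylow (IsPGroup.of_card (n := 2) hVk.card_four) R
    have hVS : V.map N.subtype = S := by
      refine eq_of_le_of_card_ge ?_ (by rw [card_map_of_injective N.subtype_injective, hVk.card_four, hS4, h2])
      rintro _ ⟨v, hv, rfl⟩
      rw [← hR]
      exact ⟨v, by
        have := hg (g⁻¹ * v * g) (by simpa using hV.conj_mem v hv g⁻¹)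
        simpa [mul_assoc] using this, rfl⟩
    have hN4 : V.map N.subtype = N := by
      refine min _ (map_subtype_le _) ?_ hVS.ge
      rintro n hn' _ ⟨v, hv, rfl⟩
      exact ⟨⟨n, hn'⟩ * v * ⟨n, hn'⟩⁻¹, hV.conj_mem v hv _, rfl⟩
    have := card_map_of_injective N.subtype_injective (K := V)
    rw [hN4, hVk.card_four] at this
    omega
  · right
    have hMtop : M = ⊤ := by
      have hMN : M.map N.subtype = N := by
        refine min _ (map_subtype_le _) ?_ ?_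
        · rintro n hn' _ ⟨v, hv, rfl⟩
          exact ⟨⟨n, hn'⟩ * v * ⟨n, hn'⟩⁻¹, hM.conj_mem v hv _, rfl⟩
        obtain ⟨T⟩ : Nonempty (Sylow 2 ↥M) := inferInstance
        obtain ⟨k, hk, ⟨f⟩⟩ := hMd T
        obtain ⟨g, hg⟩ := exists_conj_le_sylow (T.2.map M.subtype) R
        intro x hx
        rw [← hR] at hx
        obtain ⟨y, hy, rfl⟩ := hx
        refine ⟨y, ?_, rfl⟩
        let T' : Subgroup ↥N := ((T : Subgroup ↥M).map M.subtype).map (MulAut.conj g).toMonoidHom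
        have hT'R : T' ≤ (R : Subgroup ↥N) := by rintro _ ⟨t, ht, rfl⟩; exact hg t ht
        have hcT : Nat.card T' = 2 * k := by
          rw [card_map_of_injective (MulEquiv.injective _), card_map_of_injective M.subtype_injective,
            Nat.card_congr f.toEquiv, DihedralGroup.nat_card]
        have hcR : Nat.card (R : Subgroup ↥N) = 4 := by
          rw [Nat.card_congr eR.toEquiv, DihedralGroup.nat_card, h2]
        have heq : T' = (R : Subgroup ↥N) := eq_of_le_of_card_ge hT'R (by rw [hcT, hcR]; omega)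
        rw [← heq] at hy
        obtain ⟨_, ⟨t, -, rfl⟩, rfl⟩ := hy
        exact hM.conj_mem _ t.2 g
      refine map_injective N.subtype_injective (hMN.trans ?_)
      rw [← MonoidHom.range_eq_map, N.range_subtype]
    subst hMtop
    haveI : IsSimpleGroup ↥(⊤ : Subgroup ↥N) := hMs
    haveI hs : IsSimpleGroup ↥N := (topEquiv (G := ↥N)).symm.isSimpleGroup
    refine ⟨hs, ?_, IsPSLTwoOrA7.congr topEquiv.symm hMP, hdih⟩
    rw [Group.isPerfect_def]
    refine ((commutator ↥N).normal_of_characteristic.eq_bot_or_eq_top).resolve_left fun h => hMc ⟨⟨fun x y => ?_⟩⟩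
    have : ⁅(x : ↥N), (y : ↥N)⁆ ∈ commutator ↥N := commutator_mem_commutator (mem_top _) (mem_top _)
    rw [h, mem_bot] at this
    exact Subtype.ext (commutatorElement_eq_one_iff_mul_comm.1 this)

namespace Cen

variable {Q : Type u} [Group Q] [Finite Q] {m : ℕ} [NeZero m] (C : Cen Q m)

/-- the preimage of a subgroup of the inner part modulo the centre -/
def pre (S : Subgroup (↥C.K ⧸ C.Zk)) : Subgroup (Sd (2 * m)) := (S.comap C.ψ).map (inner m).subtype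

theorem mem_pre {S : Subgroup (↥C.K ⧸ C.Zk)} {u : Sd (2 * m)} :
    u ∈ C.pre S ↔ ∃ h : u ∈ inner m, C.ψ ⟨u, h⟩ ∈ S :=
  ⟨fun ⟨v, hv, e⟩ => ⟨e ▸ v.2, by subst e; exact hv⟩, fun ⟨h, hS⟩ => ⟨⟨u, h⟩, hS, rfl⟩⟩

theorem ψ_gz (h : gz m ∈ inner m) : C.ψ ⟨gz m, h⟩ = 1 := C.ψ_eq_one.2 (Or.inr rfl)

theorem gz_inner : gz m ∈ inner m := mem_inner.2 rfl

theorem gz_pre (S : Subgroup (↥C.K ⧸ C.Zk)) : gz m ∈ C.pre S :=
  C.mem_pre.2 ⟨gz_inner, by rw [C.ψ_gz]; exact one_mem _⟩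

theorem pre_fill {S₁ S₂ : Subgroup (↥C.K ⧸ C.Zk)} (hS : C.ψ.range ≤ S₁ ⊔ S₂)
    (hc : ∀ a ∈ S₁, ∀ b ∈ S₂, a * b = b * a) (h1 : S₁ ≤ C.ψ.range) :
    ∀ u ∈ inner m, ∃ a ∈ C.pre S₁, ∃ b ∈ C.pre S₂, u = a * b := by
  intro u hu
  obtain ⟨x, hx, y, hy, hxy⟩ := CfsgLib.Coprime.mem_sup_exists (fun w hw => centralizer_le_normalizer _
    (mem_centralizer_iff.2 fun a ha => hc a ha w hw)) (hS ⟨⟨u, hu⟩, rfl⟩)
  obtain ⟨a, rfl⟩ := h1 hx
  refine ⟨a, C.mem_pre.2 ⟨a.2, hx⟩, (a : Sd (2 * m))⁻¹ * u, C.mem_pre.2 ⟨mul_mem (inv_mem a.2) hu, ?_⟩, by group⟩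
  rw [show (⟨(a : Sd (2 * m))⁻¹ * u, mul_mem (inv_mem a.2) hu⟩ : inner m) = a⁻¹ * ⟨u, hu⟩ from rfl, map_mul,
    map_inv, ← hxy, inv_mul_cancel_left]
  exact hy

/-- lifts of factors commute -/
theorem lifts_comm {N N' : Subgroup (↥C.K ⧸ C.Zk)} (hc : ∀ u ∈ N, ∀ v ∈ N', Commute u v)
    (hN : Group.IsPerfect ↥N) {a b : ↥C.K} (ha : QuotientGroup.mk' C.Zk a ∈ N) (hb : QuotientGroup.mk' C.Zk b ∈ N') :
    Commute a b := by
  set π := QuotientGroup.mk' C.Zk with hπ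
  have hcen : ∀ x y : ↥C.K, π x ∈ N → π y ∈ N' → ⁅x, y⁆ ∈ center ↥C.K := fun x y hx hy => C.Zk_central (by
    rw [← QuotientGroup.eq_one_iff, ← QuotientGroup.mk'_apply, map_commutatorElement]
    exact commutatorElement_eq_one_iff_commute.2 (hc _ hx _ hy))
  set P₁ := N.comap π
  set P₂ := N'.comap π
  have h1 : ⁅⁅P₁, P₂⁆, P₁⁆ = ⊥ := by
    rw [commutator_eq_bot_iff_le_centralizer]
    exact (commutator_le.2 fun x hx y hy => hcen x y hx hy).trans (center_le_centralizer _)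
  have h2 : ⁅⁅P₂, P₁⁆, P₁⁆ = ⊥ := by rwa [commutator_comm P₂ P₁]
  have h3 : ⁅⁅P₁, P₁⁆, P₂⁆ = ⊥ := commutator_commutator_eq_bot_of_rotate h1 h2
  rw [commutator_eq_bot_iff_le_centralizer] at h3
  have hle : N ≤ (⁅P₁, P₁⁆).map π := by
    rw [map_commutator, map_comap_eq_self_of_surjective (QuotientGroup.mk'_surjective _)]
    have h := congrArg (Subgroup.map N.subtype) (hN.commutator_eq_top)
    rw [← MonoidHom.range_eq_map, N.range_subtype, _root_.commutator_def, map_commutator,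
      ← MonoidHom.range_eq_map, N.range_subtype] at h
    exact h.ge
  obtain ⟨c, hc', hca⟩ := hle ha
  have hz : c⁻¹ * a ∈ center ↥C.K := C.Zk_central (by
    rw [← QuotientGroup.eq_one_iff, ← QuotientGroup.mk'_apply, map_mul, map_inv, ← hπ, hca, inv_mul_cancel])
  rw [show a = c * (c⁻¹ * a) by group]
  exact Commute.mul_left (mem_centralizer_iff.1 (h3 hc') b hb).symm (mem_center_iff.1 hz b).symm

theorem pre_comm {N N' : Subgroup (↥C.K ⧸ C.Zk)} (hc : ∀ u ∈ N, ∀ v ∈ N', Commute u v)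
    (hN : Group.IsPerfect ↥N) {S S' : Subgroup (↥C.K ⧸ C.Zk)} (h : S ≤ N) (h' : S' ≤ N') {a b : Sd (2 * m)}
    (ha : a ∈ C.pre S) (hb : b ∈ C.pre S') : a * b = b * a := by
  obtain ⟨hai, ha'⟩ := C.mem_pre.1 ha
  obtain ⟨hbi, hb'⟩ := C.mem_pre.1 hb
  have := C.lifts_comm hc hN (a := C.φK ⟨a, hai⟩) (b := C.φK ⟨b, hbi⟩) (h ha') (h' hb')
  refine C.φ_inj ?_
  rw [map_mul, map_mul]
  exact congrArg Subtype.val this.eq

/-- a simple factor lifts to a group with one involution in its Sylow subgroup -/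
theorem pre_root {N S S' : Subgroup (↥C.K ⧸ C.Zk)} (hs : IsSimpleGroup ↥N) (hd : CfsgLib.GW.DihTwo ↥N)
    (hSN : S ≤ N) (hSr : S ≤ C.ψ.range) (e : ↥S ≃* DihedralGroup m) (hfill : ∀ u ∈ inner m, ∃ a ∈ C.pre S, ∃ b ∈ C.pre S', u = a * b)
    (hcomm : ∀ a ∈ C.pre S, ∀ b ∈ C.pre S', a * b = b * a) :
    (∀ v ∈ C.pre S, v * v = 1 → v = 1 ∨ v = gz m) ∧ C.pre S ≤ closure {v | v ∈ C.pre S ∧ v * v = gz m} := by
  classical
  haveI := hs
  have sq_cases : ∀ v ∈ C.pre S, ∀ h : v ∈ inner m, C.ψ ⟨v, h⟩ * C.ψ ⟨v, h⟩ = 1 → v * v = 1 ∨ v * v = gz m := by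
    intro v _ h hh
    rw [← map_mul] at hh
    exact C.ψ_eq_one.1 hh
  have sq_lift : ∀ v w : inner m, C.ψ v ∈ N → C.ψ w ∈ N → orderOf (C.ψ v) = 2 → orderOf (C.ψ w) = 2 →
      (v : Sd (2 * m)) * v = 1 → (w : Sd (2 * m)) * w = 1 := by
    intro v w hv hw hv2 hw2 hvv
    obtain ⟨g, hg⟩ := one_class hs hd (s := ⟨C.ψ v, hv⟩) (t := ⟨C.ψ w, hw⟩) (by rw [Subgroup.orderOf_mk, hv2])
      (by rw [Subgroup.orderOf_mk, hw2])
    obtain ⟨k, hk⟩ := QuotientGroup.mk'_surjective C.Zk (g : ↥C.K ⧸ C.Zk)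
    have hq : QuotientGroup.mk' C.Zk (k * C.φK v * k⁻¹) = QuotientGroup.mk' C.Zk (C.φK w) := by
      rw [map_mul, map_mul, map_inv, hk]
      exact congrArg Subtype.val hg
    obtain ⟨z, hz, ez⟩ := (QuotientGroup.mk'_eq_mk' C.Zk).1 hq
    have hkk : k * C.φK v * k⁻¹ * (k * C.φK v * k⁻¹) = 1 := by
      rw [show k * C.φK v * k⁻¹ * (k * C.φK v * k⁻¹) = k * C.φK (v * v) * k⁻¹ by rw [map_mul]; group,
        show v * v = 1 from Subtype.ext hvv, map_one, mul_one, mul_inv_cancel]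
    have hzz : z * z = 1 := Subtype.ext (by
      show (z : Q) * (z : Q) = 1
      rcases C.mem_Zk.1 hz with h | h <;> rw [h]
      · exact one_mul 1
      · exact (invol_iff.1 C.gz_ord).1)
    have hww : C.φK w * C.φK w = 1 := by
      rw [← ez]
      have hcz := mem_center_iff.1 (C.Zk_central hz) (k * C.φK v * k⁻¹)
      calc k * C.φK v * k⁻¹ * z * (k * C.φK v * k⁻¹ * z)
          = k * C.φK v * k⁻¹ * (z * (k * C.φK v * k⁻¹)) * z := by group
        _ = (k * C.φK v * k⁻¹ * (k * C.φK v * k⁻¹)) * (z * z) := by rw [← hcz]; group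
        _ = 1 := by rw [hkk, hzz, one_mul]
    refine C.φ_inj ?_
    rw [map_mul, map_one]
    exact congrArg Subtype.val hww
  -- lifts of the elements of `S`
  have lift : ∀ x ∈ S, x ∈ C.ψ.range → ∃ h : inner m, C.ψ h = x ∧ (h : Sd (2 * m)) ∈ C.pre S := by
    rintro x hx ⟨h, rfl⟩
    exact ⟨h, rfl, C.mem_pre.2 ⟨h.2, hx⟩⟩
  have hS2 : ∀ i : ZMod m, orderOf (e.symm (DihedralGroup.sr i) : ↥C.K ⧸ C.Zk) = 2 := fun i => by
    rw [Subgroup.orderOf_coe, MulEquiv.orderOf_eq, DihedralGroup.orderOf_sr]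
  have huniq : ∀ v ∈ C.pre S, v * v = 1 → v = 1 ∨ v = gz m := by
    intro v hv hvv
    by_contra hne
    rw [not_or] at hne
    obtain ⟨hvi, hvS⟩ := C.mem_pre.1 hv
    have hv2 : orderOf (C.ψ ⟨v, hvi⟩) = 2 := invol_iff.2 ⟨by
      rw [← map_mul, show (⟨v, hvi⟩ : inner m) * ⟨v, hvi⟩ = 1 from Subtype.ext hvv, map_one], fun h => by
        rcases C.ψ_eq_one.1 h with h | h
        exacts [hne.1 h, hne.2 h]⟩
    have all : ∀ w : inner m, C.ψ w ∈ S → C.ψ w * C.ψ w = 1 → (w : Sd (2 * m)) * w = 1 := by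
      intro w hw hw2
      by_cases h1 : C.ψ w = 1
      · rcases C.ψ_eq_one.1 h1 with h | h <;> rw [h]
        exacts [one_mul 1, gz_sq']
      exact sq_lift ⟨v, hvi⟩ w (hSN hvS) (hSN hw) hv2 (invol_iff.2 ⟨hw2, h1⟩) hvv
    have commlift : ∀ a b : inner m, C.ψ a ∈ S → C.ψ b ∈ S → C.ψ a * C.ψ a = 1 → C.ψ b * C.ψ b = 1 →
        C.ψ a * C.ψ b = C.ψ b * C.ψ a → (a : Sd (2 * m)) * b = b * a := by
      intro a b ha hb ha2 hb2 hab
      have h3 : C.ψ (a * b) * C.ψ (a * b) = 1 := by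
        rw [map_mul]
        calc C.ψ a * C.ψ b * (C.ψ a * C.ψ b) = C.ψ a * (C.ψ b * C.ψ a) * C.ψ b := by group
          _ = (C.ψ a * C.ψ a) * (C.ψ b * C.ψ b) := by rw [← hab]; group
          _ = 1 := by rw [ha2, hb2, one_mul]
      have e1 := all a ha ha2
      have e2 := all b hb hb2
      have e3 := all (a * b) (by rw [map_mul]; exact mul_mem ha hb) h3
      rw [Subgroup.coe_mul] at e3
      calc (a : Sd (2 * m)) * b = ((a : Sd (2 * m)) * b)⁻¹ := (inv_eq_of_mul_eq_one_right e3).symm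
        _ = (b : Sd (2 * m))⁻¹ * (a : Sd (2 * m))⁻¹ := by rw [_root_.mul_inv_rev]
        _ = b * a := by rw [inv_eq_of_mul_eq_one_right e1, inv_eq_of_mul_eq_one_right e2]
    obtain ⟨j, hj⟩ := C.even
    have hjm : (j : ZMod m) + j = 0 := by
      have h : ((2 * j : ℕ) : ZMod m) = ((0 : ℕ) : ZMod m) := by rw [← hj, ZMod.natCast_self, Nat.cast_zero]
      push_cast at h
      linear_combination h
    have hrange : S ≤ C.ψ.range := hSr
    have cdih : ∀ i : ZMod m, (DihedralGroup.r ((j : ZMod m))) * DihedralGroup.sr i =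
        DihedralGroup.sr i * DihedralGroup.r ((j : ZMod m)) := fun i => by
      rw [DihedralGroup.r_mul_sr, DihedralGroup.sr_mul_r]
      congr 1
      linear_combination -hjm
    have hr2 : (DihedralGroup.r ((j : ZMod m))) * DihedralGroup.r ((j : ZMod m)) = 1 := by
      rw [DihedralGroup.r_mul_r, hjm]; rfl
    obtain ⟨c, hcψ⟩ := hrange (e.symm (DihedralGroup.r ((j : ZMod m)))).2
    have hcS : C.ψ c ∈ S := hcψ ▸ (e.symm _).2
    have hc2 : C.ψ c * C.ψ c = 1 := by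
      rw [hcψ, ← Subgroup.coe_mul, ← map_mul, hr2, map_one, OneMemClass.coe_one]
    have hcsr : ∀ (i : ZMod m) (s : inner m), C.ψ s = (e.symm (DihedralGroup.sr i) : ↥C.K ⧸ C.Zk) →
        (c : Sd (2 * m)) * s = s * c := fun i s hs' => by
      refine commlift c s hcS (hs' ▸ (e.symm _).2) hc2 ?_ ?_
      · rw [hs', ← Subgroup.coe_mul, ← map_mul, DihedralGroup.sr_mul_sr, sub_self, ← DihedralGroup.one_def, map_one,
          OneMemClass.coe_one]
      · rw [hcψ, hs', ← Subgroup.coe_mul, ← Subgroup.coe_mul, ← map_mul, ← map_mul, cdih]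
    have hcA : ∀ a ∈ C.pre S, (c : Sd (2 * m)) * a = a * c := by
      intro a ha
      obtain ⟨hai, haS⟩ := C.mem_pre.1 ha
      have hcong : ∀ w : inner m, C.ψ w = C.ψ ⟨a, hai⟩ → (c : Sd (2 * m)) * w = w * c →
          (c : Sd (2 * m)) * a = a * c := by
        intro w hw hcw
        have h : C.ψ (w⁻¹ * ⟨a, hai⟩) = 1 := by rw [map_mul, map_inv, hw, inv_mul_cancel]
        rcases C.ψ_eq_one.1 h with h | h
        · rw [show a = (w : Sd (2 * m)) from (inv_mul_eq_one.1 h).symm]; exact hcw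
        · rw [show a = (w : Sd (2 * m)) * gz m from inv_mul_eq_iff_eq_mul.1 h, ← mul_assoc, hcw, mul_assoc,
            gz_central, ← mul_assoc]
      rcases hd' : e ⟨_, haS⟩ with i | i
      · obtain ⟨s, hs'⟩ := hrange (e.symm (DihedralGroup.sr 0)).2
        obtain ⟨t, ht⟩ := hrange (e.symm (DihedralGroup.sr i)).2
        refine hcong (s * t) ?_ ?_
        · rw [map_mul, hs', ht, ← Subgroup.coe_mul, ← map_mul, DihedralGroup.sr_mul_sr, sub_zero, ← hd',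
            MulEquiv.symm_apply_apply]
        · rw [Subgroup.coe_mul, ← mul_assoc, hcsr 0 s hs', mul_assoc, hcsr i t ht, ← mul_assoc]
      · exact hcsr i ⟨a, hai⟩ (by rw [← hd', MulEquiv.symm_apply_apply])
    have hcpre : (c : Sd (2 * m)) ∈ C.pre S := C.mem_pre.2 ⟨c.2, hcS⟩
    rcases central_inner C.two_le C.even (u := (c : Sd (2 * m))) (fun x hx => by
      obtain ⟨a, ha, b, hb, rfl⟩ := hfill x (mem_inner.2 hx)
      rw [← mul_assoc, hcA a ha, mul_assoc, hcomm _ hcpre b hb, ← mul_assoc]) with h | h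
    all_goals
      have h1 : C.ψ c = 1 := C.ψ_eq_one.2 (by simp [h])
      rw [hcψ] at h1
      have h2 : e.symm (DihedralGroup.r ((j : ZMod m))) = 1 := Subtype.ext h1
      rw [← map_one e.symm, e.symm.injective.eq_iff, DihedralGroup.one_def, DihedralGroup.r.injEq,
        ZMod.natCast_eq_zero_iff] at h2
      have := Nat.le_of_dvd (by have := C.two_le; omega) h2
      have := C.two_le
      omega
  refine ⟨huniq, fun a ha => ?_⟩
  set A := closure {v | v ∈ C.pre S ∧ v * v = gz m} with hA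
  obtain ⟨hai, haS⟩ := C.mem_pre.1 ha
  have rootS : ∀ i : ZMod m, ∀ s : inner m, C.ψ s = (e.symm (DihedralGroup.sr i) : ↥C.K ⧸ C.Zk) →
      (s : Sd (2 * m)) ∈ A := by
    intro i s hs'
    have hmem : (s : Sd (2 * m)) ∈ C.pre S := C.mem_pre.2 ⟨s.2, hs' ▸ (e.symm _).2⟩
    refine subset_closure ⟨hmem, (sq_cases _ hmem s.2 ?_).resolve_left fun h => ?_⟩
    · rw [hs', ← pow_two, ← hS2 i, pow_orderOf_eq_one]
    · have hne := invol_ne_one (hS2 i)
      rw [← hs', Ne, C.ψ_eq_one] at hne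
      exact hne (huniq _ hmem h)
  obtain ⟨s, hs'⟩ := hSr (e.symm (DihedralGroup.sr 0)).2
  have hgz : gz m ∈ A := by
    have hmem : (s : Sd (2 * m)) ∈ C.pre S := C.mem_pre.2 ⟨s.2, hs' ▸ (e.symm _).2⟩
    have h := sq_cases _ hmem s.2 (by rw [hs', ← pow_two, ← hS2 0, pow_orderOf_eq_one])
    rcases h with h | h
    · have hne := invol_ne_one (hS2 0)
      rw [← hs', Ne, C.ψ_eq_one] at hne
      exact absurd (huniq _ hmem h) hne
    · rw [← h]
      exact mul_mem (rootS 0 s hs') (rootS 0 s hs')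
  have hcong : ∀ w : inner m, C.ψ w = C.ψ ⟨a, hai⟩ → (w : Sd (2 * m)) ∈ A → a ∈ A := by
    intro w hw hwA
    have h : C.ψ (w⁻¹ * ⟨a, hai⟩) = 1 := by rw [map_mul, map_inv, hw, inv_mul_cancel]
    rcases C.ψ_eq_one.1 h with h | h
    · rw [show a = (w : Sd (2 * m)) from (inv_mul_eq_one.1 h).symm]; exact hwA
    · rw [show a = (w : Sd (2 * m)) * gz m from inv_mul_eq_iff_eq_mul.1 h]
      exact mul_mem hwA hgz
  rcases hd' : e ⟨_, haS⟩ with i | i
  · obtain ⟨t, ht⟩ := hSr (e.symm (DihedralGroup.sr i)).2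
    refine hcong (s * t) ?_ (mul_mem (rootS 0 s hs') (rootS i t ht))
    rw [map_mul, hs', ht, ← Subgroup.coe_mul, ← map_mul, DihedralGroup.sr_mul_sr, sub_zero, ← hd',
      MulEquiv.symm_apply_apply]
  · exact rootS i ⟨a, hai⟩ (by rw [← hd', MulEquiv.symm_apply_apply])

/-- the two factors, labelled by the quaternion parts -/
theorem exists_sides : ∃ (P : Sylow 2 (↥C.K ⧸ C.Zk)) (N₁ N₂ : Subgroup (↥C.K ⧸ C.Zk)),
    (P : Subgroup (↥C.K ⧸ C.Zk)) = C.ψ.range ∧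
    N₁ = normalClosure (C.Db (Q1 m) : Set (↥C.K ⧸ C.Zk)) ∧ N₂ = normalClosure (C.Db (Q2 m) : Set (↥C.K ⧸ C.Zk)) ∧
    N₁ ⊔ N₂ = ⊤ ∧ N₁ ⊓ N₂ = ⊥ ∧ N₁ ⊓ (P : Subgroup (↥C.K ⧸ C.Zk)) = C.Db (Q1 m) ∧
    N₂ ⊓ (P : Subgroup (↥C.K ⧸ C.Zk)) = C.Db (Q2 m) ∧
    ((N₁ = C.Db (Q1 m) ∧ m = 2) ∨
      (IsSimpleGroup ↥N₁ ∧ Group.IsPerfect ↥N₁ ∧ CfsgLib.GW.IsPSLTwoOrA7 ↥N₁)) ∧
    ((N₂ = C.Db (Q2 m) ∧ m = 2) ∨
      (IsSimpleGroup ↥N₂ ∧ Group.IsPerfect ↥N₂ ∧ CfsgLib.GW.IsPSLTwoOrA7 ↥N₂)) ∧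
    ∀ a b : ↥C.K, QuotientGroup.mk' C.Zk a ∈ N₁ → QuotientGroup.mk' C.Zk b ∈ N₂ → Commute a b := by
  classical
  obtain ⟨P, hP⟩ := C.range_ψ_sylow
  obtain ⟨S₁, S₂, hp, ⟨e₁⟩, ⟨e₂⟩, c1, c2, h2⟩ := C.exists_closed P hP
  obtain ⟨hc, htop, hinf, hN1, hN2⟩ := direct_of_closed C.oddCore_Kb C.Kb_no_odd_index P hp c1 c2
  have hperf : m ≠ 2 → commutator (↥C.K ⧸ C.Zk) = ⊤ := fun hm => C.Kb_perfect (by
    haveI : Fact (Nat.Prime 2) := ⟨Nat.prime_two⟩
    obtain ⟨k, hk⟩ := IsPGroup.exists_card_eq (C.T.2.of_equiv C.e.symm)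
    rw [card_Sd] at hk
    have hdvd : m ∣ 2 ^ k := ⟨16 * m, by rw [← hk]; ring⟩
    obtain ⟨l, -, rfl⟩ := (Nat.dvd_prime_pow Nat.prime_two).1 hdvd
    have h1 := C.two_le
    exact pow_dvd_pow 2 (show 2 ≤ l by
      by_contra h
      interval_cases l <;> simp_all))
  set N₁ := normalClosure (S₁ : Set (↥C.K ⧸ C.Zk)) with hdef1
  set N₂ := normalClosure (S₂ : Set (↥C.K ⧸ C.Zk)) with hdef2
  have t1 := factor_type C.oddCore_Kb P hdef1 normalClosure_normal hc htop hinf hN1 C.two_le e₁ hperf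
  have t2 := factor_type C.oddCore_Kb P hdef2 normalClosure_normal (fun u hu v hv => (hc v hv u hu).symm)
    ((sup_comm _ _).trans htop) ((inf_comm _ _).trans hinf) hN2 C.two_le e₂ hperf
  obtain ⟨hS1, hS2, hcomm, hdisj, hsup⟩ := hp
  rw [hP] at hS1 hS2 hsup
  have hfill := C.pre_fill (hsup.ge) hcomm hS1
  have hfill' := C.pre_fill (S₁ := S₂) (S₂ := S₁) ((hsup.ge).trans (sup_comm _ _).le)
    (fun a ha b hb => (hcomm b hb a ha).symm) hS2
  have hpre : ∀ X : Subgroup (Sd (2 * m)), X ≤ inner m → ∀ S : Subgroup (↥C.K ⧸ C.Zk), S ≤ C.ψ.range →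
      C.pre S = X → S = C.Db X := by
    intro X hX S hS e
    subst e
    refine le_antisymm (fun x hx => ?_) ?_
    · obtain ⟨u, rfl⟩ := hS hx
      exact ⟨u, C.mem_pre.2 ⟨u.2, hx⟩, rfl⟩
    · rintro _ ⟨u, hu, rfl⟩
      obtain ⟨h, hh⟩ := C.mem_pre.1 hu
      exact hh
  by_cases hm2 : m = 2
  · obtain ⟨e1, e2⟩ := h2 hm2
    subst e1 e2
    refine ⟨P, N₁, N₂, hP, rfl, rfl, htop, hinf, hN1, hN2, t1.imp id fun t => ⟨t.1, t.2.1, t.2.2.1⟩,
      t2.imp id fun t => ⟨t.1, t.2.1, t.2.2.1⟩, fun a b ha hb => ?_⟩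
    rcases t1 with ⟨d1, -⟩ | t1
    · rcases t2 with ⟨d2, -⟩ | t2
      · rw [d1] at ha
        rw [d2] at hb
        obtain ⟨u, hu, ea⟩ := ha
        obtain ⟨v, hv, eb⟩ := hb
        obtain ⟨z, hz, rfl⟩ := (QuotientGroup.mk'_eq_mk' C.Zk).1 ea
        obtain ⟨z', hz', rfl⟩ := (QuotientGroup.mk'_eq_mk' C.Zk).1 eb
        refine Commute.mul_left (Commute.mul_right ?_ (mem_center_iff.1 (C.Zk_central hz') _)) ?_
        · show C.φK u * C.φK v = C.φK v * C.φK u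
          rw [← map_mul, ← map_mul, show u * v = v * u from Subtype.ext (Q_comm hu hv)]
        · exact (mem_center_iff.1 (C.Zk_central hz) _).symm
      · exact (C.lifts_comm (fun u hu v hv => (hc v hv u hu).symm) t2.2.1 hb ha).symm
    · exact C.lifts_comm hc t1.2.1 ha hb
  · obtain ⟨s1, p1, g1, d1⟩ := t1.resolve_left fun h => hm2 h.2
    obtain ⟨s2, p2, g2, d2⟩ := t2.resolve_left fun h => hm2 h.2
    have pc : ∀ a ∈ C.pre S₁, ∀ b ∈ C.pre S₂, a * b = b * a := fun a ha b hb =>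
      C.pre_comm hc p1 subset_normalClosure subset_normalClosure ha hb
    obtain ⟨u1, r1⟩ := C.pre_root s1 d1 subset_normalClosure hS1 e₁ hfill pc
    obtain ⟨u2, r2⟩ := C.pre_root s2 d2 subset_normalClosure hS2 e₂ hfill' fun a ha b hb => (pc b hb a ha).symm
    have i12 : ∀ u, u ∈ Q1 m → u ∈ Q2 m → u = 1 ∨ u = gz m := fun u h h' => inf_cases h h'
    rcases le_Q r1 u1 with a1 | a1 <;> rcases le_Q r2 u2 with a2 | a2
    · exact (C.not_inner_le_Q1 fun u hu => by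
        obtain ⟨a, ha, b, hb, rfl⟩ := hfill u hu; exact mul_mem (a1 ha) (a2 hb)).elim
    · obtain rfl := hpre _ C.Q1_le S₁ hS1 (eq_of_pair a1 a2 i12 (C.gz_pre _) hfill C.Q1_le)
      obtain rfl := hpre _ C.Q2_le S₂ hS2 (eq_of_pair a2 a1 (fun u h h' => i12 u h' h) (C.gz_pre _) hfill' C.Q2_le)
      exact ⟨P, N₁, N₂, hP, rfl, rfl, htop, hinf, hN1, hN2, Or.inr ⟨s1, p1, g1⟩, Or.inr ⟨s2, p2, g2⟩,
        fun a b ha hb => C.lifts_comm hc p1 ha hb⟩
    · obtain rfl := hpre _ C.Q2_le S₁ hS1 (eq_of_pair a1 a2 (fun u h h' => i12 u h' h) (C.gz_pre _) hfill C.Q2_le)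
      obtain rfl := hpre _ C.Q1_le S₂ hS2 (eq_of_pair a2 a1 i12 (C.gz_pre _) hfill' C.Q1_le)
      exact ⟨P, N₂, N₁, hP, rfl, rfl, (sup_comm _ _).trans htop, (inf_comm _ _).trans hinf, hN2, hN1,
        Or.inr ⟨s2, p2, g2⟩, Or.inr ⟨s1, p1, g1⟩, fun a b ha hb => (C.lifts_comm hc p1 hb ha).symm⟩
    · exact (C.not_inner_le_Q2 fun u hu => by
        obtain ⟨a, ha, b, hb, rfl⟩ := hfill u hu; exact mul_mem (a1 ha) (a2 hb)).elim

end Cen

end CfsgLib.Invol.GTwoCent
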