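import Cfsg.Agent.Lib.Invol.GTwoCent.Sides
import Cfsg.Agent.Lib.Char.TransLinear.SL23
import Mathlib.Data.Fintype.Perm

/-!
# The sides on which the factor is a four group
-/

set_option autoImplicit false
set_option linter.unusedSectionVars false
set_option linter.style.haveILetI false
set_option linter.unusedSimpArgs false

namespace CfsgLib.Invol.GTwoCent

open Subgroup CfsgLib.Invol CfsgLib.Invol.GTwoOdd CfsgLib.Invol.GTwoOdd.Sd
open scoped commutatorElement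

universe u

theorem perm_three : ∀ σ : Equiv.Perm (Fin 3), σ ^ 6 = 1 ∧
    (σ ^ 3 = 1 → ∀ i, σ i = i → σ = 1) ∧
    ∀ τ : Equiv.Perm (Fin 3), σ ^ 3 = 1 → τ ^ 3 = 1 → σ ≠ 1 → τ = 1 ∨ τ = σ ∨ τ = σ * σ := by
  decide +kernel

theorem dihedral_three : Fintype.card {x : DihedralGroup 2 // x ≠ 1} = 3 := by decide

namespace Cen

variable {Q : Type u} [Group Q] [Finite Q] {m : ℕ} [NeZero m] (C : Cen Q m)

/-- a subgroup of index two containing the inner part -/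
noncomputable def N0 : Subgroup Q := C.exists_two.choose

instance N0_normal : C.N0.Normal := C.exists_two.choose_spec.1

theorem N0_index : C.N0.index = 2 := C.exists_two.choose_spec.2.1

theorem mem_N0 (u : Sd (2 * m)) : C.φ u ∈ C.N0 ↔ u ∈ inner m := C.exists_two.choose_spec.2.2 u

theorem K_le_N0 : C.K ≤ C.N0 := normalClosure_le_normal fun _ ⟨u, hu, e⟩ => e ▸ (C.mem_N0 u).2 hu

theorem commutator_le_N0 : commutator Q ≤ C.N0 := by
  refine commutator_le.2 fun a _ b _ => ?_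
  by_cases hb : b ∈ C.N0
  · exact mul_mem (C.N0_normal.conj_mem b hb a) (inv_mem hb)
  · refine (mul_mem_iff_of_index_two C.N0_index).2 ⟨fun h => absurd ?_ hb, fun h => absurd (inv_mem_iff.1 h) hb⟩
    simpa [mul_assoc] using C.N0_normal.conj_mem _ h a⁻¹

theorem g10_not_mem : C.φ (g10 m) ∉ C.N0 := by
  rw [C.mem_N0, mem_inner]
  simp [g10]

/-- an element of `N0` moving `gt` to a given inner involution -/
theorem exists_mover {v : Sd (2 * m)} (hv : v ∈ inner m) (h2 : v * v = 1) (h1 : v ≠ 1) (hz : v ≠ gz m) :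
    ∃ n ∈ C.N0, n * C.φ (gt m) * n⁻¹ = C.φ v := by
  obtain ⟨g, hg⟩ := isConj_iff.1 (C.fused v hv h2 h1 hz).symm
  replace hg : g * C.φ (gt m) * g⁻¹ = C.φ v := hg
  by_cases hgN : g ∈ C.N0
  · exact ⟨g, hgN, hg⟩
  refine ⟨g * C.φ (g10 m), (mul_mem_iff_of_index_two C.N0_index).2 (iff_of_false hgN C.g10_not_mem), ?_⟩
  rw [show g * C.φ (g10 m) * C.φ (gt m) * (g * C.φ (g10 m))⁻¹ =
    g * (C.φ (g10 m) * C.φ (gt m) * (C.φ (g10 m))⁻¹) * g⁻¹ by group, C.conj_φ, ← hg]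
  congr 3
  simp [mul_def, inv_def, g10, gt, Sd.mk.injEq, Sd.one_add_one, neg_m]

theorem pL_Db {X : Subgroup (Sd (2 * m))} (hX : X ≤ inner m) (hz : gz m ∈ X) : C.pL (C.Db X) = X.map C.φ := by
  refine le_antisymm (fun x hx => ?_) (C.X_pL hX le_rfl)
  obtain ⟨h, ⟨u, hu, e⟩⟩ := C.mem_pL.1 hx
  obtain ⟨z, hz', e'⟩ := (QuotientGroup.mk'_eq_mk' C.Zk).1 e
  have e'' : C.φ (u : Sd (2 * m)) * (z : Q) = x := congrArg Subtype.val e'
  rw [← e'']
  refine mul_mem ⟨_, hu, rfl⟩ ?_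
  rcases C.mem_Zk.1 hz' with h | h <;> rw [h]
  · exact one_mem _
  · exact ⟨_, hz, rfl⟩

theorem pL_inner {Y : Subgroup (Sd (2 * m))} (hY : gz m ∈ Y) (P : Sylow 2 (↥C.K ⧸ C.Zk))
    (hP : (P : Subgroup (↥C.K ⧸ C.Zk)) = C.ψ.range) {N : Subgroup (↥C.K ⧸ C.Zk)}
    (hN : N ⊓ (P : Subgroup (↥C.K ⧸ C.Zk)) = C.Db Y) {u : Sd (2 * m)} (hu : u ∈ inner m) (h : C.φ u ∈ C.pL N) :
    u ∈ Y := by
  obtain ⟨hK, hN'⟩ := C.mem_pL.1 h
  have h' : C.ψ ⟨u, hu⟩ ∈ C.Db Y := hN ▸ ⟨hN', hP ▸ ⟨⟨u, hu⟩, rfl⟩⟩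
  obtain ⟨v, hv, e⟩ := h'
  have h1 : C.ψ (v⁻¹ * ⟨u, hu⟩) = 1 := by rw [map_mul, map_inv, e, inv_mul_cancel]
  rcases C.ψ_eq_one.1 h1 with h | h
  · rw [show u = (v : Sd (2 * m)) from (inv_mul_eq_one.1 h).symm]; exact hv
  · rw [show u = (v : Sd (2 * m)) * gz m from inv_mul_eq_iff_eq_mul.1 h]; exact mul_mem hv hY

/-- the elements centralising `K` inside `N0` -/
theorem cent_small {x : Q} (hx : x ∈ C.N0) (hxK : x ∈ centralizer (C.K : Set Q)) : x = 1 ∨ x = C.φ (gz m) := by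
  haveI : Fact (Nat.Prime 2) := ⟨Nat.prime_two⟩
  haveI : (centralizer (C.K : Set Q)).Normal := normal_centralizer
  set M := C.N0 ⊓ centralizer (C.K : Set Q) with hM
  have hT : ∀ y ∈ M, y ∈ (C.T : Subgroup Q) → y = 1 ∨ y = C.φ (gz m) := by
    intro y hy hyT
    obtain ⟨u, rfl⟩ := C.exists_of_mem hyT
    rcases central_inner C.two_le C.even (u := u) (fun v hv => C.φ_inj (by
      rw [map_mul, map_mul]
      exact (mem_centralizer_iff.1 hy.2 (C.φ v) (C.mem_K_iff.2 (mem_inner.2 hv))).symm)) with h | h <;> rw [h]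
    · exact Or.inl (map_one _)
    · exact Or.inr rfl
  have hodd : ¬ 2 ∣ ((C.T : Subgroup Q).subgroupOf M).index := fun h =>
    C.T.not_dvd_index (h.trans (CfsgLib.ProdFusion.relIndex_dvd_of_normal _ M))
  let S : Sylow 2 M := (C.T.2.comap_subtype (K := M)).toSylow hodd
  have hcyc : IsCyclic (S : Subgroup M) := by
    have hle : ((S : Subgroup M).map M.subtype) ≤ zpowers (C.φ (gz m)) := by
      rintro _ ⟨y, hy, rfl⟩
      rcases hT _ y.2 hy with h | h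
      · rw [show M.subtype y = 1 from h]; exact one_mem _
      · rw [show M.subtype y = C.φ (gz m) from h]; exact mem_zpowers _
    haveI : IsCyclic ↥((S : Subgroup M).map M.subtype) :=
      isCyclic_of_injective (Subgroup.inclusion hle) (Subgroup.inclusion_injective hle)
    exact (equivMapOfInjective _ _ M.subtype_injective).isCyclic.2 inferInstance
  have hOM : Cfsg.oddCore ↥M = ⊥ := by
    have h := CfsgLib.Coprime.pPrimeCore_map_subtype_eq (p := 2) Nat.prime_two M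
    rw [show Cfsg.pPrimeCore 2 Q = ⊥ from C.core, bot_inf_eq] at h
    exact (Subgroup.map_eq_bot_iff_of_injective _ M.subtype_injective).1 h
  have hp : IsPGroup 2 M := CfsgLib.GW.isPGroup_of_cyclic_sylow hOM S hcyc
  obtain ⟨g, hg⟩ := exists_conj_le_sylow hp C.T
  have hgx : g * x * g⁻¹ ∈ M := (inferInstance : M.Normal).conj_mem x ⟨hx, hxK⟩ g
  have back : x = g⁻¹ * (g * x * g⁻¹) * g := by group
  rcases hT _ hgx (hg x ⟨hx, hxK⟩) with h | h <;> rw [h] at back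
  · exact Or.inl (by rw [back]; group)
  · exact Or.inr (by rw [back, mul_assoc, ← C.central', inv_mul_cancel_left])

end Cen

/-- the data of one side: the part, the other part, generators -/
structure Part (m : ℕ) [NeZero m] (X Y : Subgroup (Sd (2 * m))) (r J rY : Sd (2 * m)) : Prop where
  rX : r ∈ X
  JX : J ∈ X
  rY_mem : rY ∈ Y
  gzX : gz m ∈ X
  gzY : gz m ∈ Y
  gt_eq : r * rY = gt m
  J_sq : J * J = gz m
  r_pow : r ^ m = gz m
  gen : ∀ u ∈ X, (∃ i : ℕ, u = r ^ i) ∨ ∃ i : ℕ, u = r ^ i * J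
  conj : J * r * J⁻¹ = r⁻¹
  comm : ∀ a ∈ X, ∀ b ∈ Y, a * b = b * a
  split : ∀ q, q ∈ Q1 m ∨ q ∈ Q2 m → q ∈ X ∨ q ∈ Y
  d1 : g10 m * r * (g10 m)⁻¹ = r⁻¹
  d2 : g10 m * J * (g10 m)⁻¹ = J * r⁻¹
  sep : ∀ y ∈ Y, g00 m ≠ r * y ∧ g00 m ≠ r * gz m * y

theorem part1 {m : ℕ} [NeZero m] (h2 : m = 2) :
    Part m (Q1 m) (Q2 m) ⟨1, 1, 0, 0⟩ (J1 m) ⟨(m : ℕ) - 1, -1, 0, 0⟩ := by
  refine ⟨Or.inl ⟨rfl, rfl, rfl⟩, J1_mem, Or.inl ⟨rfl, rfl, ?_⟩, gz_mem_Q1, gz_mem_Q2, ?_, J1_sq, ?_, ?_, ?_,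
    fun a ha b hb => Q_comm ha hb, fun _ h => h, ?_, ?_, ?_⟩
  · subst h2; decide
  · subst h2; decide
  · subst h2; decide +kernel
  · intro u hu
    obtain ⟨p, q, x, s⟩ := u
    rcases (mem_Q1).1 hu with ⟨hx, hs, e⟩ | ⟨hx, hs, e⟩
    · refine Or.inl ⟨q.val, ?_⟩
      replace e : p = q := e
      subst hx hs e
      rw [pow_diag]; simp
    · refine Or.inr ⟨q.val, ?_⟩
      replace e : p = q + (m : ℕ) := e
      subst hx hs e
      rw [pow_diag]; simp [mul_def, J1, Sd.mk.injEq, add_comm]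
  · subst h2; decide +kernel
  · subst h2; decide +kernel
  · subst h2; decide +kernel
  · intro y hy
    obtain ⟨p, q, x, s⟩ := y
    obtain rfl : x = 0 := by rcases (mem_Q2).1 hy with h | h <;> exact h.1
    exact ⟨by simp [g00, mul_def, Sd.mk.injEq], by simp [g00, mul_def, gz, Sd.mk.injEq]⟩

theorem part2 {m : ℕ} [NeZero m] (h2 : m = 2) :
    Part m (Q2 m) (Q1 m) ⟨1, -1, 0, 0⟩ (J2 m) ⟨1, 1, 0, 0⟩ := by
  refine ⟨Or.inl ⟨rfl, rfl, by simp⟩, J2_mem, Or.inl ⟨rfl, rfl, rfl⟩, gz_mem_Q2, gz_mem_Q1, ?_, J2_sq, ?_, ?_, ?_,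
    fun a ha b hb => (Q_comm hb ha).symm, fun _ h => h.symm, ?_, ?_, ?_⟩
  · subst h2; decide +kernel
  · subst h2; decide +kernel
  · intro u hu
    obtain ⟨p, q, x, s⟩ := u
    rcases (mem_Q2).1 hu with ⟨hx, hs, e⟩ | ⟨hx, hs, e⟩
    · refine Or.inl ⟨p.val, ?_⟩
      obtain rfl : q = -p := eq_neg_of_add_eq_zero_right e
      subst hx hs
      rw [pow_diag]; simp
    · refine Or.inr ⟨(p - (m : ℕ)).val, ?_⟩
      obtain rfl : q = (m : ℕ) - p := eq_sub_of_add_eq' e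
      subst hx hs
      rw [pow_diag]; simp [mul_def, J2, Sd.mk.injEq]
  · subst h2; decide +kernel
  · subst h2; decide +kernel
  · subst h2; decide +kernel
  · intro y hy
    obtain ⟨p, q, x, s⟩ := y
    rcases (mem_Q1).1 hy with h | h
    · obtain rfl : x = 0 := h.1
      exact ⟨by simp [g00, mul_def, Sd.mk.injEq], by simp [g00, mul_def, gz, Sd.mk.injEq]⟩
    · obtain rfl : x = 1 := h.1
      obtain rfl : s = 1 := h.2.1
      exact ⟨by simp [g00, mul_def, Sd.mk.injEq], by simp [g00, mul_def, gz, Sd.mk.injEq]⟩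

namespace Cen

section VSide

variable {Q : Type u} [Group Q] [Finite Q] {m : ℕ} [NeZero m] (C : Cen Q m)
  {X Y : Subgroup (Sd (2 * m))} {r J rY : Sd (2 * m)} (hp : Part m X Y r J rY) (hm2 : m = 2) (hX : X ≤ inner m)
  (hβ : ∀ g : Q, (C.Db X).map (C.β g).toMonoidHom = C.Db X) (e : ↥(C.Db X) ≃* DihedralGroup 2)

/-- the automorphisms induced on the four group -/
noncomputable def α (g : Q) : MulAut ↥(C.Db X) :=
  ((C.β g).subgroupMap (C.Db X)).trans (MulEquiv.subgroupCongr (hβ g))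

theorem α_coe (g : Q) (x : ↥(C.Db X)) : ((C.α hβ g x : ↥(C.Db X)) : ↥C.K ⧸ C.Zk) = C.β g x := rfl

/-- the numbering of the three involutions -/
noncomputable def ι : {x : ↥(C.Db X) // x ≠ 1} ≃ Fin 3 :=
  (e.toEquiv.subtypeEquiv
    (q := fun x => x ≠ 1) fun x => by simp).trans (Fintype.equivFinOfCardEq dihedral_three)

/-- the action on the three involutions -/
noncomputable def ρ : Q →* Equiv.Perm (Fin 3) :=
  MonoidHom.mk' (fun g => (C.ι e).permCongr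
    ((C.α hβ g).toEquiv.subtypeEquiv (p := fun x => x ≠ 1) (q := fun x => x ≠ 1) fun x => by simp)) fun g h => by
    refine Equiv.ext fun i => ?_
    simp only [Equiv.Perm.mul_apply, Equiv.permCongr_apply, Equiv.symm_apply_apply]
    congr 1
    refine Subtype.ext (Subtype.ext ?_)
    simp [Equiv.subtypeEquiv, C.α_coe hβ, map_mul]

theorem ρ_fix {g : Q} {x : ↥(C.Db X)} (hx : x ≠ 1) :
    C.ρ hβ e g (C.ι e ⟨x, hx⟩) = C.ι e ⟨x, hx⟩ ↔ C.β g x = x := by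
  simp only [ρ, MonoidHom.mk'_apply, Equiv.permCongr_apply, Equiv.symm_apply_apply, EmbeddingLike.apply_eq_iff_eq]
  refine ⟨fun h => ?_, fun h => Subtype.ext (Subtype.ext ?_)⟩
  · have := congrArg (fun y => ((y : {x : ↥(C.Db X) // x ≠ 1}).1 : ↥C.K ⧸ C.Zk)) h
    simpa [Equiv.subtypeEquiv, C.α_coe hβ] using this
  · simpa [Equiv.subtypeEquiv, C.α_coe hβ] using h

theorem ρ_one {g : Q} : C.ρ hβ e g = 1 ↔ ∀ x ∈ C.Db X, C.β g x = x := by
  refine ⟨fun h x hx => ?_, fun h => Equiv.ext fun i => ?_⟩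
  · by_cases h1 : (⟨x, hx⟩ : ↥(C.Db X)) = 1
    · rw [show x = 1 from congrArg Subtype.val h1, map_one]
    · exact (C.ρ_fix hβ e h1).1 (by rw [h]; rfl)
  · obtain ⟨⟨x, hx⟩, rfl⟩ := (C.ι e).surjective i
    exact (C.ρ_fix hβ e hx).2 (h _ x.2)

include hm2 in
theorem ψ_abelian (u v : inner m) : C.ψ u * C.ψ v = C.ψ v * C.ψ u := by
  have key : ∀ a b : Sd (2 * 2), (par a.p = par a.q) → (par b.p = par b.q) →
      a * b * a⁻¹ * b⁻¹ = 1 ∨ a * b * a⁻¹ * b⁻¹ = gz 2 := by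
    unfold par
    decide +kernel
  obtain ⟨u, hu⟩ := u
  obtain ⟨v, hv⟩ := v
  rw [← mul_inv_eq_one, _root_.mul_inv_rev, ← map_inv, ← map_inv, ← map_mul, ← map_mul, ← map_mul, C.ψ_eq_one]
  subst hm2
  have := key u v (mem_inner.1 hu) (mem_inner.1 hv)
  simpa [mul_assoc] using this

include hm2 in
theorem ρ_inner {u : Sd (2 * m)} (hu : u ∈ inner m) : C.ρ hβ e (C.φ u) = 1 := by
  refine (C.ρ_one hβ e).2 ?_
  rintro _ ⟨v, hv, rfl⟩
  rw [C.β_ψ (C.φ u) v (⟨u, hu⟩ * v * (⟨u, hu⟩ : inner m)⁻¹) (C.conj_φ u v), map_mul, map_mul, map_inv,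
    C.ψ_abelian hm2, mul_inv_cancel_right]

include hm2 in
theorem ρ_cube {g : Q} (hg : g ∈ C.N0) : C.ρ hβ e g ^ 3 = 1 := by
  haveI : Fact (Nat.Prime 2) := ⟨Nat.prime_two⟩
  set H := (C.ρ hβ e).comp C.N0.subtype with hH
  have hle : (C.T : Subgroup Q).subgroupOf C.N0 ≤ H.ker := by
    intro x hx
    obtain ⟨u, hu⟩ := C.exists_of_mem hx
    show C.ρ hβ e (x : Q) = 1
    rw [← show C.φ u = (x : Q) from hu]
    exact C.ρ_inner hm2 hβ e ((C.mem_N0 u).1 (by rw [show C.φ u = (x : Q) from hu]; exact x.2))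
  have hodd : ¬ 2 ∣ Nat.card H.range := by
    rw [← index_ker]
    exact fun h => C.T.not_dvd_index ((h.trans (index_dvd_of_le hle)).trans
      (CfsgLib.ProdFusion.relIndex_dvd_of_normal _ C.N0))
  have h1 : orderOf (C.ρ hβ e g) ∣ Nat.card H.range := Subgroup.orderOf_dvd_natCard _ ⟨⟨g, hg⟩, rfl⟩
  have h6 : orderOf (C.ρ hβ e g) ∣ 2 * 3 := orderOf_dvd_of_pow_eq_one (perm_three _).1
  refine orderOf_dvd_iff_pow_eq_one.1 ?_
  refine (Nat.Coprime.dvd_mul_left ?_).1 h6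
  exact Nat.Coprime.symm ((Nat.prime_two.coprime_iff_not_dvd).2 fun h => hodd (h.trans h1))

include hp hX hm2 in
theorem ψr_ne : C.ψ ⟨r, hX hp.rX⟩ ≠ 1 := by
  intro h
  have hr2 : r * r = gz m := by
    have := hp.r_pow
    rwa [show r ^ m = r * r from (congrArg (r ^ ·) hm2).trans (pow_two r)] at this
  rcases C.ψ_eq_one.1 h with h | h <;> replace h : r = _ := h <;> rw [h] at hr2
  · exact gz_ne' (by rw [← hr2, one_mul])
  · exact gz_ne' (by rw [← hr2, gz_sq'])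

/-- the point of `r` -/
noncomputable def pr : Fin 3 :=
  C.ι e ⟨⟨C.ψ ⟨r, hX hp.rX⟩, ⟨_, hp.rX, rfl⟩⟩, fun h => C.ψr_ne hp hm2 hX (congrArg Subtype.val h)⟩

theorem ρ_pr {g : Q} : C.ρ hβ e g (C.pr hp hm2 hX e) = C.pr hp hm2 hX e ↔
    C.β g (C.ψ ⟨r, hX hp.rX⟩) = C.ψ ⟨r, hX hp.rX⟩ := C.ρ_fix hβ e _

theorem sq_r : r * r = gz m → C.ψ ⟨r, hX hp.rX⟩ * C.ψ ⟨r, hX hp.rX⟩ = 1 := fun h => by
  rw [← map_mul, C.ψ_eq_one]; exact Or.inr h

/-- the outer involution fixes only the point of `r` -/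
theorem d_fix {p : Fin 3} (h : C.ρ hβ e (C.φ (g10 m)) p = p) : p = C.pr hp hm2 hX e := by
  obtain ⟨⟨⟨x, hx⟩, hx1⟩, rfl⟩ := (C.ι e).surjective p
  rw [C.ρ_fix hβ e hx1] at h
  obtain ⟨u, hu, rfl⟩ := hx
  obtain ⟨uu, huu⟩ := u
  replace h : C.β (C.φ (g10 m)) (C.ψ ⟨uu, huu⟩) = C.ψ ⟨uu, huu⟩ := h
  set rI : inner m := ⟨r, hX hp.rX⟩ with hrI
  set JI : inner m := ⟨J, hX hp.JX⟩ with hJI
  have hr2 : r * r = gz m := by
    have := hp.r_pow
    rwa [show r ^ m = r * r from (congrArg (r ^ ·) hm2).trans (pow_two r)] at this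
  have hrs : C.ψ rI * C.ψ rI = 1 := C.sq_r hp hX hr2
  have hpow : ∀ i : ℕ, C.ψ rI ^ i = 1 ∨ C.ψ rI ^ i = C.ψ rI := by
    intro i
    induction i with
    | zero => exact Or.inl (pow_zero _)
    | succ i ih =>
      rcases ih with h | h <;> rw [pow_succ, h]
      · exact Or.inr (one_mul _)
      · exact Or.inl hrs
  have dr : C.β (C.φ (g10 m)) (C.ψ rI) = C.ψ rI := by
    rw [C.β_ψ _ rI rI⁻¹ (by rw [C.conj_φ]; exact congrArg C.φ hp.d1), map_inv]
    exact inv_eq_of_mul_eq_one_right hrs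
  have dJ : C.β (C.φ (g10 m)) (C.ψ JI) = C.ψ JI * C.ψ rI := by
    rw [C.β_ψ _ JI (JI * rI⁻¹) (by rw [C.conj_φ]; exact congrArg C.φ hp.d2), map_mul, map_inv,
      inv_eq_of_mul_eq_one_right hrs]
  unfold pr
  congr 1
  refine Subtype.ext (Subtype.ext ?_)
  show C.ψ ⟨uu, huu⟩ = C.ψ rI
  have hne : C.ψ ⟨uu, huu⟩ ≠ 1 := fun h' => hx1 (Subtype.ext h')
  rcases hp.gen uu hu with ⟨i, hi⟩ | ⟨i, hi⟩
  · have e' : C.ψ ⟨uu, huu⟩ = C.ψ rI ^ i := by
      rw [← map_pow]; exact congrArg C.ψ (Subtype.ext (hi.trans (by rw [SubgroupClass.coe_pow])))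
    rcases hpow i with h' | h'
    · exact absurd (e'.trans h') hne
    · exact e'.trans h'
  · exfalso
    have e' : C.ψ ⟨uu, huu⟩ = C.ψ rI ^ i * C.ψ JI := by
      rw [← map_pow, ← map_mul]
      exact congrArg C.ψ (Subtype.ext (hi.trans (by rw [Subgroup.coe_mul, SubgroupClass.coe_pow])))
    rw [e', map_mul, map_pow, dr, dJ, mul_left_cancel_iff, mul_eq_left] at h
    exact C.ψr_ne hp hm2 hX h

/-- the commutator with the outer involution acts -/
theorem comm_moves {w : Q} (hw : C.ρ hβ e w (C.pr hp hm2 hX e) ≠ C.pr hp hm2 hX e) :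
    C.ρ hβ e ⁅C.φ (g10 m), w⁆ ≠ 1 := by
  intro h
  rw [map_commutatorElement, commutatorElement_eq_one_iff_mul_comm] at h
  refine hw (C.d_fix hp hm2 hX hβ e ?_)
  have h' := Equiv.ext_iff.1 h (C.pr hp hm2 hX e)
  rw [Equiv.Perm.mul_apply, Equiv.Perm.mul_apply] at h'
  rw [h']
  congr 1
  refine (C.ρ_pr hp hm2 hX hβ e).2 ?_
  rw [C.β_ψ _ ⟨r, hX hp.rX⟩ (⟨r, hX hp.rX⟩ : inner m)⁻¹ (by rw [C.conj_φ]; exact congrArg C.φ hp.d1), map_inv]
  refine inv_eq_of_mul_eq_one_right (C.sq_r hp hX ?_)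
  have := hp.r_pow
  rwa [show r ^ m = r * r from (congrArg (r ^ ·) hm2).trans (pow_two r)] at this

include hp hX hm2 in
/-- an element acting trivially is inner on the part -/
theorem adjust {g : Q} (hg : C.ρ hβ e g = 1) :
    ∃ q ∈ X, (C.φ q)⁻¹ * g ∈ centralizer ((X.map C.φ : Subgroup Q) : Set Q) := by
  rw [C.ρ_one hβ e] at hg
  have hcases : ∀ u (hu : u ∈ X), g * C.φ u * g⁻¹ = C.φ u ∨ g * C.φ u * g⁻¹ = C.φ (u * gz m) := by
    intro u hu
    have h := hg _ ⟨⟨u, hX hu⟩, hu, rfl⟩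
    rw [show C.ψ ⟨u, hX hu⟩ = QuotientGroup.mk' C.Zk (C.φK ⟨u, hX hu⟩) from rfl, C.β_mk] at h
    obtain ⟨z, hz, ez⟩ := (QuotientGroup.mk'_eq_mk' C.Zk).1 h.symm
    have ez' : C.φ u * (z : Q) = g * C.φ u * g⁻¹ :=
      (congrArg Subtype.val ez).trans (MulAut.conjNormal_apply _ _)
    rcases C.mem_Zk.1 hz with h | h <;> rw [h] at ez'
    · exact Or.inl (by rw [← ez', mul_one])
    · exact Or.inr (by rw [← ez', map_mul])
  have hr2 : r * r = gz m := by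
    have := hp.r_pow
    rwa [show r ^ m = r * r from (congrArg (r ^ ·) hm2).trans (pow_two r)] at this
  have hrinv : r⁻¹ = r * gz m := inv_eq_of_mul_eq_one_right (by rw [← mul_assoc, hr2, gz_sq'])
  have Jr : J * r * J⁻¹ = r * gz m := hp.conj.trans hrinv
  have rJ : r * J * r⁻¹ = J * gz m := by
    have e1 : r * J = J * r * gz m := by
      have h := mul_inv_eq_iff_eq_mul.1 Jr
      rw [h, mul_assoc r, ← gz_central J, ← mul_assoc, mul_assoc, gz_sq', mul_one]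
    rw [e1, mul_assoc, ← gz_central r⁻¹, ← mul_assoc, mul_inv_cancel_right]
  have fin : ∀ q ∈ X, C.φ q * C.φ r * (C.φ q)⁻¹ = g * C.φ r * g⁻¹ →
      C.φ q * C.φ J * (C.φ q)⁻¹ = g * C.φ J * g⁻¹ →
      ∃ q ∈ X, (C.φ q)⁻¹ * g ∈ centralizer ((X.map C.φ : Subgroup Q) : Set Q) := by
    intro q hq h1 h2
    refine ⟨q, hq, mem_centralizer_iff.2 ?_⟩
    have key : ∀ u, C.φ q * C.φ u * (C.φ q)⁻¹ = g * C.φ u * g⁻¹ → Commute (C.φ u) ((C.φ q)⁻¹ * g) := fun u h => by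
      show C.φ u * ((C.φ q)⁻¹ * g) = (C.φ q)⁻¹ * g * C.φ u
      calc C.φ u * ((C.φ q)⁻¹ * g) = (C.φ q)⁻¹ * (C.φ q * C.φ u * (C.φ q)⁻¹) * g := by group
        _ = (C.φ q)⁻¹ * g * C.φ u := by rw [h]; group
    rintro _ ⟨u, hu, rfl⟩
    rcases hp.gen u hu with ⟨i, rfl⟩ | ⟨i, rfl⟩
    · rw [map_pow]; exact ((key r h1).pow_left i).eq
    · rw [map_mul, map_pow]; exact (((key r h1).pow_left i).mul_left (key J h2)).eq
  rcases hcases r hp.rX with a | a <;> rcases hcases J hp.JX with b | b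
  · exact fin 1 (one_mem _) (by rw [a]; simp) (by rw [b]; simp)
  · exact fin r hp.rX (by rw [a, mul_inv_cancel_right]) (by rw [b, C.conj_φ, rJ])
  · exact fin J hp.JX (by rw [a, C.conj_φ, Jr]) (by rw [b, mul_inv_cancel_right])
  · refine fin (r * J) (mul_mem hp.rX hp.JX) ?_ ?_
    · rw [a, C.conj_φ]; congr 1
      calc r * J * r * (r * J)⁻¹ = r * (J * r * J⁻¹) * r⁻¹ := by group
        _ = r * (r * gz m) * r⁻¹ := by rw [Jr]
        _ = r * gz m := by rw [mul_assoc r, mul_assoc r, ← gz_central r⁻¹, mul_inv_cancel_left]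
    · rw [b, C.conj_φ]; congr 1
      calc r * J * J * (r * J)⁻¹ = r * J * r⁻¹ := by group
        _ = J * gz m := rJ

variable (P : Sylow 2 (↥C.K ⧸ C.Zk)) (hP : (P : Subgroup (↥C.K ⧸ C.Zk)) = C.ψ.range)
  {NY : Subgroup (↥C.K ⧸ C.Zk)} (hNY : NY ⊓ (P : Subgroup (↥C.K ⧸ C.Zk)) = C.Db Y) (hDY : C.Db Y ≤ NY)
  (hY : Y ≤ inner m) (hXn : (X.map C.φ : Subgroup Q).Normal) (hLn : (C.pL NY).Normal)

include hP hNY hDY hY hXn hLn hp hX

/-- the components of the image of `gt` -/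
theorem component {n : Q} {v : Sd (2 * m)} (hv : v ∈ inner m) (hn : n * C.φ (gt m) * n⁻¹ = C.φ v) :
    ∃ a ∈ X, ∃ y ∈ Y, v = a * y ∧ n * C.φ r * n⁻¹ = C.φ a ∧ n * C.φ rY * n⁻¹ = C.φ y := by
  obtain ⟨a, ha, hae⟩ := hXn.conj_mem (C.φ r) ⟨r, hp.rX, rfl⟩ n
  have hy' : n * C.φ rY * n⁻¹ = C.φ (a⁻¹ * v) := by
    rw [map_mul, map_inv, hae, ← hn, ← hp.gt_eq, map_mul]; group
  have hay : a⁻¹ * v ∈ Y := C.pL_inner hp.gzY P hP hNY (mul_mem (inv_mem (hX ha)) hv) (by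
    rw [← hy']
    exact hLn.conj_mem _ (C.X_pL hY hDY ⟨rY, hp.rY_mem, rfl⟩) n)
  exact ⟨a, ha, _, hay, (mul_inv_cancel_left a v).symm, hae.symm, hy'⟩

/-- `n` moving `gt` to `g00` moves the point of `r` -/
theorem mover_moves {n : Q} (hn : n * C.φ (gt m) * n⁻¹ = C.φ (g00 m)) :
    C.ρ hβ e n (C.pr hp hm2 hX e) ≠ C.pr hp hm2 hX e := by
  intro h
  obtain ⟨a, ha, y, hy, hv, hna, -⟩ := C.component hp hX P hP hNY hDY hY hXn hLn (mem_inner.2 rfl) hn
  rw [C.ρ_pr hp hm2 hX hβ e, C.β_ψ n _ ⟨a, hX ha⟩ hna] at h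
  have h1 : C.ψ ((⟨r, hX hp.rX⟩ : inner m)⁻¹ * ⟨a, hX ha⟩) = 1 := by rw [map_mul, map_inv, h, inv_mul_cancel]
  rcases C.ψ_eq_one.1 h1 with h2 | h2
  · exact (hp.sep y hy).1 (by rw [hv, show a = r from (inv_mul_eq_one.1 h2).symm])
  · exact (hp.sep y hy).2 (by rw [hv, show a = r * gz m from inv_mul_eq_iff_eq_mul.1 h2])

/-- an element moving the point of `r` and fixing that of `rY` -/
theorem second_mover : ∃ w ∈ C.N0, C.ρ hβ e w (C.pr hp hm2 hX e) ≠ C.pr hp hm2 hX e ∧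
    (w * C.φ rY * w⁻¹ = C.φ rY ∨ w * C.φ rY * w⁻¹ = C.φ (rY * gz m)) := by
  have hr2 : r * r = gz m := by
    have := hp.r_pow
    rwa [show r ^ m = r * r from (congrArg (r ^ ·) hm2).trans (pow_two r)] at this
  have gsq : g00 m * g00 m = (1 : Sd (2 * m)) := by simp [mul_def, g00, one_def, Sd.mk.injEq, Sd.one_add_one]
  obtain ⟨n, hnN, hn⟩ := C.exists_mover (mem_inner.2 rfl : g00 m ∈ inner m) gsq
    (by simp [g00, one_def, Sd.mk.injEq]) (by simp [g00, gz, Sd.mk.injEq])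
  obtain ⟨a, ha, y, hy, hv, hna, hny⟩ := C.component hp hX P hP hNY hDY hY hXn hLn (mem_inner.2 rfl) hn
  -- the product with `r` is again an involution
  have hcomm := C.ψ_abelian hm2 ⟨a, hX ha⟩ ⟨r, hX hp.rX⟩
  have hne : C.ψ ⟨a, hX ha⟩ ≠ C.ψ ⟨r, hX hp.rX⟩ := fun h => by
    have := C.mover_moves hp hm2 hX hβ e P hP hNY hDY hY hXn hLn hn
    exact this ((C.ρ_pr hp hm2 hX hβ e).2 ((C.β_ψ n _ ⟨a, hX ha⟩ hna).trans h))
  have har : (a * r) * (a * r) = gz m := by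
    have h : C.ψ (⟨a, hX ha⟩ * ⟨r, hX hp.rX⟩) * C.ψ (⟨a, hX ha⟩ * ⟨r, hX hp.rX⟩) = 1 := by
      have hs : ∀ d ∈ C.Db X, d * d = 1 := fun d hd => by
        have key : ∀ a : DihedralGroup 2, a * a = 1 := by decide
        have h2 : e (⟨d, hd⟩ * ⟨d, hd⟩) = 1 := by
          rw [map_mul, key]
        exact congrArg Subtype.val ((MulEquiv.map_eq_one_iff _).1 h2)
      exact hs _ ⟨⟨a, hX ha⟩ * ⟨r, hX hp.rX⟩, mul_mem ha hp.rX, rfl⟩
    rw [← map_mul] at h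
    rcases C.ψ_eq_one.1 h with h' | h'
    · exfalso
      rw [Subgroup.coe_mul, Subgroup.coe_mul] at h'
      replace h' : a * r * (a * r) = 1 := h'
      have hXu : a * r = 1 ∨ a * r = gz m := by
        rcases hp.gen _ (mul_mem ha hp.rX) with ⟨i, hi⟩ | ⟨i, hi⟩
        · have hsq : ∀ i : ℕ, r ^ i = 1 ∨ r ^ i = gz m ∨ r ^ i * r ^ i = gz m := by
            intro i
            obtain ⟨k, rfl | rfl⟩ := Nat.even_or_odd' i
            · rw [pow_mul, pow_two, hr2]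
              obtain ⟨l, rfl | rfl⟩ := Nat.even_or_odd' k
              · rw [pow_mul, pow_two, gz_sq', one_pow]; exact Or.inl rfl
              · rw [pow_succ, pow_mul, pow_two, gz_sq', one_pow, one_mul]; exact Or.inr (Or.inl rfl)
            · refine Or.inr (Or.inr ?_)
              rw [← pow_add, show 2 * k + 1 + (2 * k + 1) = 2 * (2 * k + 1) by ring, pow_mul, pow_two, hr2,
                pow_succ, pow_mul, pow_two, gz_sq', one_pow, one_mul]
          rcases hsq i with h0 | h0 | h0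
          · exact Or.inl (hi.trans h0)
          · exact Or.inr (hi.trans h0)
          · rw [hi, h0] at h'; exact absurd h' gz_ne'
        · exfalso
          have hJinv : J⁻¹ = J * gz m := inv_eq_of_mul_eq_one_right (by rw [← mul_assoc, hp.J_sq, gz_sq'])
          have hJi : J * r ^ i = (r ^ i)⁻¹ * J := by
            have := map_pow (MulAut.conj J) r i
            simp only [MulAut.conj_apply, hp.conj, inv_pow] at this
            exact mul_inv_eq_iff_eq_mul.1 this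
          rw [hi, show r ^ i * J * (r ^ i * J) = r ^ i * (J * r ^ i) * J by group, hJi,
            show r ^ i * ((r ^ i)⁻¹ * J) * J = J * J by group, hp.J_sq] at h'
          exact gz_ne' h'
      refine hne ?_
      have h0 : C.ψ (⟨a, hX ha⟩ * ⟨r, hX hp.rX⟩) = 1 := C.ψ_eq_one.2 hXu
      rw [map_mul, mul_eq_one_iff_eq_inv] at h0
      rw [h0]
      exact inv_eq_of_mul_eq_one_right (C.sq_r hp hX hr2)
    · exact h'
  set v := g00 m * r with hvdef
  have hvv : v = (a * r) * y := by rw [hvdef, hv, mul_assoc, ← hp.comm r hp.rX y hy, ← mul_assoc]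
  have hy2 : y * y = gz m := by
    have h : C.φ (y * y) = C.φ (gz m) := by
      have hrY : rY * rY = gz m := by
        have h1 : r * rY * (r * rY) = gz m * (rY * rY) := by
          rw [show r * rY * (r * rY) = r * (rY * r) * rY by group, ← hp.comm r hp.rX rY hp.rY_mem,
            show r * (r * rY) * rY = r * r * (rY * rY) by group, hr2]
        rw [hp.gt_eq, (gt_facts (m := m)).1] at h1
        rw [← inv_eq_of_mul_eq_one_right h1.symm]
        exact inv_eq_of_mul_eq_one_right gz_sq'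
      rw [map_mul, ← hny, ← C.conj_gz n, ← hrY, map_mul]; group
    exact C.φ_inj h
  have hv2 : v * v = 1 := by
    rw [hvv, show a * r * y * (a * r * y) = a * r * (y * (a * r)) * y by group,
      ← hp.comm _ (mul_mem ha hp.rX) y hy, show a * r * (a * r * y) * y = (a * r * (a * r)) * (y * y) by group,
      har, hy2, gz_sq']
  have hvi : v ∈ inner m := mul_mem (mem_inner.2 rfl) (hX hp.rX)
  have hv1 : v ≠ 1 ∧ v ≠ gz m := by
    have hrne : r ≠ g00 m ∧ r ≠ g00 m * gz m :=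
      ⟨fun h => by rw [h, gsq] at hr2; exact gz_ne' hr2.symm,
        fun h => by
          rw [h, show g00 m * gz m * (g00 m * gz m) = g00 m * (gz m * g00 m) * gz m by group,
            ← gz_central (g00 m), show g00 m * (g00 m * gz m) * gz m = (g00 m * g00 m) * (gz m * gz m) by group,
            gsq, gz_sq', one_mul] at hr2
          exact gz_ne' hr2.symm⟩
    refine ⟨fun h => hrne.1 ?_, fun h => hrne.2 ?_⟩
    · rw [← inv_eq_of_mul_eq_one_right h]; exact inv_eq_of_mul_eq_one_right gsq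
    · rw [← h, hvdef, ← mul_assoc, gsq, one_mul]
  obtain ⟨n', hn'N, hn'⟩ := C.exists_mover hvi hv2 hv1.1 hv1.2
  obtain ⟨a', ha', y', hy', hv', hna', hny'⟩ := C.component hp hX P hP hNY hDY hY hXn hLn hvi hn'
  have hdel : (a * r)⁻¹ * a' = y * y'⁻¹ := by
    have : a * r * y = a' * y' := hvv.symm.trans hv'
    calc (a * r)⁻¹ * a' = (a * r)⁻¹ * (a' * y') * y'⁻¹ := by group
      _ = y * y'⁻¹ := by rw [← this]; group
  have hzz : (a * r)⁻¹ * a' = 1 ∨ (a * r)⁻¹ * a' = gz m := by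
    set δ := (a * r)⁻¹ * a' with hδ
    have hδX : δ ∈ X := mul_mem (inv_mem (mul_mem ha hp.rX)) ha'
    have hδY : δ ∈ Y := hdel ▸ mul_mem hy (inv_mem hy')
    refine central_inner C.two_le C.even fun u hu => ?_
    obtain ⟨q1, h1', q2, h2', rfl⟩ := C.factor (mem_inner.2 hu)
    have hXY : ∀ q, q ∈ Q1 m ∨ q ∈ Q2 m → δ * q = q * δ := fun q hq => by
      rcases hp.split q hq with h | h
      · exact (hp.comm q h δ hδY).symm
      · exact hp.comm δ hδX q h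
    rw [← mul_assoc, hXY q1 (Or.inl h1'), mul_assoc, hXY q2 (Or.inr h2'), ← mul_assoc]
  refine ⟨n⁻¹ * n', mul_mem (inv_mem hnN) hn'N, fun h => ?_, ?_⟩
  · rw [map_mul, map_inv, Equiv.Perm.mul_apply, Equiv.Perm.inv_eq_iff_eq] at h
    have e1 : C.ψ ⟨a', hX ha'⟩ = C.ψ ⟨a, hX ha⟩ := by
      have hn1 := C.β_ψ n ⟨r, hX hp.rX⟩ ⟨a, hX ha⟩ hna
      have hn2 := C.β_ψ n' ⟨r, hX hp.rX⟩ ⟨a', hX ha'⟩ hna'
      have h3 : C.ρ hβ e (n⁻¹ * n') (C.pr hp hm2 hX e) = C.pr hp hm2 hX e := by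
        rw [map_mul, map_inv, Equiv.Perm.mul_apply, Equiv.Perm.inv_eq_iff_eq]; exact h
      rw [C.ρ_pr hp hm2 hX hβ e, map_mul, MulAut.mul_apply, hn2, map_inv] at h3
      exact ((C.β n).symm_apply_eq.1 h3).trans hn1
    have e2 : C.ψ ⟨a', hX ha'⟩ = C.ψ (⟨a, hX ha⟩ * ⟨r, hX hp.rX⟩) := by
      have : C.ψ ((⟨a, hX ha⟩ * ⟨r, hX hp.rX⟩ : inner m)⁻¹ * ⟨a', hX ha'⟩) = 1 := C.ψ_eq_one.2 hzz
      rw [map_mul, map_inv, inv_mul_eq_one] at this
      exact this.symm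
    rw [e1, map_mul, left_eq_mul] at e2
    exact C.ψr_ne hp hm2 hX e2
  · have hconj : ∀ z : Sd (2 * m), y' = y * z → (z = 1 ∨ z = gz m) →
        n⁻¹ * n' * C.φ rY * (n⁻¹ * n')⁻¹ = C.φ (rY * z) := fun z hyz hz => by
      calc n⁻¹ * n' * C.φ rY * (n⁻¹ * n')⁻¹ = n⁻¹ * (n' * C.φ rY * n'⁻¹) * n := by group
        _ = n⁻¹ * (n * C.φ rY * n⁻¹ * C.φ z) * n := by rw [hny', hyz, map_mul, hny]
        _ = _ := by
          rw [map_mul]
          rcases hz with rfl | rfl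
          · rw [map_one]; group
          · rw [show n * C.φ rY * n⁻¹ * C.φ (gz m) = n * C.φ rY * (n⁻¹ * C.φ (gz m)) by group, C.central' n⁻¹]
            group
    have hy'' : y' = y * ((a * r)⁻¹ * a')⁻¹ := by
      rw [hdel, _root_.mul_inv_rev, inv_inv]
      have hcy : y * y' = y' * y := by
        have := hp.comm _ (mul_mem (inv_mem (mul_mem ha hp.rX)) ha') y' hy'
        rw [hdel] at this
        calc y * y' = y * y'⁻¹ * y' * y' := by group
          _ = y' * (y * y'⁻¹) * y' := by rw [this]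
          _ = y' * y := by group
      calc y' = y' * y * y⁻¹ := by group
        _ = y * y' * y⁻¹ := by rw [hcy]
        _ = y * (y' * y⁻¹) := by group
    rcases hzz with h | h
    · left; rw [hconj 1 (by rw [hy'', h, inv_one]) (Or.inl rfl), mul_one]
    · right; rw [hconj (gz m) (by rw [hy'', h, inv_eq_of_mul_eq_one_right gz_sq']) (Or.inr rfl)]

end VSide

end Cen

end CfsgLib.Invol.GTwoCent
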