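import Cfsg.Agent.Lib.Invol.GTwoOdd.Fusion
import Cfsg.Agent.Lib.Fusion.Transfer
import Cfsg.Agent.Lib.ProdFusion.Direct

/-!
# Fusion in the centraliser of the central involution, Sylow two-subgroup of type `G₂(q)`

Every inner involution other than the central one is fused inside the centraliser to `gt`; the outer
involutions are not. Hence the centraliser has a normal subgroup of index two.
-/

set_option autoImplicit false
set_option linter.unusedSectionVars false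
set_option linter.style.haveILetI false

namespace CfsgLib.Invol.GTwoCent

open Subgroup CfsgLib.Invol CfsgLib.Invol.GTwoOdd CfsgLib.Invol.GTwoOdd.Sd

variable {m : ℕ} [NeZero m]

/-- the subgroup of the inner elements -/
def inner (m : ℕ) : Subgroup (Sd (2 * m)) := (Fr.chi (m := m) 0 0 1).ker

theorem mem_inner {u : Sd (2 * m)} : u ∈ inner m ↔ par u.p = par u.q := by
  rw [inner, MonoidHom.mem_ker, Fr.chi_apply]
  simp [CharTwo.add_eq_zero]

/-- the elements without exchange part -/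
def diag (m : ℕ) : Subgroup (Sd (2 * m)) := (Fr.chi (m := m) 0 1 0).ker

theorem mem_diag {u : Sd (2 * m)} : u ∈ diag m ↔ u.s = 0 := by
  rw [diag, MonoidHom.mem_ker, Fr.chi_apply]
  simp

theorem diag_index : (diag m).index = 2 := by
  have h : Function.Surjective (Fr.chi (m := m) 0 1 0) := by
    intro b
    refine ⟨⟨0, 0, 0, b.toAdd⟩, ?_⟩
    refine Multiplicative.toAdd.injective ?_
    show 0 * (0 : ZMod 2) + 1 * b.toAdd + 0 * (par (0 : ZMod (2 * m)) + par (0 : ZMod (2 * m))) = b.toAdd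
    simp
  rw [diag, index_ker, MonoidHom.range_eq_top.2 h, card_top]
  simp

theorem gz_sq' : gz m * gz m = (1 : Sd (2 * m)) := by simp [mul_def, gz, one_def, Sd.mk.injEq, m_add_m]

theorem gz_ne' : gz m ≠ (1 : Sd (2 * m)) := by simp [gz, one_def, Sd.mk.injEq, m_ne_zero]

theorem gt_facts : gt m * gt m = 1 ∧ gt' m * gt' m = 1 ∧ gt m ≠ 1 ∧ gt m ≠ gz m ∧
    gt m * gt' m = gz m ∧ gt' m * gz m = gt m ∧ gt m * gz m = gt' m := by
  simp [mul_def, gt, gt', gz, one_def, Sd.mk.injEq, m_add_m, m_ne_zero, m_ne_zero.symm]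

theorem conj_gS : gS m * gt m * (gS m)⁻¹ = gt' m ∧ gS m * gt' m * (gS m)⁻¹ = gt m ∧
    gS m * gz m * (gS m)⁻¹ = gz m ∧ gS m * g10 m * (gS m)⁻¹ = ⟨0, 1, 1, 0⟩ := by
  simp [mul_def, inv_def, gS, gt, gt', gz, g10, Sd.mk.injEq, Sd.one_add_one]

theorem gz_gt : gz m * gt m = gt m * gz m := (gz_central _).symm

/-- commutators have neither inversion nor exchange part -/
theorem comm_diag (u v : Sd (2 * m)) : (u * v * u⁻¹ * v⁻¹).x = 0 ∧ (u * v * u⁻¹ * v⁻¹).s = 0 := by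
  have key : ∀ a b : ZMod 2, a + b + a + b = 0 := by decide
  exact ⟨key _ _, key _ _⟩

theorem half_eq {j : ℕ} (hj : m = 2 * j) : (j : ZMod (2 * m)) + j = (m : ℕ) := by
  rw [hj]; push_cast; ring

theorem par_m_zero (hm : 2 ∣ m) : par ((m : ℕ) : ZMod (2 * m)) = 0 := par_m hm

variable {G : Type*} [Group G] [Finite G] [IsSimpleGroup G] (F : Fr G m)

/-- conjugacy fixing the central involution -/
def CR (u v : Sd (2 * m)) : Prop :=
  ∃ g : G, g * F.φ (gz m) * g⁻¹ = F.φ (gz m) ∧ g * F.φ u * g⁻¹ = F.φ v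

variable {F}

theorem CR.sy {u v : Sd (2 * m)} (h : CR F u v) : CR F v u := by
  obtain ⟨g, h1, h2⟩ := h
  refine ⟨g⁻¹, ?_, ?_⟩
  · conv_lhs => rw [← h1]
    group
  · rw [← h2]; group

theorem CR.tr {u v w : Sd (2 * m)} (h : CR F u v) (h' : CR F v w) : CR F u w := by
  obtain ⟨g, h1, h2⟩ := h
  obtain ⟨k, k1, k2⟩ := h'
  refine ⟨k * g, ?_, by rw [← k2, ← h2]; group⟩
  calc k * g * F.φ (gz m) * (k * g)⁻¹ = k * (g * F.φ (gz m) * g⁻¹) * k⁻¹ := by group
    _ = F.φ (gz m) := by rw [h1, k1]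

theorem conj_map (c u : Sd (2 * m)) : F.φ c * F.φ u * (F.φ c)⁻¹ = F.φ (c * u * c⁻¹) := by
  rw [map_mul, map_mul, map_inv]

theorem CR.of_cl {u v : Sd (2 * m)} (h : Cl u v) : CR F u v := by
  obtain ⟨c, rfl⟩ := h
  refine ⟨F.φ c, ?_, conj_map c u⟩
  rw [conj_map, gz_central, mul_inv_cancel_right]

variable (F)

/-- the centraliser of the four group `{1, z, gt, gt'}` -/
def D : Subgroup G := centralizer ({F.φ (gz m)} : Set G) ⊓ centralizer ({F.φ (gt m)} : Set G)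

theorem mem_D {g : G} : g ∈ D F ↔ g * F.φ (gz m) * g⁻¹ = F.φ (gz m) ∧ g * F.φ (gt m) * g⁻¹ = F.φ (gt m) := by
  rw [D, mem_inf, mem_centralizer_singleton_iff, mem_centralizer_singleton_iff, mul_inv_eq_iff_eq_mul,
    mul_inv_eq_iff_eq_mul]

theorem diag_le_D {u : Sd (2 * m)} (hu : u ∈ diag m) : F.φ u ∈ D F := by
  rw [mem_diag] at hu
  have hn : -((m : ℕ) : ZMod (2 * m)) = (m : ℕ) := by linear_combination -(m_add_m (m := m))
  refine (mem_D F).2 ⟨?_, ?_⟩ <;> rw [conj_map]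
  · rw [gz_central, mul_inv_cancel_right]
  · congr 1
    obtain ⟨p, q, x, s⟩ := u
    obtain rfl : s = 0 := hu
    rcases two_cases x with rfl | rfl <;> simp [mul_def, inv_def, gt, Sd.mk.injEq, hn, Sd.one_add_one]

/-- the image of the diagonal part -/
def MG : Subgroup G := (diag m).map F.φ

theorem MG_le_D : MG F ≤ D F := by rintro _ ⟨u, hu, rfl⟩; exact diag_le_D F hu

theorem isPGroup_Sd (F : Fr G m) : IsPGroup 2 (Sd (2 * m)) := F.T.2.of_equiv F.e.symm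

theorem T_le_C : (F.T : Subgroup G) ≤ centralizer ({F.φ (gz m)} : Set G) := fun t ht => by
  obtain ⟨u, rfl⟩ := F.exists_of_mem ht
  exact mem_centralizer_singleton_iff.2 (by rw [← map_mul, ← map_mul, gz_central])

variable (hm : 2 ≤ m)
include hm

/-- the diagonal part is a Sylow subgroup of `D` -/
theorem exists_sylow_D : ∃ P : Sylow 2 ↥(D F), (P : Subgroup ↥(D F)) = (MG F).subgroupOf (D F) := by
  haveI : Fact (Nat.Prime 2) := ⟨Nat.prime_two⟩
  have hMp : IsPGroup 2 ((MG F).subgroupOf (D F)) :=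
    (((isPGroup_Sd F).to_subgroup _).map F.φ).comap_subtype
  obtain ⟨P, hP⟩ := hMp.exists_le_sylow
  refine ⟨P, (le_antisymm hP ?_).symm⟩
  by_contra hne
  -- move into the Sylow subgroup fixing the central involution
  let ι : ↥(D F) →* ↥(centralizer ({F.φ (gz m)} : Set G)) := Subgroup.inclusion inf_le_left
  obtain ⟨c, hc⟩ := exists_conj_le_sylow (P.2.map ι) (F.T.subtype (T_le_C F))
  have hcm : ∀ x ∈ (P : Subgroup ↥(D F)), (c : G) * (x : G) * (c : G)⁻¹ ∈ (F.T : Subgroup G) :=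
    fun x hx => hc (ι x) ⟨x, hx, rfl⟩
  let ψ : ↥(P : Subgroup ↥(D F)) →* ↥(F.T : Subgroup G) :=
    (((MulAut.conj (c : G)).toMonoidHom.comp (D F).subtype).comp (P : Subgroup ↥(D F)).subtype).codRestrict _
      fun x => hcm x.1 x.2
  let ψ' : ↥(P : Subgroup ↥(D F)) →* Sd (2 * m) := F.e.symm.toMonoidHom.comp ψ
  have hψ' : ∀ x, F.φ (ψ' x) = (c : G) * ((x : ↥(D F)) : G) * (c : G)⁻¹ := fun x =>
    congrArg Subtype.val (F.e.apply_symm_apply (ψ x))
  have hinj : Function.Injective ψ' := fun x y h => by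
    have h' := congrArg F.φ h
    rw [hψ', hψ'] at h'
    exact Subtype.ext (Subtype.ext (mul_left_cancel (mul_right_cancel h')))
  have htP : (⟨F.φ (gt m), diag_le_D F (mem_diag.2 rfl)⟩ : ↥(D F)) ∈ (P : Subgroup ↥(D F)) :=
    hP ⟨gt m, mem_diag.2 rfl, rfl⟩
  set v := ψ' ⟨_, htP⟩ with hv
  have hle : ψ'.range ≤ centralizer ({v} : Set (Sd (2 * m))) := by
    rintro _ ⟨x, rfl⟩
    refine mem_centralizer_singleton_iff.2 ?_
    rw [hv, ← map_mul, ← map_mul]
    congr 1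
    refine Subtype.ext (Subtype.ext ?_)
    exact mul_inv_eq_iff_eq_mul.1 ((mem_D F).1 x.1.2).2
  have htop : ψ'.range = ⊤ := by
    rw [← index_eq_one]
    have h1 := ψ'.range.card_mul_index
    rw [Nat.card_congr (MonoidHom.ofInjective hinj).toEquiv.symm] at h1
    have h2 := (diag m).card_mul_index
    rw [diag_index] at h2
    have hMc : Nat.card ↥((MG F).subgroupOf (D F)) = Nat.card ↥(diag m) := by
      rw [Nat.card_congr (subgroupOfEquivOfLe (MG_le_D F)).toEquiv, MG, card_map_of_injective F.φ_inj]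
    have h3 : Nat.card ↥((MG F).subgroupOf (D F)) < Nat.card ↥(P : Subgroup ↥(D F)) := by
      refine lt_of_le_of_ne (card_le_of_le hP) fun e => hne ?_
      exact (eq_of_le_of_card_ge hP e.ge).ge
    rw [hMc] at h3
    have h0 : ψ'.range.index ≠ 0 := index_ne_zero_of_finite
    by_contra h
    have : 2 * Nat.card ↥(P : Subgroup ↥(D F)) ≤ Nat.card ↥(P : Subgroup ↥(D F)) * ψ'.range.index := by
      rw [mul_comm]; exact Nat.mul_le_mul le_rfl (by omega)
    omega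
  have hv' : v ∈ center (Sd (2 * m)) := mem_center_iff.2 fun u =>
    mem_centralizer_singleton_iff.1 (hle (htop ▸ mem_top u))
  have hφv : F.φ v = (c : G) * F.φ (gt m) * (c : G)⁻¹ := hψ' _
  obtain ⟨f1, -, f3, f4, -⟩ := gt_facts (m := m)
  rcases eq_of_central hm hv' with e | e <;> rw [e] at hφv
  · refine f3 (F.φ_inj ?_)
    rw [map_one] at hφv ⊢
    calc F.φ (gt m) = (c : G)⁻¹ * ((c : G) * F.φ (gt m) * (c : G)⁻¹) * c := by group
      _ = 1 := by rw [← hφv]; group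
  · refine f4 (F.φ_inj ?_)
    have hcz := mem_centralizer_singleton_iff.1 c.2
    calc F.φ (gt m) = (c : G)⁻¹ * ((c : G) * F.φ (gt m) * (c : G)⁻¹) * c := by group
      _ = (c : G)⁻¹ * (F.φ (gz m) * c) := by rw [← hφv]; group
      _ = F.φ (gz m) := by rw [← hcz]; group

/-- a 2-subgroup of `D` moves into the diagonal part -/
theorem toM {P : Subgroup G} (hP : IsPGroup 2 P) (hPD : P ≤ D F) :
    ∃ c ∈ D F, ∀ x ∈ P, ∃ v, v.s = 0 ∧ F.φ v = c * x * c⁻¹ := by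
  haveI : Fact (Nat.Prime 2) := ⟨Nat.prime_two⟩
  obtain ⟨M, hM⟩ := exists_sylow_D F hm
  obtain ⟨c, hc⟩ := exists_conj_le_sylow (hP.comap_subtype : IsPGroup 2 (P.subgroupOf (D F))) M
  refine ⟨c, c.2, fun x hx => ?_⟩
  have h := hc ⟨x, hPD hx⟩ hx
  replace h : c * ⟨x, hPD hx⟩ * c⁻¹ ∈ (M : Subgroup ↥(D F)) := h
  rw [hM] at h
  obtain ⟨v, hv, hve⟩ := h
  exact ⟨v, mem_diag.1 hv, hve⟩

omit hm

/-- pulling to the centre -/
theorem conj_z {y : Sd (2 * m)} (hy : F.R y (gz m)) :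
    ∃ g : G, g * F.φ y * g⁻¹ = F.φ (gz m) ∧
      ∀ a, a * y = y * a → ∃ v, F.φ v = g * F.φ a * g⁻¹ := by
  haveI : Fact (Nat.Prime 2) := ⟨Nat.prime_two⟩
  obtain ⟨g, hg⟩ := isConj_iff.1 hy
  let Cy : Subgroup (Sd (2 * m)) := centralizer ({y} : Set (Sd (2 * m)))
  have hle : Cy.map ((MulAut.conj g).toMonoidHom.comp F.φ) ≤ centralizer ({F.φ (gz m)} : Set G) := by
    rintro _ ⟨a, ha, rfl⟩
    refine mem_centralizer_singleton_iff.2 ?_
    rw [← hg]
    show g * F.φ a * g⁻¹ * (g * F.φ y * g⁻¹) = g * F.φ y * g⁻¹ * (g * F.φ a * g⁻¹)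
    calc g * F.φ a * g⁻¹ * (g * F.φ y * g⁻¹) = g * F.φ (a * y) * g⁻¹ := by rw [map_mul]; group
      _ = g * F.φ (y * a) * g⁻¹ := by rw [mem_centralizer_singleton_iff.1 ha]
      _ = _ := by rw [map_mul]; group
  obtain ⟨c, hc⟩ := exists_conj_le_sylow
    ((((isPGroup_Sd F).to_subgroup Cy).map _).comap_subtype (K := centralizer ({F.φ (gz m)} : Set G)))
    (F.T.subtype (T_le_C F))
  refine ⟨(c : G) * g, ?_, fun a ha => ?_⟩
  · have hcz := mem_centralizer_singleton_iff.1 c.2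
    calc (c : G) * g * F.φ y * ((c : G) * g)⁻¹ = (c : G) * (g * F.φ y * g⁻¹) * (c : G)⁻¹ := by group
      _ = F.φ (gz m) := by rw [hg, hcz, mul_inv_cancel_right]
  · have hmem : g * F.φ a * g⁻¹ ∈ Cy.map ((MulAut.conj g).toMonoidHom.comp F.φ) :=
      ⟨a, mem_centralizer_singleton_iff.2 ha, rfl⟩
    obtain ⟨v, hv⟩ := F.exists_of_mem (hc ⟨_, hle hmem⟩ hmem)
    exact ⟨v, hv.trans (show (c : G) * (g * F.φ a * g⁻¹) * (c : G)⁻¹ = _ by group)⟩

variable (h1 : ∀ x y : G, orderOf x = 2 → orderOf y = 2 → IsConj x y)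
include h1

theorem R_gz {y : Sd (2 * m)} (hy : y * y = 1) (hy1 : y ≠ 1) : F.R y (gz m) := by
  refine h1 _ _ (invol_iff.2 ⟨by rw [← map_mul, hy, map_one], fun h => hy1 (F.φ_inj ?_)⟩) F.z_ord
  rw [h, map_one]

/-- an involution centralised by a pair with commutator `z` changes places with the centre -/
theorem pair {y a b : Sd (2 * m)} (hy : y * y = 1) (hy1 : y ≠ 1) (hyz : y ≠ gz m) (ha : a * y = y * a)
    (hb : b * y = y * b) (hab : a * b * a⁻¹ * b⁻¹ = gz m) :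
    ∃ g : G, g * F.φ y * g⁻¹ = F.φ (gz m) ∧ g * F.φ (gz m) * g⁻¹ = F.φ (gt m) := by
  obtain ⟨g, hg, himg⟩ := conj_z F (R_gz F h1 hy hy1)
  obtain ⟨va, hva⟩ := himg a ha
  obtain ⟨vb, hvb⟩ := himg b hb
  set w := va * vb * va⁻¹ * vb⁻¹ with hw
  have hwz : F.φ w = g * F.φ (gz m) * g⁻¹ := by
    rw [← hab, hw]
    simp only [map_mul, map_inv, hva, hvb]
    group
  have hw2 : w * w = 1 := F.φ_inj (by
    rw [map_mul, hwz, map_one]
    calc g * F.φ (gz m) * g⁻¹ * (g * F.φ (gz m) * g⁻¹) = g * F.φ (gz m * gz m) * g⁻¹ := by rw [map_mul]; group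
      _ = 1 := by rw [gz_sq', map_one]; group)
  have hw1 : w ≠ 1 := fun e => by
    rw [e, map_one] at hwz
    refine invol_ne_one F.z_ord ?_
    calc F.φ (gz m) = g⁻¹ * (g * F.φ (gz m) * g⁻¹) * g := by group
      _ = 1 := by rw [← hwz]; group
  have hwne : w ≠ gz m := fun e => by
    rw [e] at hwz
    refine hyz (F.φ_inj (mul_left_cancel (a := g) (mul_right_cancel (b := g⁻¹) ?_)))
    rw [hg, ← hwz]
  obtain ⟨cx, cs⟩ : w.x = 0 ∧ w.s = 0 := comm_diag va vb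
  rcases inv_cases hw2 with (e | e | e | e) | ⟨p, q, e⟩ | ⟨p, e⟩ | ⟨p, e⟩
  · exact absurd e hw1
  · exact absurd e hwne
  · exact ⟨g, hg, by rw [← hwz, e]⟩
  · refine ⟨F.φ (gS m) * g, ?_, ?_⟩
    · calc F.φ (gS m) * g * F.φ y * (F.φ (gS m) * g)⁻¹ = F.φ (gS m) * (g * F.φ y * g⁻¹) * (F.φ (gS m))⁻¹ := by group
        _ = F.φ (gz m) := by rw [hg, conj_map, conj_gS.2.2.1]
    · calc F.φ (gS m) * g * F.φ (gz m) * (F.φ (gS m) * g)⁻¹
          = F.φ (gS m) * (g * F.φ (gz m) * g⁻¹) * (F.φ (gS m))⁻¹ := by group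
        _ = F.φ (gt m) := by rw [← hwz, e, conj_map, conj_gS.2.1]
  all_goals rw [e] at cx cs; first | exact absurd cx one_ne_zero | exact absurd cs one_ne_zero

variable (hev : 2 ∣ m)
include hev

theorem swap_gt : ∃ n : G, n * F.φ (gt m) * n⁻¹ = F.φ (gz m) ∧ n * F.φ (gz m) * n⁻¹ = F.φ (gt m) := by
  obtain ⟨j, hj⟩ := hev
  obtain ⟨f1, -, f3, f4, -⟩ := gt_facts (m := m)
  have hh := half_eq hj
  have hn : -((m : ℕ) : ZMod (2 * m)) = (m : ℕ) := by linear_combination -(m_add_m (m := m))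
  refine pair F h1 f1 f3 f4 (a := g00 m) (b := ⟨(j : ℕ), (j : ℕ), 0, 0⟩) ?_ ?_ ?_
  · simp [mul_def, g00, gt, Sd.mk.injEq, hn]
  · simp [mul_def, gt, Sd.mk.injEq, add_comm]
  · simp [mul_def, inv_def, g00, gz, Sd.mk.injEq, Sd.one_add_one, ← neg_add, hh, hn]

/-- the inversions of both inner classes are fused to `gt` in the centraliser -/
theorem inv_fused {p q : ZMod (2 * m)} (hpq : par p = par q) : CR F ⟨p, q, 1, 0⟩ (gt m) := by
  obtain ⟨n, n1, n2⟩ := swap_gt F h1 hev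
  suffices key : ∀ e : ZMod (2 * m), CR F ⟨e, e, 1, 0⟩ (gt m) by
    refine (CR.of_cl ?_).tr (key p)
    exact coset_conj rfl hpq.symm
  intro e
  have hn : -((m : ℕ) : ZMod (2 * m)) = (m : ℕ) := by linear_combination -(m_add_m (m := m))
  obtain ⟨g, hg1, hg2⟩ := pair F h1 (y := ⟨e, e, 1, 0⟩) (a := gS m) (b := gt m)
    (by simp [mul_def, one_def, Sd.mk.injEq, Sd.one_add_one]) (by simp [one_def, Sd.mk.injEq])
    (by simp [gz, Sd.mk.injEq]) (by simp [mul_def, gS, Sd.mk.injEq])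
    (by simp [mul_def, gt, Sd.mk.injEq, hn, add_comm])
    (by simp [mul_def, inv_def, gS, gt, gz, Sd.mk.injEq, Sd.one_add_one, hn])
  refine ⟨n * g, ?_, ?_⟩
  · calc n * g * F.φ (gz m) * (n * g)⁻¹ = n * (g * F.φ (gz m) * g⁻¹) * n⁻¹ := by group
      _ = F.φ (gz m) := by rw [hg2, n1]
  · calc n * g * F.φ ⟨e, e, 1, 0⟩ * (n * g)⁻¹ = n * (g * F.φ ⟨e, e, 1, 0⟩ * g⁻¹) * n⁻¹ := by group
      _ = F.φ (gt m) := by rw [hg1, n2]

end CfsgLib.Invol.GTwoCent
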