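import Cfsg.Agent.Lib.Invol.GTwoCent.Pair
import Cfsg.Agent.Lib.Invol.GTwoOdd.Sylow

/-!
# The centraliser of a central involution modulo its odd core
-/

set_option autoImplicit false
set_option linter.unusedSectionVars false
set_option linter.style.haveILetI false

namespace CfsgLib.Invol.GTwoCent

open Subgroup CfsgLib.Invol CfsgLib.Invol.GTwoOdd CfsgLib.Invol.GTwoOdd.Sd

universe u

theorem main {G : Type u} [Group G] [Finite G] [IsSimpleGroup G] {K : Type*} [Field K] [Fintype K]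
    (hK : Odd (Fintype.card K)) (S : Sylow 2 G) (P : Sylow 2 ↥(Cfsg.Lie.chevG2.group K))
    (hS : Nonempty (↥(S : Subgroup G) ≃* ↥(P : Subgroup ↥(Cfsg.Lie.chevG2.group K))))
    (h1 : ∀ x y : G, orderOf x = 2 → orderOf y = 2 → IsConj x y) (t : G) (ht : orderOf t = 2)
    (htS : t ∈ (S : Subgroup G)) (htZ : ∀ s ∈ (S : Subgroup G), s * t = t * s) :
    ∃ L₁ L₂ : Subgroup (↥(centralizer ({t} : Set G)) ⧸ Cfsg.oddCore ↥(centralizer ({t} : Set G))),
      L₁.Normal ∧ L₂.Normal ∧ IsSL2Odd ↥L₁ ∧ IsSL2Odd ↥L₂ ∧ ⁅L₁, L₂⁆ = ⊥ ∧ L₁ ⊔ L₂ = commutator _ := by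
  haveI : Fact (Nat.Prime 2) := ⟨Nat.prime_two⟩
  obtain ⟨k, hk, ⟨e⟩⟩ := exists_sylow_iso hK P
  obtain ⟨f⟩ := hS
  haveI : NeZero (2 ^ k) := ⟨pow_ne_zero _ two_ne_zero⟩
  have hm : 2 ≤ 2 ^ k := le_self_pow (by omega) (by omega)
  have hev : 2 ∣ 2 ^ k := dvd_pow_self 2 (by omega)
  let F : Fr G (2 ^ k) := ⟨S, e.trans f.symm⟩
  obtain ⟨w, rfl⟩ := F.exists_of_mem htS
  obtain rfl : w = gz (2 ^ k) := (eq_of_central hm (Subgroup.mem_center_iff.2 fun v => F.φ_inj (by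
    rw [map_mul, map_mul]; exact htZ _ (F.φ_mem v)))).resolve_left fun h => by
      rw [h, map_one, orderOf_one] at ht
      omega
  set C₀ := centralizer ({F.φ (gz (2 ^ k))} : Set G) with hC₀
  set O := Cfsg.oddCore ↥C₀ with hO
  set π := QuotientGroup.mk' O with hπ
  have hπs : Function.Surjective π := QuotientGroup.mk'_surjective O
  let ψ₀ : Sd (2 * 2 ^ k) →* ↥C₀ := F.φ.codRestrict C₀ fun u => T_le_C F (F.φ_mem u)
  have hψ₀ : Function.Injective ψ₀ := fun a b h =>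
    F.φ_inj (show F.φ a = F.φ b from congrArg (fun x : ↥C₀ => (x : G)) h)
  have hodd : Odd (Nat.card ↥O) := CfsgLib.GW.odd_oddCore _
  let T₀ : Sylow 2 ↥C₀ := F.T.subtype (T_le_C F)
  have hinj : Function.Injective (π.comp ψ₀) := by
    refine (MonoidHom.ker_eq_bot_iff _).1 ((eq_bot_iff_forall _).2 fun u hu => ?_)
    have hmem : ψ₀ u ∈ O := (QuotientGroup.eq_one_iff _).1 hu
    have hd : orderOf u ∣ Nat.card ↥O := by
      rw [← orderOf_injective ψ₀ hψ₀]
      exact Subgroup.orderOf_dvd_natCard _ hmem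
    obtain ⟨n, hn⟩ := IsPGroup.iff_orderOf.1 (F.T.2.of_equiv F.e.symm) u
    rw [hn] at hd
    rcases n with - | n
    · rwa [pow_zero, orderOf_eq_one_iff] at hn
    · exact absurd ((dvd_pow_self 2 (Nat.succ_ne_zero n)).trans hd)
        (fun h => (Nat.not_even_iff_odd.2 hodd) (even_iff_two_dvd.2 h))
  let T : Sylow 2 (↥C₀ ⧸ O) := T₀.mapSurjective hπs
  have hrange : (π.comp ψ₀).range = (T : Subgroup (↥C₀ ⧸ O)) := by
    ext x
    constructor
    · rintro ⟨u, rfl⟩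
      exact ⟨ψ₀ u, F.φ_mem u, rfl⟩
    · rintro ⟨y, hy, rfl⟩
      obtain ⟨u, hu⟩ := F.exists_of_mem (show (y : G) ∈ (F.T : Subgroup G) from hy)
      exact ⟨u, congrArg π (Subtype.ext hu)⟩
  obtain ⟨N, hNn, hNi, hNm⟩ := exists_index_two F hm hev h1
  have hON : O ≤ N := by
    intro x hx
    obtain ⟨j, hj⟩ := hodd.of_dvd_nat (Subgroup.orderOf_dvd_natCard _ hx)
    have h2 : x * x ∈ N := (mul_mem_iff_of_index_two hNi).2 Iff.rfl
    rw [show x = ((x * x) ^ (j + 1)) by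
      rw [← pow_two, ← pow_mul, show 2 * (j + 1) = orderOf x + 1 by omega, pow_succ, pow_orderOf_eq_one, one_mul]]
    exact pow_mem h2 _
  have hker : π.ker ≤ N := (QuotientGroup.ker_mk' O).le.trans hON
  let D : Cen (↥C₀ ⧸ O) (2 ^ k) :=
    { T := T
      e := (MonoidHom.ofInjective hinj).trans (MulEquiv.subgroupCongr hrange)
      two_le := hm
      even := hev
      core := CfsgLib.Coprime.pPrimeCore_quotient_eq_bot Nat.prime_two
      central := fun g => by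
        obtain ⟨c, rfl⟩ := hπs g
        show π c * π (ψ₀ (gz (2 ^ k))) = π (ψ₀ (gz (2 ^ k))) * π c
        rw [← map_mul, ← map_mul]
        exact congrArg π (Subtype.ext (mem_centralizer_singleton_iff.1 c.2))
      exists_two := ⟨N.map π, hNn.map π hπs, (index_map_eq N hπs hker).trans hNi, fun u => by
        show π (ψ₀ u) ∈ N.map π ↔ _
        rw [← mem_comap, comap_map_eq_self hker]
        exact hNm u⟩
      fused := fun v hv hv2 hv1 hvz => by
        obtain ⟨g, hgz, hgv⟩ := inner_fused F hm hev h1 hv hv2 hv1 hvz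
        refine isConj_iff.2 ⟨π ⟨g, mem_centralizer_singleton_iff.2 (mul_inv_eq_iff_eq_mul.1 hgz)⟩, ?_⟩
        show π _ * π (ψ₀ v) * (π _)⁻¹ = π (ψ₀ (gt (2 ^ k)))
        rw [← map_mul, ← map_inv, ← map_mul]
        exact congrArg π (Subtype.ext hgv) }
  exact D.exists_pair

end CfsgLib.Invol.GTwoCent
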