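import Cfsg.Agent.Lib.Invol.GTwoCent.Assemble

/-!
# The pair of special linear groups
-/

set_option autoImplicit false
set_option linter.unusedSectionVars false
set_option linter.style.haveILetI false
set_option linter.unusedSimpArgs false

namespace CfsgLib.Invol.GTwoCent

open Subgroup CfsgLib.Invol CfsgLib.Invol.GTwoOdd CfsgLib.Invol.GTwoOdd.Sd
open scoped commutatorElement

universe u

theorem card_Q1_two : Nat.card (Q1 2) = 8 := by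
  rw [Nat.card_congr (Equiv.subtypeEquivRight fun u : Sd (2 * 2) => mem_Q1 (u := u)), Nat.card_eq_fintype_card]
  decide +kernel

theorem card_Q2_two : Nat.card (Q2 2) = 8 := by
  rw [Nat.card_congr (Equiv.subtypeEquivRight fun u : Sd (2 * 2) => mem_Q2 (u := u)), Nat.card_eq_fintype_card]
  decide +kernel

theorem rY_two : (⟨((2 : ℕ) : ZMod (2 * 2)) - 1, -1, 0, 0⟩ : Sd (2 * 2)) = ⟨1, -1, 0, 0⟩ := by decide +kernel

namespace Cen

variable {Q : Type u} [Group Q] [Finite Q] {m : ℕ} [NeZero m] (C : Cen Q m)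

theorem big1 {P : Sylow 2 (↥C.K ⧸ C.Zk)} {N N' : Subgroup (↥C.K ⧸ C.Zk)} (hs : C.Side (Q1 m) (Q2 m) P N N')
    (h : IsSimpleGroup ↥N ∧ Group.IsPerfect ↥N ∧ CfsgLib.GW.IsPSLTwoOrA7 ↥N) : Big N :=
  hs.big C.Db1_dihedral (r := ⟨1, 1, 0, 0⟩) (Or.inl ⟨rfl, rfl, rfl⟩) J1_mem J1_sq
    (by rw [pow_diag]; simp [gz])
    (fun i hi => natCast_eq_m (by rw [pow_diag] at hi; simpa [one_def, gz, Sd.mk.injEq] using hi))
    (by simp [mul_def, inv_def, J1, Sd.mk.injEq, Sd.one_add_one])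
    (by simp [mul_def, inv_def, g10, Sd.mk.injEq, Sd.one_add_one])
    (by simp [mul_def, inv_def, g10, J1, Sd.mk.injEq, Sd.one_add_one, neg_m, sub_eq_add_neg, add_comm])
    h.1 h.2.1 h.2.2

theorem big2 {P : Sylow 2 (↥C.K ⧸ C.Zk)} {N N' : Subgroup (↥C.K ⧸ C.Zk)} (hs : C.Side (Q2 m) (Q1 m) P N N')
    (h : IsSimpleGroup ↥N ∧ Group.IsPerfect ↥N ∧ CfsgLib.GW.IsPSLTwoOrA7 ↥N) : Big N :=
  hs.big C.Db2_dihedral (r := ⟨1, -1, 0, 0⟩) (Or.inl ⟨rfl, rfl, by simp⟩) J2_mem J2_sq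
    (by rw [pow_diag]; simp [gz, neg_m])
    (fun i hi => natCast_eq_m (by rw [pow_diag] at hi; simp [one_def, gz, Sd.mk.injEq] at hi; exact hi.imp id And.left))
    (by simp [mul_def, inv_def, J2, Sd.mk.injEq, Sd.one_add_one])
    (by simp [mul_def, inv_def, g10, Sd.mk.injEq, Sd.one_add_one])
    (by simp [mul_def, inv_def, g10, J2, Sd.mk.injEq, Sd.one_add_one, neg_m, sub_eq_add_neg, add_comm])
    h.1 h.2.1 h.2.2

/-- the commutator subgroup is covered by a perfect side and its centraliser -/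
theorem big_big {X Y : Subgroup (Sd (2 * m))} {P : Sylow 2 (↥C.K ⧸ C.Zk)} {N N' : Subgroup (↥C.K ⧸ C.Zk)}
    (hs : C.Side X Y P N N') (b : Big N) (b' : Big N') :
    ⁅C.pL N, C.pL N'⁆ = ⊥ ∧ C.pL N ⊔ C.pL N' = commutator Q := by
  refine ⟨commutator_eq_bot_iff_le_centralizer.2 hs.symm.pL_comm, le_antisymm (sup_le b.1 b'.1) fun x hx => ?_⟩
  haveI := hs.normal
  haveI := hs.symm.normal
  obtain ⟨l, hl, c, hc, rfl⟩ := mem_sup_of_normal_left.1 (b.2.2 hx)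
  have hcQ : c ∈ commutator Q := ((commutator Q).mul_mem_cancel_left (b.1 hl)).1 hx
  obtain ⟨l', hl', d, hd, rfl⟩ := mem_sup_of_normal_left.1 (b'.2.2 hcQ)
  have hdQ : d ∈ commutator Q := ((commutator Q).mul_mem_cancel_left (b'.1 hl')).1 hcQ
  have hdN : d ∈ centralizer (C.pL N : Set Q) :=
    ((centralizer _).mul_mem_cancel_left (hs.pL_comm hl')).1 hc
  refine mul_mem (mem_sup_left hl) (mem_sup_right (mul_mem hl' ?_))
  rcases hs.cent_both (C.commutator_le_N0 hdQ) hdN hd with h | h <;> rw [h]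
  · exact one_mem _
  · exact C.gz_pL N'

/-- one side a four group, the other simple -/
theorem four_big {X Y : Subgroup (Sd (2 * m))} {P : Sylow 2 (↥C.K ⧸ C.Zk)} {N N' : Subgroup (↥C.K ⧸ C.Zk)}
    {r J rY : Sd (2 * m)} (hs : C.Side X Y P N N') (hp : Part m X Y r J rY) (hm2 : m = 2) (hV : N = C.Db X)
    (e : ↥(C.Db X) ≃* DihedralGroup 2) (hcard : Nat.card X = 8) (b : Big N') :
    (C.W N').Normal ∧ IsSL2Odd ↥(C.W N') ∧ ⁅C.W N', C.pL N'⁆ = ⊥ ∧ C.W N' ⊔ C.pL N' = commutator Q := by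
  obtain ⟨w, hw, hwQ, hw1⟩ := hs.exists_gen_big hp hm2 hV e b
  refine ⟨hs.W_normal, hs.W_sl2 hp hm2 hV e hcard hw hw1,
    commutator_eq_bot_iff_le_centralizer.2 inf_le_right,
    le_antisymm (sup_le (hs.W_le_comm hp hm2 hV e hw hwQ hw1) b.1) fun x hx => ?_⟩
  haveI := hs.symm.normal
  obtain ⟨l, hl, c, hc, rfl⟩ := mem_sup_of_normal_left.1 (b.2.2 hx)
  have hcQ : c ∈ commutator Q := ((commutator Q).mul_mem_cancel_left (b.1 hl)).1 hx
  exact mul_mem (mem_sup_right hl) (mem_sup_left (mem_inf.2 ⟨C.commutator_le_N0 hcQ, hc⟩))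

/-- two four groups -/
theorem four_four {X Y : Subgroup (Sd (2 * m))} {P : Sylow 2 (↥C.K ⧸ C.Zk)} {N N' : Subgroup (↥C.K ⧸ C.Zk)}
    {r J rY JY : Sd (2 * m)} (hs : C.Side X Y P N N') (hp : Part m X Y r J rY) (hpY : Part m Y X rY JY r)
    (hm2 : m = 2) (hV : N = C.Db X) (hV' : N' = C.Db Y) (e : ↥(C.Db X) ≃* DihedralGroup 2)
    (eY : ↥(C.Db Y) ≃* DihedralGroup 2) (hcard : Nat.card X = 8) (hcard' : Nat.card Y = 8) :
    (C.W N').Normal ∧ (C.W N).Normal ∧ IsSL2Odd ↥(C.W N') ∧ IsSL2Odd ↥(C.W N) ∧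
      ⁅C.W N', C.W N⁆ = ⊥ ∧ C.W N' ⊔ C.W N = commutator Q := by
  obtain ⟨w, hw, hwQ, hw1⟩ := hs.exists_gen_four hp hm2 hV e hpY hV' eY
  obtain ⟨w', hw', hwQ', hw1'⟩ := hs.symm.exists_gen_four hpY hm2 hV' eY hp hV e
  refine ⟨hs.W_normal, hs.symm.W_normal, hs.W_sl2 hp hm2 hV e hcard hw hw1,
    hs.symm.W_sl2 hpY hm2 hV' eY hcard' hw' hw1', hs.W_comm hp hm2 hV hpY hV' eY,
    le_antisymm (sup_le (hs.W_le_comm hp hm2 hV e hw hwQ hw1)
      (hs.symm.W_le_comm hpY hm2 hV' eY hw' hwQ' hw1')) ?_⟩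
  refine (hs.comm_le hp hm2 hV e hw hw1).trans (sup_le_sup_left (le_of_eq ?_) _)
  show _ = C.N0 ⊓ centralizer (C.pL N : Set Q)
  rw [hs.pL_eq hp hV]

include C in
/-- **two commuting normal special linear groups whose product is the commutator subgroup** -/
theorem exists_pair : ∃ L₁ L₂ : Subgroup Q, L₁.Normal ∧ L₂.Normal ∧ IsSL2Odd ↥L₁ ∧ IsSL2Odd ↥L₂ ∧
    ⁅L₁, L₂⁆ = ⊥ ∧ L₁ ⊔ L₂ = commutator Q := by
  obtain ⟨P, N₁, N₂, hP, hN₁, hN₂, htop, -, hNP₁, hNP₂, t₁, t₂, hc⟩ := C.exists_sides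
  have hs : C.Side (Q1 m) (Q2 m) P N₁ N₂ :=
    ⟨C.Q1_le, C.Q2_le, hP, fun g hg => (C.fix_parts hg).1, fun g hg => (C.fix_parts hg).2, hN₁, hN₂, hNP₁,
      hNP₂, htop, hc⟩
  rcases t₁ with ⟨hV₁, hm2⟩ | h₁
  · subst hm2
    obtain ⟨e₁⟩ := C.Db1_dihedral
    rcases t₂ with ⟨hV₂, -⟩ | h₂
    · obtain ⟨e₂⟩ := C.Db2_dihedral
      have hp := part1 (m := 2) rfl
      rw [rY_two] at hp
      obtain ⟨n1, n2, s1, s2, hcm, hsup⟩ :=
        C.four_four hs hp (part2 rfl) rfl hV₁ hV₂ e₁ e₂ card_Q1_two card_Q2_two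
      exact ⟨_, _, n1, n2, s1, s2, hcm, hsup⟩
    · have b := C.big2 hs.symm h₂
      obtain ⟨n1, s1, hcm, hsup⟩ := C.four_big hs (part1 rfl) rfl hV₁ e₁ card_Q1_two b
      exact ⟨_, _, n1, hs.symm.normal, s1, b.2.1, hcm, hsup⟩
  · have b := C.big1 hs h₁
    rcases t₂ with ⟨hV₂, hm2⟩ | h₂
    · subst hm2
      obtain ⟨e₂⟩ := C.Db2_dihedral
      obtain ⟨n1, s1, hcm, hsup⟩ := C.four_big hs.symm (part2 rfl) rfl hV₂ e₂ card_Q2_two b
      exact ⟨_, _, n1, hs.normal, s1, b.2.1, hcm, hsup⟩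
    · have b' := C.big2 hs.symm h₂
      obtain ⟨hcm, hsup⟩ := C.big_big hs b b'
      exact ⟨_, _, hs.normal, hs.symm.normal, b.2.1, b'.2.1, hcm, hsup⟩

end Cen

end CfsgLib.Invol.GTwoCent
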