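import Cfsg.Agent.Lib.Invol.GTwoCent.Fusion

/-!
# The centraliser of the four group has a normal two-complement, the transfer

Conjugacy in `C(z, gt)` keeps the parities of the inversions; so the outer involutions are not fused to
inner ones in `C(z)`, and the centraliser of `z` has a normal subgroup of index two.
-/

set_option autoImplicit false
set_option linter.unusedSectionVars false
set_option linter.style.haveILetI false

namespace CfsgLib.Invol.GTwoCent

open Subgroup CfsgLib.Invol CfsgLib.Invol.GTwoOdd CfsgLib.Invol.GTwoOdd.Sd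

section Generic

variable {H : Type*} [Group H] [Finite H]

/-- an element of odd order fixing the involutions of an abelian 2-group fixes the group -/
theorem fixed_of_fix_invol (A : Subgroup H) (hA : IsPGroup 2 A) (hab : ∀ a ∈ A, ∀ b ∈ A, Commute a b) {g : H}
    (hg : Odd (orderOf g)) (hnorm : ∀ a ∈ A, g * a * g⁻¹ ∈ A)
    (hfix : ∀ a ∈ A, a * a = 1 → g * a * g⁻¹ = a) : ∀ a ∈ A, g * a * g⁻¹ = a := by
  suffices h : ∀ k : ℕ, ∀ a ∈ A, a ^ 2 ^ k = 1 → g * a * g⁻¹ = a by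
    intro a ha
    obtain ⟨k, hk⟩ := hA ⟨a, ha⟩
    exact h k a ha (congrArg Subtype.val hk)
  intro k
  induction k with
  | zero =>
    intro a _ h
    rw [pow_zero, pow_one] at h
    rw [h]; group
  | succ k ih =>
    intro a ha h
    have h2 : g * (a * a) * g⁻¹ = a * a :=
      ih _ (mul_mem ha ha) (by rw [← pow_two, ← pow_mul, ← pow_succ']; exact h)
    set b := g * a * g⁻¹ with hb
    have hbA : b ∈ A := hnorm a ha
    set c := b * a⁻¹ with hc
    have hcA : c ∈ A := mul_mem hbA (inv_mem ha)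
    have hc2 : c * c = 1 := by
      have hcomm : Commute a⁻¹ b := hab _ (inv_mem ha) _ hbA
      have hbb : b * b = a * a := by rw [hb, ← h2]; group
      calc c * c = b * (a⁻¹ * b) * a⁻¹ := by rw [hc]; group
        _ = b * (b * a⁻¹) * a⁻¹ := by rw [hcomm.eq]
        _ = (b * b) * (a⁻¹ * a⁻¹) := by group
        _ = 1 := by rw [hbb]; group
    have hgc : g * c * g⁻¹ = c := hfix c hcA hc2
    have hba : b = c * a := by rw [hc]; group
    have hit : ∀ i : ℕ, g ^ i * a * (g ^ i)⁻¹ = c ^ i * a := by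
      intro i
      induction i with
      | zero => simp
      | succ i ihi =>
        have hci : g * c ^ i * g⁻¹ = c ^ i := by
          have h' := map_pow (MulAut.conj g) c i
          simp only [MulAut.conj_apply, hgc] at h'
          exact h'
        calc g ^ (i + 1) * a * (g ^ (i + 1))⁻¹ = g * (g ^ i * a * (g ^ i)⁻¹) * g⁻¹ := by
              rw [pow_succ']; group
          _ = (g * c ^ i * g⁻¹) * (g * a * g⁻¹) := by rw [ihi]; simp [mul_assoc]
          _ = c ^ (i + 1) * a := by rw [hci, ← hb, hba, pow_succ]; simp [mul_assoc]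
    have hn := hit (orderOf g)
    rw [pow_orderOf_eq_one, one_mul, inv_one, mul_one] at hn
    have hcn : c ^ orderOf g = 1 := mul_right_cancel (hn.symm.trans (one_mul a).symm)
    obtain ⟨j, hj⟩ := hg
    rw [hj, pow_succ, pow_mul, pow_two, hc2, one_pow, one_mul] at hcn
    rw [hba, hcn, one_mul]

/-- an abelian Sylow subgroup whose normaliser fixes its involutions has a normal complement -/
theorem complement_of_fix (P : Sylow 2 H) (hab : ∀ a ∈ (P : Subgroup H), ∀ b ∈ (P : Subgroup H), Commute a b)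
    (hfix : ∀ g ∈ normalizer ((P : Subgroup H) : Set H), ∀ a ∈ (P : Subgroup H), a * a = 1 → g * a * g⁻¹ = a) :
    Cfsg.HasNormalPComplement 2 H := by
  haveI : Fact (Nat.Prime 2) := ⟨Nat.prime_two⟩
  refine CfsgLib.Fusion.hasNormalPComplement_of_normalizer_le_centralizer P fun g hg => ?_
  refine mem_centralizer_iff.2 fun a ha => ?_
  obtain ⟨k, n, hn, hkn⟩ := Nat.exists_eq_two_pow_mul_odd (orderOf_pos g).ne'
  have h2 : g ^ n ∈ (P : Subgroup H) := by
    have hp : IsPGroup 2 (zpowers (g ^ n)) := IsPGroup.of_card (n := k) (by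
      rw [Nat.card_zpowers, orderOf_pow, hkn, Nat.gcd_eq_right (Dvd.intro_left _ rfl),
        Nat.mul_div_cancel _ hn.pos])
    have hle : zpowers (g ^ n) ≤ normalizer ((P : Subgroup H) : Set H) := zpowers_le.2 (pow_mem hg n)
    have heq := P.3 (IsPGroup.to_sup_of_normal_right' hp P.2 hle) le_sup_right
    rw [← heq]
    exact (le_sup_left : zpowers (g ^ n) ≤ _) (mem_zpowers _)
  have hodd : Odd (orderOf (g ^ 2 ^ k)) := by
    rw [orderOf_pow, hkn, Nat.gcd_eq_right (Dvd.intro _ rfl), Nat.mul_div_cancel_left _ (by positivity)]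
    exact hn
  have hN : g ^ 2 ^ k ∈ normalizer ((P : Subgroup H) : Set H) := pow_mem hg _
  have h3 : Commute (g ^ 2 ^ k) a :=
    mul_inv_eq_iff_eq_mul.1 (fixed_of_fix_invol _ P.2 hab hodd
      (fun b hb => (mem_normalizer_iff.1 hN b).1 hb) (fun b hb => hfix _ hN b hb) a ha)
  have h4 : Commute (g ^ n) a := hab _ h2 _ ha
  have hcop : Int.gcd ((2 ^ k : ℕ) : ℤ) (n : ℤ) = 1 := by
    rw [Int.gcd_natCast_natCast]
    exact Nat.Coprime.pow_left k (Nat.coprime_two_left.2 hn)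
  have hb := Int.gcd_eq_gcd_ab ((2 ^ k : ℕ) : ℤ) (n : ℤ)
  rw [hcop] at hb
  have h5 := (h3.zpow_left (Int.gcdA ((2 ^ k : ℕ) : ℤ) (n : ℤ))).mul_left
    (h4.zpow_left (Int.gcdB ((2 ^ k : ℕ) : ℤ) (n : ℤ)))
  rw [← zpow_natCast, ← zpow_natCast, ← zpow_mul, ← zpow_mul, ← zpow_add, ← hb, Nat.cast_one, zpow_one] at h5
  exact h5.eq.symm

end Generic

variable {m : ℕ} [NeZero m] {G : Type*} [Group G] [Finite G] [IsSimpleGroup G] (F : Fr G m)
  (hm : 2 ≤ m)
include hm

theorem g00_diag : g00 m ∈ diag m := mem_diag.2 rfl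

/-- elements of the diagonal part of order at most two fixed by `D` -/
theorem fix_invol {v : Sd (2 * m)} (hx : v.x = 0) (hs : v.s = 0) (hv : v * v = 1) {g : G} (hg : g ∈ D F) :
    g * F.φ v * g⁻¹ = F.φ v := by
  obtain ⟨hz, ht⟩ := (mem_D F).1 hg
  rcases inv_cases hv with (e | e | e | e) | ⟨p, q, e⟩ | ⟨p, e⟩ | ⟨p, e⟩
  · rw [e, map_one]; group
  · rw [e]; exact hz
  · rw [e]; exact ht
  · rw [e, ← (gt_facts (m := m)).2.2.2.2.2.2, map_mul]
    calc g * (F.φ (gt m) * F.φ (gz m)) * g⁻¹ = (g * F.φ (gt m) * g⁻¹) * (g * F.φ (gz m) * g⁻¹) := by group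
      _ = _ := by rw [hz, ht]
  all_goals rw [e] at hx hs; first | exact absurd hx one_ne_zero | exact absurd hs one_ne_zero

/-- an inversion of the diagonal part is outside some normal subgroup of index two of `D` -/
theorem exists_index_two_D {u : Sd (2 * m)} (hus : u.s = 0) (hux : u.x = 1) :
    ∃ N : Subgroup ↥(D F), N.Normal ∧ N.index = 2 ∧ (⟨F.φ u, diag_le_D F (mem_diag.2 hus)⟩ : ↥(D F)) ∉ N := by
  haveI : Fact (Nat.Prime 2) := ⟨Nat.prime_two⟩
  obtain ⟨P, hP⟩ := exists_sylow_D F hm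
  set T0 : Subgroup (Sd (2 * m)) := diag m ⊓ (Fr.chi (m := m) 1 0 0).ker with hT0
  have hmem : ∀ v, v ∈ T0 ↔ v.s = 0 ∧ v.x = 0 := fun v => by
    rw [hT0, mem_inf, mem_diag, MonoidHom.mem_ker, Fr.chi_apply]; simp
  set Q : Subgroup ↥(D F) := (T0.map F.φ).subgroupOf (D F) with hQ
  have hQP : Q ≤ (P : Subgroup ↥(D F)) := by
    rw [hP, hQ]
    exact fun x hx => Subgroup.map_mono (inf_le_left) hx
  have hrel : Q.relIndex (P : Subgroup ↥(D F)) = 2 := by
    rw [hP, hQ, relIndex_subgroupOf (MG_le_D F), MG, relIndex_map_map_of_injective _ _ F.φ_inj]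
    refine index_eq_two_iff.2 ⟨⟨u, mem_diag.2 hus⟩, fun b => ?_⟩
    simp only [mem_subgroupOf, hmem, Subgroup.coe_mul]
    have hbs : (b : Sd (2 * m)).s = 0 := mem_diag.1 b.2
    have e1 : ((b : Sd (2 * m)) * u).x = (b : Sd (2 * m)).x + 1 := by rw [← hux]; rfl
    have e2 : ((b : Sd (2 * m)) * u).s = 0 := by
      show (b : Sd (2 * m)).s + u.s = 0
      rw [hbs, hus, add_zero]
    rw [e1, e2, hbs]
    rcases two_cases (b : Sd (2 * m)).x with e | e <;> simp [e, Sd.one_add_one, Xor]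
  have hu2 : u * u = 1 := by
    obtain ⟨p, q, x, s⟩ := u
    obtain rfl : s = 0 := hus
    obtain rfl : x = 1 := hux
    simp [mul_def, one_def, Sd.mk.injEq, Sd.one_add_one]
  obtain ⟨N, hN, hNi, hu⟩ := CfsgLib.Fusion.thompson_transfer P hQP hrel
    (u := ⟨F.φ u, diag_le_D F (mem_diag.2 hus)⟩) (Subtype.ext (by
      show F.φ u ^ 2 = 1
      rw [pow_two, ← map_mul, hu2, map_one]))
    (fun g hg => by
      obtain ⟨v, hv, hve⟩ := hg
      obtain ⟨hvs, hvx⟩ := (hmem v).1 hv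
      replace hve : F.φ v = (g : G) * F.φ u * (g : G)⁻¹ := hve
      have hv2 : v * v = 1 := F.φ_inj (by
        rw [map_mul, hve, map_one]
        calc (g : G) * F.φ u * (g : G)⁻¹ * ((g : G) * F.φ u * (g : G)⁻¹) = (g : G) * F.φ (u * u) * (g : G)⁻¹ := by
              rw [map_mul]; group
          _ = 1 := by rw [hu2, map_one]; group)
      have h := fix_invol F hm hvx hvs hv2 (inv_mem g.2)
      rw [hve] at h
      have h' : F.φ u = F.φ v := by
        rw [hve]
        refine Eq.trans ?_ h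
        group
      rw [F.φ_inj h', hvx] at hux
      exact zero_ne_one hux)
  exact ⟨N, hN, hNi, hu⟩

/-- `D` is an odd normal subgroup times the diagonal part -/
theorem core_sup : Cfsg.pPrimeCore 2 ↥(D F) ⊔ (MG F).subgroupOf (D F) = ⊤ := by
  haveI : Fact (Nat.Prime 2) := ⟨Nat.prime_two⟩
  obtain ⟨P, hP⟩ := exists_sylow_D F hm
  set R : Subgroup ↥(D F) := ⨅ N : {N : Subgroup ↥(D F) // N.Normal ∧ N.index = 2}, N.1 with hR
  haveI hRn : R.Normal := normal_iInf_normal fun N => N.2.1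
  have hsq : ∀ x : ↥(D F), x * x ∈ R := fun x => mem_iInf.2 fun N => mul_self_mem_of_index_two N.2.2 x
  have hRQ : IsPGroup 2 (↥(D F) ⧸ R) := by
    intro x
    obtain ⟨x, rfl⟩ := QuotientGroup.mk'_surjective R x
    exact ⟨1, by rw [pow_one, pow_two, ← map_mul, QuotientGroup.mk'_apply, QuotientGroup.eq_one_iff]; exact hsq x⟩
  obtain ⟨r, hr⟩ := hRQ.exists_card_eq
  have hodd : ¬ 2 ∣ ((P : Subgroup ↥(D F)).subgroupOf R).index := fun h =>
    P.not_dvd_index (h.trans (CfsgLib.ProdFusion.relIndex_dvd_of_normal _ R))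
  let A : Sylow 2 R := (P.2.comap_subtype (K := R)).toSylow hodd
  have hA : (A : Subgroup R) = (P : Subgroup ↥(D F)).subgroupOf R := rfl
  -- the elements of the intersection
  have hAe : ∀ a ∈ (A : Subgroup R), ∃ v : Sd (2 * m), v.s = 0 ∧ v.x = 0 ∧ F.φ v = ((a : ↥(D F)) : G) := by
    intro a ha
    rw [hA, mem_subgroupOf, hP] at ha
    obtain ⟨v, hv, hve⟩ := ha
    refine ⟨v, mem_diag.1 hv, ?_, hve⟩
    rcases two_cases v.x with e | e
    · exact e
    · exfalso
      obtain ⟨N, hN, hNi, hN'⟩ := exists_index_two_D F hm (mem_diag.1 hv) e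
      refine hN' ?_
      have : (⟨F.φ v, diag_le_D F (mem_diag.2 (mem_diag.1 hv))⟩ : ↥(D F)) = (a : ↥(D F)) := Subtype.ext hve
      rw [this]
      exact mem_iInf.1 a.2 ⟨N, hN, hNi⟩
  have hab : ∀ a ∈ (A : Subgroup R), ∀ b ∈ (A : Subgroup R), Commute a b := by
    intro a ha b hb
    obtain ⟨v, hvs, hvx, hv⟩ := hAe a ha
    obtain ⟨w, hws, hwx, hw⟩ := hAe b hb
    refine Subtype.ext (Subtype.ext ?_)
    show ((a : ↥(D F)) : G) * ((b : ↥(D F)) : G) = ((b : ↥(D F)) : G) * ((a : ↥(D F)) : G)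
    rw [← hv, ← hw, ← map_mul, ← map_mul]
    congr 1
    obtain ⟨p, q, x, s⟩ := v
    obtain ⟨p', q', x', s'⟩ := w
    obtain rfl : s = 0 := hvs
    obtain rfl : x = 0 := hvx
    obtain rfl : s' = 0 := hws
    obtain rfl : x' = 0 := hwx
    simp [mul_def, Sd.mk.injEq, add_comm]
  obtain ⟨P', K, hK, hc⟩ := complement_of_fix A hab (fun g _ a ha h2 => by
    obtain ⟨v, hvs, hvx, hv⟩ := hAe a ha
    refine Subtype.ext (Subtype.ext ?_)
    show ((g : ↥(D F)) : G) * ((a : ↥(D F)) : G) * ((g : ↥(D F)) : G)⁻¹ = _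
    rw [← hv]
    refine fix_invol F hm hvx hvs (F.φ_inj ?_) (g : ↥(D F)).2
    rw [map_mul, hv, map_one]
    exact congrArg Subtype.val (congrArg Subtype.val h2))
  haveI := hK
  set O := Cfsg.pPrimeCore 2 ↥(D F) with hO
  have hKO : K.map R.subtype ≤ O := by
    have h1 : K ≤ Cfsg.pPrimeCore 2 R := CfsgLib.Coprime.le_pPrimeCore_of_not_dvd Nat.prime_two
      (by rw [← hc.index_eq_card]; exact P'.not_dvd_index)
    have h2 := CfsgLib.Coprime.pPrimeCore_map_subtype_eq Nat.prime_two R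
    exact (Subgroup.map_mono h1).trans (h2.le.trans inf_le_left)
  set S := O ⊔ (MG F).subgroupOf (D F) with hS
  have hPS : (P : Subgroup ↥(D F)) ≤ S := hP ▸ le_sup_right
  have hRS : R ≤ S := by
    rw [← relIndex_eq_one]
    have h1 : (S.subgroupOf R).index ∣ ((P : Subgroup ↥(D F)).subgroupOf R).index :=
      index_dvd_of_le fun x hx => hPS hx
    have h2 : (S.subgroupOf R).index ∣ K.index :=
      index_dvd_of_le fun x hx => (le_sup_left : O ≤ S) (hKO ⟨x, hx, rfl⟩)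
    obtain ⟨i, hi⟩ := (P'.2).exists_card_eq
    have h3 : K.index = 2 ^ i := by rw [hc.symm.index_eq_card, hi]
    rw [h3] at h2
    exact Nat.eq_one_of_dvd_coprimes
      (Nat.Coprime.pow_right i ((Nat.prime_two.coprime_iff_not_dvd.2 hodd).symm)) h1 h2
  rw [← index_eq_one]
  have h1 : S.index ∣ R.index := index_dvd_of_le hRS
  have h2 : S.index ∣ (P : Subgroup ↥(D F)).index := index_dvd_of_le hPS
  rw [index_eq_card R, hr] at h1
  exact Nat.eq_one_of_dvd_coprimes
    (Nat.Coprime.pow_right r ((Nat.prime_two.coprime_iff_not_dvd.2 P.not_dvd_index).symm)) h2 h1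

/-- conjugacy in `D` keeps the parities -/
theorem parity {p q p' q' : ZMod (2 * m)} {g : G} (hg : g ∈ D F)
    (h : g * F.φ ⟨p, q, 1, 0⟩ * g⁻¹ = F.φ ⟨p', q', 1, 0⟩) : par p = par p' ∧ par q = par q' := by
  haveI : Fact (Nat.Prime 2) := ⟨Nat.prime_two⟩
  set O := Cfsg.pPrimeCore 2 ↥(D F) with hO
  haveI : O.Normal := by
    haveI := CfsgLib.Coprime.pPrimeCore_characteristic (G := ↥(D F)) 2
    infer_instance
  set MD := (MG F).subgroupOf (D F) with hMD
  obtain ⟨o, ho, t, ht, hot⟩ := Subgroup.mem_sup_of_normal_left.1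
    (show (⟨g, hg⟩ : ↥(D F)) ∈ O ⊔ MD by rw [core_sup F hm]; exact mem_top _)
  obtain ⟨u, hu, hue⟩ := ht
  replace hue : F.φ u = (t : G) := hue
  set x : ↥(D F) := ⟨F.φ ⟨p, q, 1, 0⟩, diag_le_D F (mem_diag.2 rfl)⟩ with hx
  set x' : ↥(D F) := ⟨F.φ ⟨p', q', 1, 0⟩, diag_le_D F (mem_diag.2 rfl)⟩ with hx'
  have hgx : o * (t * x * t⁻¹) * o⁻¹ = x' := by
    rw [show o * (t * x * t⁻¹) * o⁻¹ = (o * t) * x * (o * t)⁻¹ by group, hot]
    exact Subtype.ext h
  set y := t * x * t⁻¹ with hy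
  have hxM : x ∈ MD := ⟨_, mem_diag.2 rfl, rfl⟩
  have htM : t ∈ MD := ⟨u, hu, hue⟩
  have hyM : y ∈ MD := mul_mem (mul_mem htM hxM) (inv_mem htM)
  have hd : x' * y⁻¹ ∈ O ⊓ MD := by
    refine ⟨?_, MD.mul_mem (show x' ∈ MD from ⟨_, mem_diag.2 rfl, rfl⟩) (MD.inv_mem hyM)⟩
    rw [← hgx, show o * y * o⁻¹ * y⁻¹ = o * (y * o⁻¹ * y⁻¹) by group]
    exact mul_mem ho (‹O.Normal›.conj_mem _ (inv_mem ho) y)
  have hdis : O ⊓ MD = ⊥ := by
    obtain ⟨P, hP⟩ := exists_sylow_D F hm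
    obtain ⟨i, hi⟩ := P.2.exists_card_eq
    refine inf_eq_bot_of_coprime ?_
    rw [hMD, ← hP, hi]
    exact Nat.Coprime.pow_right i
      ((Nat.prime_two.coprime_iff_not_dvd.2 (CfsgLib.Coprime.pPrimeCore_not_dvd Nat.prime_two)).symm)
  rw [hdis, mem_bot, mul_inv_eq_one] at hd
  have hφ : F.φ (u * ⟨p, q, 1, 0⟩ * u⁻¹) = F.φ ⟨p', q', 1, 0⟩ := by
    rw [← conj_map, hue]
    exact (congrArg Subtype.val hd).symm
  have e := F.φ_inj hφ
  obtain ⟨a, b, ξ, σ⟩ := u
  obtain rfl : σ = 0 := mem_diag.1 hu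
  rcases two_cases ξ with rfl | rfl <;> simp [mul_def, inv_def, Sd.mk.injEq, Sd.one_add_one] at e <;>
    obtain ⟨e1, e2⟩ := e <;> rw [← e1, ← e2] <;>
    simp only [map_add, map_neg, ZMod.neg_eq_self_mod_two] <;>
    constructor <;> ring_nf <;> simp [CharTwo.two_eq_zero]

end CfsgLib.Invol.GTwoCent
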