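import Cfsg.Agent.Lib.Invol.GTwoOdd.Fusion

/-!
# The two quaternion subgroups of the model
-/

set_option autoImplicit false
set_option linter.unusedSectionVars false
set_option linter.unusedSimpArgs false

namespace CfsgLib.Invol.GTwoCent

open Subgroup CfsgLib.Invol.GTwoOdd CfsgLib.Invol.GTwoOdd.Sd

variable {m : ℕ} [NeZero m]

theorem neg_m : -((m : ℕ) : ZMod (2 * m)) = (m : ℕ) := by linear_combination -(m_add_m (m := m))

/-- the first quaternion subgroup -/
def Q1 (m : ℕ) [NeZero m] : Subgroup (Sd (2 * m)) where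
  carrier := {u | (u.x = 0 ∧ u.s = 0 ∧ u.p = u.q) ∨ (u.x = 1 ∧ u.s = 1 ∧ u.p = u.q + (m : ℕ))}
  one_mem' := Or.inl ⟨rfl, rfl, rfl⟩
  mul_mem' := by
    rintro ⟨p, q, x, s⟩ ⟨a, b, y, r⟩ h h'
    simp only [Set.mem_setOf_eq] at h h'
    rcases h with ⟨rfl, rfl, e⟩ | ⟨rfl, rfl, e⟩ <;> rcases h' with ⟨rfl, rfl, e'⟩ | ⟨rfl, rfl, e'⟩ <;>
      simp [mul_def, Sd.one_add_one, e, e'] <;>
      first
        | linear_combination (m_add_m (m := m))
        | linear_combination -(m_add_m (m := m))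
        | ring1
  inv_mem' := by
    rintro ⟨p, q, x, s⟩ h
    simp only [Set.mem_setOf_eq] at h
    rcases h with ⟨rfl, rfl, e⟩ | ⟨rfl, rfl, e⟩ <;> simp [inv_def, e, neg_m] <;>
      linear_combination -(m_add_m (m := m))

/-- the second quaternion subgroup -/
def Q2 (m : ℕ) [NeZero m] : Subgroup (Sd (2 * m)) where
  carrier := {u | (u.x = 0 ∧ u.s = 0 ∧ u.p + u.q = 0) ∨ (u.x = 0 ∧ u.s = 1 ∧ u.p + u.q = (m : ℕ))}
  one_mem' := Or.inl ⟨rfl, rfl, add_zero 0⟩
  mul_mem' := by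
    rintro ⟨p, q, x, s⟩ ⟨a, b, y, r⟩ h h'
    simp only [Set.mem_setOf_eq] at h h'
    rcases h with ⟨rfl, rfl, e⟩ | ⟨rfl, rfl, e⟩ <;> rcases h' with ⟨rfl, rfl, e'⟩ | ⟨rfl, rfl, e'⟩ <;>
      simp [mul_def, Sd.one_add_one] <;>
      first
        | linear_combination e + e'
        | linear_combination e + e' + (m_add_m (m := m))
        | linear_combination e + e' - (m_add_m (m := m))
  inv_mem' := by
    rintro ⟨p, q, x, s⟩ h
    simp only [Set.mem_setOf_eq] at h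
    rcases h with ⟨rfl, rfl, e⟩ | ⟨rfl, rfl, e⟩ <;> simp [inv_def] <;>
      first
        | linear_combination -e
        | linear_combination -e - (m_add_m (m := m))
        | linear_combination -e + (m_add_m (m := m))

theorem mem_Q1 {u : Sd (2 * m)} : u ∈ Q1 m ↔
    (u.x = 0 ∧ u.s = 0 ∧ u.p = u.q) ∨ (u.x = 1 ∧ u.s = 1 ∧ u.p = u.q + (m : ℕ)) := Iff.rfl

theorem mem_Q2 {u : Sd (2 * m)} : u ∈ Q2 m ↔
    (u.x = 0 ∧ u.s = 0 ∧ u.p + u.q = 0) ∨ (u.x = 0 ∧ u.s = 1 ∧ u.p + u.q = (m : ℕ)) := Iff.rfl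

/-- the first root -/
def J1 (m : ℕ) : Sd (2 * m) := ⟨m, 0, 1, 1⟩
/-- the second root -/
def J2 (m : ℕ) : Sd (2 * m) := ⟨m, 0, 0, 1⟩

theorem J1_mem : J1 m ∈ Q1 m := Or.inr ⟨rfl, rfl, by simp [J1]⟩
theorem J2_mem : J2 m ∈ Q2 m := Or.inr ⟨rfl, rfl, by simp [J2]⟩

theorem J1_sq : J1 m * J1 m = gz m := by simp [J1, mul_def, gz, Sd.mk.injEq, Sd.one_add_one, neg_m]
theorem J2_sq : J2 m * J2 m = gz m := by simp [J2, mul_def, gz, Sd.mk.injEq, Sd.one_add_one]

theorem gz_mem_Q1 : gz m ∈ Q1 m := Or.inl ⟨rfl, rfl, rfl⟩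
theorem gz_mem_Q2 : gz m ∈ Q2 m := Or.inl ⟨rfl, rfl, m_add_m⟩

theorem Q_comm {a b : Sd (2 * m)} (ha : a ∈ Q1 m) (hb : b ∈ Q2 m) : a * b = b * a := by
  obtain ⟨p, q, x, s⟩ := a
  obtain ⟨c, d, y, r⟩ := b
  simp only [mem_Q1] at ha
  simp only [mem_Q2] at hb
  rcases ha with ⟨rfl, rfl, e⟩ | ⟨rfl, rfl, e⟩ <;> rcases hb with ⟨rfl, rfl, e'⟩ | ⟨rfl, rfl, e'⟩ <;>
    simp [mul_def, Sd.mk.injEq, Sd.one_add_one]
  · constructor <;> ring
  · refine ⟨?_, ?_⟩
    · linear_combination e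
    · linear_combination -e
  · constructor <;> first
      | linear_combination (e' : c + d = 0)
      | linear_combination -(e' : c + d = 0)
  · constructor <;> first
      | linear_combination e - e'
      | linear_combination e + e'
      | linear_combination -e + e'
      | linear_combination -e - e'
      | linear_combination e + e' - (m_add_m (m := m))
      | linear_combination -e + e' + (m_add_m (m := m))
      | linear_combination e - e' + (m_add_m (m := m))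
      | linear_combination -e - e' + (m_add_m (m := m))
      | linear_combination -e + e' - (m_add_m (m := m))
      | linear_combination -e - e' - (m_add_m (m := m))
      | linear_combination e - e' - (m_add_m (m := m))

/-- the inner elements -/
def IsInner (u : Sd (2 * m)) : Prop := par u.p = par u.q

theorem Q1_inner (hev : 2 ∣ m) {u : Sd (2 * m)} (h : u ∈ Q1 m) : IsInner u := by
  rcases (mem_Q1).1 h with ⟨-, -, e⟩ | ⟨-, -, e⟩ <;> show par u.p = par u.q <;> rw [e]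
  rw [map_add, par_m hev, add_zero]

theorem Q2_inner (hev : 2 ∣ m) {u : Sd (2 * m)} (h : u ∈ Q2 m) : IsInner u := by
  have key : ∀ a b : ZMod 2, a + b = 0 → a = b := by decide
  rcases (mem_Q2).1 h with ⟨-, -, e⟩ | ⟨-, -, e⟩ <;> refine key _ _ ?_ <;> rw [← map_add, e]
  · exact map_zero _
  · exact par_m hev

theorem isInner_mul_diag {u v : Sd (2 * m)} (hu : IsInner u) (hv : IsInner v) : IsInner (u * v) := by
  show par (u * v).p = par (u * v).q
  rcases two_cases u.x with a | a <;> rcases two_cases u.s with b | b <;>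
    simp [mul_def, a, b, ZMod.neg_eq_self_mod_two, show par u.p = par u.q from hu,
      show par v.p = par v.q from hv]

theorem exists_factor (hev : 2 ∣ m) {u : Sd (2 * m)} (hu : IsInner u) :
    ∃ a ∈ Q1 m, ∃ b ∈ Q2 m, u = a * b := by
  obtain ⟨a', ha', b', hb', hx, hs⟩ : ∃ a' ∈ Q1 m, ∃ b' ∈ Q2 m, (u * (a' * b')).x = 0 ∧ (u * (a' * b')).s = 0 := by
    rcases two_cases u.x with e | e <;> rcases two_cases u.s with e' | e'
    · exact ⟨1, one_mem _, 1, one_mem _, by simp [mul_def, one_def, e], by simp [mul_def, one_def, e']⟩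
    · exact ⟨1, one_mem _, J2 m, J2_mem, by simp [mul_def, one_def, J2, e], by simp [mul_def, one_def, J2, e', Sd.one_add_one]⟩
    · exact ⟨J1 m, J1_mem, J2 m, J2_mem, by simp [mul_def, J1, J2, e, Sd.one_add_one],
        by simp [mul_def, J1, J2, e', Sd.one_add_one]⟩
    · exact ⟨J1 m, J1_mem, 1, one_mem _, by simp [mul_def, one_def, J1, e, Sd.one_add_one],
        by simp [mul_def, one_def, J1, e', Sd.one_add_one]⟩
  have hin : IsInner (u * (a' * b')) := isInner_mul_diag hu (isInner_mul_diag (Q1_inner hev ha') (Q2_inner hev hb'))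
  generalize ht : u * (a' * b') = t at hx hs hin
  obtain ⟨p, q, x, s⟩ := t
  obtain rfl : x = 0 := hx
  obtain rfl : s = 0 := hs
  obtain ⟨h, hh⟩ := exists_half (d := p - q) (by rw [map_sub, show par p = par q from hin, sub_self])
  have e : (⟨p, q, 0, 0⟩ : Sd (2 * m)) = ⟨q + h, q + h, 0, 0⟩ * ⟨h, -h, 0, 0⟩ := by
    simp [mul_def, Sd.mk.injEq]
    linear_combination hh
  refine ⟨⟨q + h, q + h, 0, 0⟩ * a'⁻¹, mul_mem (Or.inl ⟨rfl, rfl, rfl⟩) (inv_mem ha'), ⟨h, -h, 0, 0⟩ * b'⁻¹,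
    mul_mem (Or.inl ⟨rfl, rfl, add_neg_cancel h⟩) (inv_mem hb'), ?_⟩
  have hc := Q_comm (inv_mem ha') (show (⟨h, -h, 0, 0⟩ : Sd (2 * m)) * b'⁻¹ ∈ Q2 m from
    mul_mem (Or.inl ⟨rfl, rfl, add_neg_cancel h⟩) (inv_mem hb'))
  rw [mul_assoc, hc, ← mul_assoc, ← mul_assoc, ← e, ← ht]
  group

/-- the elements squaring to the centre -/
theorem root_cases {u : Sd (2 * m)} (h : u * u = gz m) : u ∈ Q1 m ∨ u ∈ Q2 m := by
  obtain ⟨p, q, x, s⟩ := u
  rcases two_cases x with rfl | rfl <;> rcases two_cases s with rfl | rfl <;>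
    simp [mul_def, gz, Sd.mk.injEq, Sd.one_add_one] at h
  · obtain ⟨h1, h2⟩ := h
    have h3 : (p - q) + (p - q) = 0 := by linear_combination h1 - h2
    rcases double_zero h3 with e | e
    · exact Or.inl (Or.inl ⟨rfl, rfl, sub_eq_zero.1 e⟩)
    · exact Or.inr (Or.inl ⟨rfl, rfl, show p + q = 0 by linear_combination h2 + e + (m_add_m (m := m))⟩)
  · exact Or.inr (Or.inr ⟨rfl, rfl, h.1⟩)
  · exact absurd h (m_ne_zero.symm)
  · exact Or.inl (Or.inr ⟨rfl, rfl, show p = q + (m : ℕ) by linear_combination h.1⟩)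

theorem unique_invol {u : Sd (2 * m)} (hu : u ∈ Q1 m ∨ u ∈ Q2 m) (h : u * u = 1) : u = 1 ∨ u = gz m := by
  obtain ⟨p, q, x, s⟩ := u
  simp only [mem_Q1, mem_Q2] at hu
  rcases hu with (⟨rfl, rfl, e⟩ | ⟨rfl, rfl, e⟩) | (⟨rfl, rfl, e⟩ | ⟨rfl, rfl, e⟩) <;>
    simp [mul_def, one_def, Sd.mk.injEq, Sd.one_add_one] at h
  · rcases double_zero h.2 with e' | e'
    · exact Or.inl (by simp [one_def, Sd.mk.injEq, e, e'])
    · exact Or.inr (by simp [gz, Sd.mk.injEq, e, e'])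
  · exact absurd (show ((m : ℕ) : ZMod (2 * m)) = 0 by linear_combination h.1 - e) m_ne_zero
  · rcases double_zero h.2 with e' | e'
    · exact Or.inl (by simp only [one_def, Sd.mk.injEq]; exact ⟨by linear_combination e - e', e', trivial, trivial⟩)
    · refine Or.inr ?_
      simp only [gz, Sd.mk.injEq]
      exact ⟨by linear_combination e - e' - (m_add_m (m := m)), e', trivial, trivial⟩
  · exact absurd (show ((m : ℕ) : ZMod (2 * m)) = 0 by linear_combination h.1 - e) m_ne_zero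

theorem inf_cases {u : Sd (2 * m)} (h1 : u ∈ Q1 m) (h2 : u ∈ Q2 m) : u = 1 ∨ u = gz m := by
  refine unique_invol (Or.inl h1) ?_
  obtain ⟨p, q, x, s⟩ := u
  simp only [mem_Q1] at h1
  simp only [mem_Q2] at h2
  rcases h1 with ⟨rfl, rfl, e⟩ | ⟨rfl, rfl, e⟩ <;> rcases h2 with ⟨h3, h4, e'⟩ | ⟨h3, h4, e'⟩ <;>
    first | exact absurd h3 one_ne_zero | exact absurd h4 (by decide) | skip
  simp [mul_def, one_def, Sd.mk.injEq]
  exact ⟨by linear_combination e + e', by linear_combination e' - e⟩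

theorem tail1_root {u : Sd (2 * m)} (h : u ∈ Q1 m) (hx : u.x = 1) : u * u = gz m := by
  obtain ⟨p, q, x, s⟩ := u
  simp only [mem_Q1] at h
  rcases h with ⟨rfl, rfl, e⟩ | ⟨rfl, rfl, e⟩
  · exact absurd hx zero_ne_one
  · simp [mul_def, gz, Sd.mk.injEq, Sd.one_add_one, e, neg_m]

theorem tail2_root {u : Sd (2 * m)} (h : u ∈ Q2 m) (hs : u.s = 1) : u * u = gz m := by
  obtain ⟨p, q, x, s⟩ := u
  simp only [mem_Q2] at h
  rcases h with ⟨rfl, rfl, e⟩ | ⟨rfl, rfl, e⟩
  · exact absurd hs zero_ne_one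
  · simp [mul_def, gz, Sd.mk.injEq, Sd.one_add_one]
    exact ⟨e, by linear_combination e⟩

/-- the roots generate each quaternion subgroup -/
theorem Q1_gen : Q1 m = closure {u | u ∈ Q1 m ∧ u * u = gz m} := by
  refine le_antisymm (fun u hu => ?_) ((closure_le _).2 fun u hu => hu.1)
  have hJ : J1 m ∈ closure {u | u ∈ Q1 m ∧ u * u = gz m} := subset_closure ⟨J1_mem, J1_sq⟩
  rcases (mem_Q1).1 hu with ⟨hx, -, -⟩ | ⟨hx, -, -⟩
  · rw [← mul_inv_cancel_right u (J1 m)]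
    refine mul_mem (subset_closure ⟨mul_mem hu J1_mem, tail1_root (mul_mem hu J1_mem) ?_⟩) (inv_mem hJ)
    simp [mul_def, J1, hx]
  · exact subset_closure ⟨hu, tail1_root hu hx⟩

theorem Q2_gen : Q2 m = closure {u | u ∈ Q2 m ∧ u * u = gz m} := by
  refine le_antisymm (fun u hu => ?_) ((closure_le _).2 fun u hu => hu.1)
  have hJ : J2 m ∈ closure {u | u ∈ Q2 m ∧ u * u = gz m} := subset_closure ⟨J2_mem, J2_sq⟩
  rcases (mem_Q2).1 hu with ⟨-, hs, -⟩ | ⟨-, hs, -⟩
  · rw [← mul_inv_cancel_right u (J2 m)]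
    refine mul_mem (subset_closure ⟨mul_mem hu J2_mem, tail2_root (mul_mem hu J2_mem) ?_⟩) (inv_mem hJ)
    simp [mul_def, J2, hs]
  · exact subset_closure ⟨hu, tail2_root hu hs⟩

/-- a subgroup generated by roots, with only one involution, lies in one quaternion subgroup -/
theorem le_Q {A : Subgroup (Sd (2 * m))} (hA : A ≤ closure {u | u ∈ A ∧ u * u = gz m})
    (huniq : ∀ u ∈ A, u * u = 1 → u = 1 ∨ u = gz m) : A ≤ Q1 m ∨ A ≤ Q2 m := by
  by_contra hcon
  rw [not_or] at hcon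
  obtain ⟨a, ⟨haA, ha⟩, ha2⟩ : ∃ a, (a ∈ A ∧ a * a = gz m) ∧ a ∉ Q2 m := by
    by_contra! h
    exact hcon.2 (hA.trans ((closure_le _).2 h))
  obtain ⟨b, ⟨hbA, hb⟩, hb1⟩ : ∃ b, (b ∈ A ∧ b * b = gz m) ∧ b ∉ Q1 m := by
    by_contra! h
    exact hcon.1 (hA.trans ((closure_le _).2 h))
  have ha1 : a ∈ Q1 m := (root_cases ha).resolve_right ha2
  have hb2 : b ∈ Q2 m := (root_cases hb).resolve_left hb1
  have hab : a * b * (a * b) = 1 := by
    rw [show a * b * (a * b) = a * (b * a) * b by group, ← Q_comm ha1 hb2,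
      show a * (a * b) * b = (a * a) * (b * b) by group, ha, hb]
    simp [mul_def, gz, one_def, Sd.mk.injEq, m_add_m]
  have hbe : b = a⁻¹ * (a * b) := by group
  rcases huniq _ (mul_mem haA hbA) hab with e | e <;> rw [e] at hbe <;>
    exact hb1 (hbe ▸ mul_mem (inv_mem ha1) (by first | exact one_mem _ | exact gz_mem_Q1))

theorem conj_mem_Q1 {u : Sd (2 * m)} (hu : u ∈ Q1 m) (c : Sd (2 * m)) : c * u * c⁻¹ ∈ Q1 m := by
  obtain ⟨a, b, y, r⟩ := c
  obtain ⟨p, q, x, s⟩ := u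
  simp only [mem_Q1] at hu ⊢
  rcases hu with ⟨rfl, rfl, e⟩ | ⟨rfl, rfl, e⟩ <;> rcases two_cases y with rfl | rfl <;>
    rcases two_cases r with rfl | rfl <;> simp [mul_def, inv_def, Sd.one_add_one, e, neg_m] <;>
    first
      | ring1
      | linear_combination (0 : ZMod (2 * m)) * (m_add_m (m := m))
      | linear_combination -(m_add_m (m := m))
      | linear_combination (m_add_m (m := m))

theorem conj_mem_Q2 {u : Sd (2 * m)} (hu : u ∈ Q2 m) (c : Sd (2 * m)) : c * u * c⁻¹ ∈ Q2 m := by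
  obtain ⟨a, b, y, r⟩ := c
  obtain ⟨p, q, x, s⟩ := u
  simp only [mem_Q2] at hu ⊢
  rcases hu with ⟨rfl, rfl, e⟩ | ⟨rfl, rfl, e⟩ <;> rcases two_cases y with rfl | rfl <;>
    rcases two_cases r with rfl | rfl <;> simp [mul_def, inv_def, Sd.one_add_one] <;>
    first
      | linear_combination e
      | linear_combination -e
      | linear_combination e + (m_add_m (m := m))
      | linear_combination -e - (m_add_m (m := m))
      | linear_combination -e + (m_add_m (m := m))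

theorem Q1_normal : (Q1 m).Normal := ⟨fun _ hu c => conj_mem_Q1 hu c⟩
theorem Q2_normal : (Q2 m).Normal := ⟨fun _ hu c => conj_mem_Q2 hu c⟩

theorem central_inner (hm : 2 ≤ m) (hev : 2 ∣ m) {u : Sd (2 * m)}
    (h : ∀ v, IsInner v → u * v = v * u) : u = 1 ∨ u = gz m := by
  obtain ⟨p, q, x, s⟩ := u
  haveI : Fact (1 < 2 * m) := ⟨by omega⟩
  have hne : (1 : ZMod (2 * m)) + 1 ≠ 0 := by
    intro e
    have h2 : ((2 : ℕ) : ZMod (2 * m)) = 0 := by rw [Nat.cast_ofNat]; linear_combination e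
    rw [ZMod.natCast_eq_zero_iff] at h2
    have := Nat.le_of_dvd two_pos h2
    omega
  have hi : ∀ a : ZMod (2 * m), IsInner (⟨a, -a, 0, 0⟩ : Sd (2 * m)) := fun a => by
    show par a = par (-a)
    rw [map_neg, ZMod.neg_eq_self_mod_two]
  have h1 := h ⟨1, 1, 0, 0⟩ rfl
  rcases two_cases x with rfl | rfl
  swap
  · rcases two_cases s with rfl | rfl <;> simp [mul_def, Sd.mk.injEq] at h1 <;>
      exact absurd (by linear_combination -h1.1) hne
  have h2 := h ⟨1, -1, 0, 0⟩ (hi 1)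
  rcases two_cases s with rfl | rfl
  swap
  · simp [mul_def, Sd.mk.injEq] at h2
    exact absurd (by linear_combination -h2.1) hne
  have h3 := h ⟨0, 0, 1, 0⟩ rfl
  have h4 := h ⟨0, 0, 0, 1⟩ rfl
  simp [mul_def, Sd.mk.injEq] at h3 h4
  obtain rfl : p = q := h4.1
  rcases double_zero (show p + p = 0 by linear_combination h3.1) with e | e
  · exact Or.inl (by simp [one_def, Sd.mk.injEq, e])
  · exact Or.inr (by simp [gz, Sd.mk.injEq, e])

end CfsgLib.Invol.GTwoCent
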