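import Cfsg.Agent.Lib.Invol.GTwoCent.Setup
import Cfsg.Agent.Lib.DDProd.Main
import Cfsg.Agent.Lib.ProdFusion.Direct

/-!
# The normal closure of the inner part modulo the centre: a direct product of two factors
-/

set_option autoImplicit false
set_option linter.unusedSectionVars false
set_option linter.style.haveILetI false

namespace CfsgLib.Invol.GTwoCent

open Subgroup CfsgLib.Invol CfsgLib.Invol.GTwoOdd CfsgLib.Invol.GTwoOdd.Sd

universe u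

theorem pow_diag {m : ℕ} [NeZero m] (a b : ZMod (2 * m)) (i : ℕ) :
    (⟨a, b, 0, 0⟩ : Sd (2 * m)) ^ i = ⟨i * a, i * b, 0, 0⟩ := by
  induction i with
  | zero => simp [one_def]
  | succ i ih =>
    rw [pow_succ, ih]
    simp [mul_def, Sd.mk.injEq]
    constructor <;> ring

theorem natCast_eq_m {m : ℕ} [NeZero m] {i : ℕ}
    (h : (i : ZMod (2 * m)) = 0 ∨ (i : ZMod (2 * m)) = (m : ℕ)) : m ∣ i := by
  rcases h with h | h
  · exact (Dvd.intro_left 2 rfl).trans ((ZMod.natCast_eq_zero_iff _ _).1 h)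
  · have h' := (ZMod.natCast_eq_natCast_iff' i m (2 * m)).1 h
    rw [Nat.mod_eq_of_lt (show m < 2 * m by have := NeZero.ne m; omega)] at h'
    rw [← Nat.div_add_mod i (2 * m), h']
    exact dvd_add (dvd_mul_of_dvd_left (dvd_mul_left m 2) _) dvd_rfl

namespace Cen

variable {Q : Type u} [Group Q] [Finite Q] {m : ℕ} [NeZero m] (C : Cen Q m)

/-- the inner part inside `K` -/
def φK : ↥(inner m) →* ↥C.K := (C.φ.comp (inner m).subtype).codRestrict C.K fun u => C.mem_K_iff.2 u.2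

theorem φK_coe (u : inner m) : (C.φK u : Q) = C.φ (u : Sd (2 * m)) := rfl

/-- the centre -/
def Zk : Subgroup ↥C.K := (zpowers (C.φ (gz m))).subgroupOf C.K

theorem Zk_central : C.Zk ≤ center ↥C.K := by
  intro x hx
  refine mem_center_iff.2 fun g => Subtype.ext ?_
  obtain ⟨i, hi⟩ := mem_zpowers_iff.1 hx
  show (g : Q) * (x : Q) = (x : Q) * (g : Q)
  rw [show (x : Q) = C.φ (gz m) ^ i from hi.symm]
  exact (Commute.zpow_right (C.central' (g : Q)) i).eq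

instance Zk_normal : C.Zk.Normal := ⟨fun x hx g => by
  rw [mem_center_iff.1 (C.Zk_central hx) g, mul_inv_cancel_right]; exact hx⟩

theorem mem_Zk {x : ↥C.K} : x ∈ C.Zk ↔ (x : Q) = 1 ∨ (x : Q) = C.φ (gz m) := by
  refine ⟨fun h => ?_, ?_⟩
  · exact CfsgLib.ProdFusion.mem_zpowers_invol (invol_iff.1 C.gz_ord).1 h
  · rintro (h | h)
    · show (x : Q) ∈ zpowers _
      rw [h]; exact one_mem _
    · show (x : Q) ∈ zpowers _
      rw [h]; exact mem_zpowers _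

theorem card_Zk : Nat.card C.Zk = 2 := by
  unfold Zk
  rw [Nat.card_congr (subgroupOfEquivOfLe (zpowers_le.2 (C.mem_K_iff.2 (mem_inner.2 rfl)))).toEquiv,
    Nat.card_zpowers, C.gz_ord]

/-- the projection -/
def ψ : ↥(inner m) →* ↥C.K ⧸ C.Zk := (QuotientGroup.mk' C.Zk).comp C.φK

theorem ψ_eq_one {u : inner m} : C.ψ u = 1 ↔ (u : Sd (2 * m)) = 1 ∨ (u : Sd (2 * m)) = gz m := by
  show QuotientGroup.mk' C.Zk (C.φK u) = 1 ↔ _
  rw [QuotientGroup.mk'_apply, QuotientGroup.eq_one_iff, C.mem_Zk, φK_coe]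
  exact or_congr ⟨fun h => C.φ_inj (h.trans (map_one _).symm), fun h => by rw [h, map_one]⟩
    C.φ_inj.eq_iff

/-- the image of a part -/
def Db (X : Subgroup (Sd (2 * m))) : Subgroup (↥C.K ⧸ C.Zk) := (X.subgroupOf (inner m)).map C.ψ

theorem mem_Db {X : Subgroup (Sd (2 * m))} {y : ↥C.K ⧸ C.Zk} :
    y ∈ C.Db X ↔ ∃ u : inner m, (u : Sd (2 * m)) ∈ X ∧ C.ψ u = y := Iff.rfl

theorem range_ψ_sylow : ∃ P : Sylow 2 (↥C.K ⧸ C.Zk), (P : Subgroup (↥C.K ⧸ C.Zk)) = C.ψ.range := by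
  haveI : Fact (Nat.Prime 2) := ⟨Nat.prime_two⟩
  obtain ⟨P, hP⟩ := C.exists_sylow_K
  refine ⟨P.mapSurjective (QuotientGroup.mk'_surjective C.Zk), ?_⟩
  rw [Sylow.coe_mapSurjective, ψ, MonoidHom.range_comp]
  congr 1
  refine map_injective C.K.subtype_injective (hP.trans ?_)
  rw [MonoidHom.map_range, SI]
  ext x
  exact ⟨fun ⟨u, hu, e⟩ => ⟨⟨u, hu⟩, e⟩, fun ⟨u, e⟩ => ⟨u, u.2, e⟩⟩

theorem oddCore_K : Cfsg.oddCore ↥C.K = ⊥ := by
  have h := CfsgLib.Coprime.pPrimeCore_map_subtype_eq (p := 2) Nat.prime_two C.K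
  rw [show Cfsg.pPrimeCore 2 Q = ⊥ from C.core, bot_inf_eq] at h
  exact (Subgroup.map_eq_bot_iff_of_injective _ C.K.subtype_injective).1 h

theorem oddCore_Kb : Cfsg.oddCore (↥C.K ⧸ C.Zk) = ⊥ :=
  CfsgLib.GW.oddCore_quotient_central C.oddCore_K C.Zk C.card_Zk

theorem eq_top_of_conj_mem (L : Subgroup ↥C.K)
    (h : ∀ g : Q, ∀ u ∈ inner m, ∀ x : ↥C.K, (x : Q) = g * C.φ u * g⁻¹ → x ∈ L) : L = ⊤ := by
  refine eq_top_iff.2 fun x _ => ?_
  have hle : C.K ≤ L.map C.K.subtype := by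
    refine (closure_le _).2 fun y hy => ?_
    obtain ⟨a, ⟨u, hu, rfl⟩, hc⟩ := Group.mem_conjugatesOfSet_iff.1 hy
    obtain ⟨g, rfl⟩ := isConj_iff.1 hc
    have hK : g * C.φ u * g⁻¹ ∈ C.K := C.K_normal.conj_mem _ (C.mem_K_iff.2 hu) g
    exact ⟨⟨_, hK⟩, h g u hu _ rfl, rfl⟩
  obtain ⟨y, hy, e⟩ := hle x.2
  rwa [show x = y from Subtype.ext e.symm]

theorem no_odd_index (L : Subgroup ↥C.K) (hL : L.Normal) (hi : Odd L.index) : L = ⊤ := by
  haveI : Fact (Nat.Prime 2) := ⟨Nat.prime_two⟩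
  haveI := hL
  refine C.eq_top_of_conj_mem L fun g u _ x hx => ?_
  obtain ⟨k, hk⟩ := (C.T.2 ⟨C.φ u, C.φ_mem u⟩)
  have hxk : x ^ 2 ^ k = 1 := Subtype.ext (by
    rw [SubgroupClass.coe_pow, hx, conj_pow, show C.φ u ^ 2 ^ k = 1 from congrArg Subtype.val hk, mul_one,
      mul_inv_cancel, OneMemClass.coe_one])
  rw [← QuotientGroup.eq_one_iff, ← QuotientGroup.mk'_apply, ← orderOf_eq_one_iff]
  refine Nat.eq_one_of_dvd_coprimes (Nat.Coprime.pow_left k (Nat.coprime_two_left.2 hi)) ?_ ?_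
  · exact (orderOf_map_dvd _ x).trans (orderOf_dvd_of_pow_eq_one hxk)
  · rw [index_eq_card]; exact orderOf_dvd_natCard _

theorem no_index_two (h4 : 4 ∣ m) (L : Subgroup ↥C.K) : L.index ≠ 2 := by
  intro hi
  let R : Subgroup Q := closure {x | ∃ k ∈ C.K, k * k = x}
  have hRn : R.Normal := by
    refine ⟨fun x hx g => ?_⟩
    have : R.map (MulAut.conj g).toMonoidHom ≤ R := by
      rw [MonoidHom.map_closure]
      refine (closure_le _).2 ?_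
      rintro _ ⟨_, ⟨k, hk, rfl⟩, rfl⟩
      exact subset_closure ⟨g * k * g⁻¹, C.K_normal.conj_mem k hk g, by
        show g * k * g⁻¹ * (g * k * g⁻¹) = g * (k * k) * g⁻¹
        group⟩
    exact this ⟨x, hx, rfl⟩
  have hRK : R ≤ L.map C.K.subtype := by
    refine (closure_le _).2 ?_
    rintro _ ⟨k, hk, rfl⟩
    exact ⟨⟨k, hk⟩ * ⟨k, hk⟩, mul_self_mem_of_index_two hi _, rfl⟩
  have hgt : C.φ (gt m) ∈ R := by
    obtain ⟨i, hi⟩ := h4
    have e : (⟨((2 * i : ℕ) : ZMod (2 * m)), 0, 0, 0⟩ : Sd (2 * m)) * ⟨((2 * i : ℕ) : ZMod (2 * m)), 0, 0, 0⟩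
        = gt m := by
      simp [mul_def, gt, Sd.mk.injEq]
      rw [hi]; push_cast; ring
    refine subset_closure ⟨C.φ ⟨((2 * i : ℕ) : ZMod (2 * m)), 0, 0, 0⟩, C.mem_K_iff.2 (mem_inner.2 ?_), ?_⟩
    · rw [map_zero, map_natCast, ZMod.natCast_eq_zero_iff]
      exact dvd_mul_right 2 i
    · rw [← map_mul, e]
  have hinv : ∀ v ∈ inner m, v * v = 1 → C.φ v ∈ R := by
    intro v hv h2
    by_cases h1 : v = 1
    · rw [h1, map_one]; exact one_mem R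
    by_cases hz : v = gz m
    · exact subset_closure ⟨C.φ (J1 m), C.mem_K_iff.2 (mem_inner.2 (Q1_inner C.even J1_mem)), by
        rw [← map_mul, J1_sq, hz]⟩
    obtain ⟨g, hg⟩ := isConj_iff.1 (C.fused v hv h2 h1 hz).symm
    have := hRn.conj_mem _ hgt g
    rwa [show g * C.φ (gt m) * g⁻¹ = C.φ v from hg] at this
  have htop : L = ⊤ := C.eq_top_of_conj_mem L fun g u hu x hx => by
    obtain ⟨a, b, e, ha, hb, ha2, hb2⟩ := inner_gen hu
    have hgu : g * C.φ u * g⁻¹ ∈ R :=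
      hRn.conj_mem _ (by rw [e, map_mul]; exact mul_mem (hinv a ha ha2) (hinv b hb hb2)) g
    obtain ⟨y, hy, hye⟩ := hRK hgu
    rwa [show x = y from Subtype.ext (hx.trans hye.symm)]
  rw [htop, index_top] at hi
  omega

theorem Kb_no_odd_index (L : Subgroup (↥C.K ⧸ C.Zk)) (hL : L.Normal) (hi : Odd L.index) : L = ⊤ := by
  have := C.no_odd_index (L.comap (QuotientGroup.mk' C.Zk)) (hL.comap _)
    (by rwa [index_comap_of_surjective _ (QuotientGroup.mk'_surjective _)])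
  rwa [← comap_top (QuotientGroup.mk' C.Zk), (comap_injective (QuotientGroup.mk'_surjective _)).eq_iff] at this

theorem Kb_perfect (h4 : 4 ∣ m) : commutator (↥C.K ⧸ C.Zk) = ⊤ :=
  CfsgLib.DDProd.commutator_eq_top C.Kb_no_odd_index fun L _ hi =>
    C.no_index_two h4 (L.comap (QuotientGroup.mk' C.Zk))
      (by rw [index_comap_of_surjective _ (QuotientGroup.mk'_surjective _), hi])

theorem Db_comm : ∀ a ∈ C.Db (Q1 m), ∀ b ∈ C.Db (Q2 m), a * b = b * a := by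
  rintro _ ⟨u, hu, rfl⟩ _ ⟨v, hv, rfl⟩
  rw [← map_mul, ← map_mul, show u * v = v * u from Subtype.ext (Q_comm hu hv)]

theorem Db_prod (P : Sylow 2 (↥C.K ⧸ C.Zk)) (hP : (P : Subgroup (↥C.K ⧸ C.Zk)) = C.ψ.range) :
    Cfsg.IsInternalDirectProduct (C.Db (Q1 m)) (C.Db (Q2 m)) (P : Subgroup (↥C.K ⧸ C.Zk)) := by
  rw [hP]
  refine ⟨map_le_range _ _, map_le_range _ _, C.Db_comm, ?_, le_antisymm (sup_le (map_le_range _ _) (map_le_range _ _)) ?_⟩
  · rw [eq_bot_iff]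
    rintro _ ⟨⟨u, hu, rfl⟩, v, hv, e⟩
    have h : C.ψ (u * v⁻¹) = 1 := by rw [map_mul, map_inv, e, mul_inv_cancel]
    rw [C.ψ_eq_one] at h
    have huQ : (u : Sd (2 * m)) ∈ Q2 m := by
      have h' : (u : Sd (2 * m)) = (u : Sd (2 * m)) * (v : Sd (2 * m))⁻¹ * v := by group
      rw [h']
      refine mul_mem ?_ hv
      rcases h with h | h <;> rw [show (u : Sd (2 * m)) * (v : Sd (2 * m))⁻¹ = _ from h]
      exacts [one_mem _, gz_mem_Q2]
    rw [mem_bot, C.ψ_eq_one]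
    exact inf_cases hu huQ
  · rintro _ ⟨u, rfl⟩
    obtain ⟨a, ha, b, hb, e⟩ := C.factor u.2
    rw [show u = ⟨a, C.Q1_le ha⟩ * ⟨b, C.Q2_le hb⟩ from Subtype.ext e, map_mul]
    exact mul_mem (le_sup_left (a := C.Db (Q1 m)) ⟨_, ha, rfl⟩) (le_sup_right (a := C.Db (Q1 m)) ⟨_, hb, rfl⟩)

/-- the dihedral images -/
theorem Db_dihedral {X : Subgroup (Sd (2 * m))} (hX : X ≤ inner m) {r J : Sd (2 * m)} (hr : r ∈ X) (hJ : J ∈ X)
    (hgen : ∀ u ∈ X, (∃ i : ℕ, u = r ^ i) ∨ ∃ i : ℕ, u = r ^ i * J) (hJsq : J * J = gz m) (hrm : r ^ m = gz m)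
    (hconj : J * r * J⁻¹ = r⁻¹) (hord : ∀ i : ℕ, r ^ i = 1 ∨ r ^ i = gz m → m ∣ i)
    (hJr : ∀ i : ℕ, J ≠ r ^ i ∧ J ≠ r ^ i * gz m) :
    Nonempty (↥(C.Db X) ≃* DihedralGroup m) := by
  classical
  let a : C.Db X := ⟨C.ψ ⟨r, hX hr⟩, ⟨_, hr, rfl⟩⟩
  let b : C.Db X := ⟨C.ψ ⟨J, hX hJ⟩, ⟨_, hJ, rfl⟩⟩
  have apow : ∀ i : ℕ, ((a ^ i : C.Db X) : ↥C.K ⧸ C.Zk) = C.ψ (⟨r, hX hr⟩ ^ i) := fun i => by
    rw [map_pow]; rfl
  have hordA : orderOf a = m := by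
    refine Nat.dvd_antisymm (orderOf_dvd_of_pow_eq_one (Subtype.ext ?_)) ?_
    · rw [apow, OneMemClass.coe_one, C.ψ_eq_one]
      exact Or.inr hrm
    · refine hord _ ?_
      have h := congrArg Subtype.val (pow_orderOf_eq_one a)
      rw [apow, OneMemClass.coe_one, C.ψ_eq_one] at h
      exact h
  have hbn : b ∉ zpowers a := by
    intro h
    obtain ⟨i, hi⟩ := (mem_powers_iff_mem_zpowers).2 h
    have hi' : C.ψ ((⟨r, hX hr⟩ : inner m) ^ i) = C.ψ ⟨J, hX hJ⟩ := (apow i).symm.trans (congrArg Subtype.val hi)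
    have h' : C.ψ (((⟨r, hX hr⟩ : inner m) ^ i)⁻¹ * ⟨J, hX hJ⟩) = 1 := by
      rw [map_mul, map_inv, hi', inv_mul_cancel]
    rcases C.ψ_eq_one.1 h' with e | e
    · exact (hJr i).1 (inv_mul_eq_one.1 e).symm
    · exact (hJr i).2 (inv_mul_eq_iff_eq_mul.1 e)
  have hbb : b * b = 1 := Subtype.ext (by
    show C.ψ ⟨J, hX hJ⟩ * C.ψ ⟨J, hX hJ⟩ = 1
    rw [← map_mul, C.ψ_eq_one]
    exact Or.inr hJsq)
  have hidx : (zpowers a).index = 2 := by
    refine index_eq_two_iff.2 ⟨b, fun x => ?_⟩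
    obtain ⟨u, hu, e⟩ := x.2
    rcases hgen _ hu with ⟨i, hi⟩ | ⟨i, hi⟩
    · have hx : x = a ^ i := Subtype.ext (by
        rw [apow, ← e]; exact congrArg C.ψ (Subtype.ext (hi.trans (by simp))))
      have hxm : x ∈ zpowers a := hx ▸ pow_mem (mem_zpowers a) i
      exact Or.inr ⟨hxm, fun h => hbn ((mul_mem_cancel_left hxm).1 h)⟩
    · have hx : x = a ^ i * b := Subtype.ext (by
        rw [Subgroup.coe_mul, apow, ← map_mul, ← e]
        exact congrArg C.ψ (Subtype.ext (hi.trans (by simp))))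
      refine Or.inl ⟨?_, fun h => hbn ?_⟩
      · rw [hx, mul_assoc, hbb, mul_one]
        exact pow_mem (mem_zpowers a) i
      · exact (mul_mem_cancel_left (pow_mem (mem_zpowers a) i)).1 (hx ▸ h)
  have F : CyclicFrame m (-1) 0 a b :=
    { ord := hordA
      card := by rw [← (zpowers a).card_mul_index, hidx, Nat.card_zpowers, hordA, mul_comm]
      notMem := hbn
      conj := by
        rw [zpow_neg_one]
        refine Subtype.ext ?_
        show C.ψ ⟨J, hX hJ⟩ * C.ψ ⟨r, hX hr⟩ * (C.ψ ⟨J, hX hJ⟩)⁻¹ = (C.ψ ⟨r, hX hr⟩)⁻¹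
        rw [← map_inv, ← map_inv, ← map_mul, ← map_mul]
        exact congrArg C.ψ (Subtype.ext hconj)
      sq := by rw [zpow_zero]; exact hbb
      pos := Nat.pos_of_ne_zero (NeZero.ne m) }
  exact F.dihedralEquiv

theorem Db1_dihedral : Nonempty (↥(C.Db (Q1 m)) ≃* DihedralGroup m) := by
  refine C.Db_dihedral C.Q1_le (r := ⟨1, 1, 0, 0⟩) (Or.inl ⟨rfl, rfl, rfl⟩) J1_mem (fun u hu => ?_) J1_sq
    (by rw [pow_diag]; simp [gz]) (by simp [mul_def, inv_def, J1, Sd.mk.injEq, Sd.one_add_one])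
    (fun i hi => natCast_eq_m ?_) (fun i => ?_)
  · obtain ⟨p, q, x, s⟩ := u
    rcases (mem_Q1).1 hu with ⟨hx, hs, e⟩ | ⟨hx, hs, e⟩
    · refine Or.inl ⟨q.val, ?_⟩
      replace e : p = q := e
      subst hx hs e
      rw [pow_diag]; simp
    · refine Or.inr ⟨q.val, ?_⟩
      replace e : p = q + (m : ℕ) := e
      subst hx hs e
      rw [pow_diag]; simp [mul_def, J1, Sd.mk.injEq, add_comm]
  · rw [pow_diag] at hi
    simpa [one_def, gz, Sd.mk.injEq] using hi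
  · rw [pow_diag]; simp [J1, mul_def, gz, Sd.mk.injEq]

theorem Db2_dihedral : Nonempty (↥(C.Db (Q2 m)) ≃* DihedralGroup m) := by
  refine C.Db_dihedral C.Q2_le (r := ⟨1, -1, 0, 0⟩) (Or.inl ⟨rfl, rfl, by simp⟩) J2_mem (fun u hu => ?_) J2_sq
    (by rw [pow_diag]; simp [gz, neg_m]) (by simp [mul_def, inv_def, J2, Sd.mk.injEq, Sd.one_add_one])
    (fun i hi => natCast_eq_m ?_) (fun i => ?_)
  · obtain ⟨p, q, x, s⟩ := u
    rcases (mem_Q2).1 hu with ⟨hx, hs, e⟩ | ⟨hx, hs, e⟩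
    · refine Or.inl ⟨p.val, ?_⟩
      obtain rfl : q = -p := eq_neg_of_add_eq_zero_right e
      subst hx hs
      rw [pow_diag]; simp
    · refine Or.inr ⟨(p - (m : ℕ)).val, ?_⟩
      obtain rfl : q = (m : ℕ) - p := eq_sub_of_add_eq' e
      subst hx hs
      rw [pow_diag]; simp [mul_def, J2, Sd.mk.injEq]
  · rw [pow_diag] at hi
    rcases hi with hi | hi <;> simp [one_def, gz, Sd.mk.injEq] at hi
    exacts [Or.inl hi, Or.inr hi.1]
  · rw [pow_diag]; simp [J2, mul_def, gz, Sd.mk.injEq]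

theorem Db_closed_two (h2 : m = 2) (P : Sylow 2 (↥C.K ⧸ C.Zk)) (hP : (P : Subgroup (↥C.K ⧸ C.Zk)) = C.ψ.range) :
    Cfsg.IsStronglyClosed (C.Db (Q1 m)) (P : Subgroup (↥C.K ⧸ C.Zk)) ∧
      Cfsg.IsStronglyClosed (C.Db (Q2 m)) (P : Subgroup (↥C.K ⧸ C.Zk)) := by
  classical
  haveI : Fact (Nat.Prime 2) := ⟨Nat.prime_two⟩
  have hexp : ∀ X : Subgroup (Sd (2 * m)), X = Q1 m ∨ X = Q2 m → ∀ d ∈ C.Db X, d * d = 1 := by
    intro X hX
    have hD : Nonempty (↥(C.Db X) ≃* DihedralGroup m) := by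
      rcases hX with rfl | rfl
      exacts [C.Db1_dihedral, C.Db2_dihedral]
    obtain ⟨e⟩ := hD
    subst h2
    intro d hd
    have h : ∀ a : DihedralGroup 2, a * a = 1 := by decide
    exact congrArg Subtype.val (e.injective (by rw [map_mul, h, map_one]) : (⟨d, hd⟩ : C.Db X) * ⟨d, hd⟩ = 1)
  obtain ⟨h1, h2', hc, -, hsup⟩ := C.Db_prod P hP
  haveI hab : IsMulCommutative ↥(P : Subgroup (↥C.K ⧸ C.Zk)) := by
    have key : ∀ x ∈ C.Db (Q1 m) ⊔ C.Db (Q2 m), ∀ y ∈ C.Db (Q1 m) ⊔ C.Db (Q2 m), x * y = y * x := by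
      have sw : ∀ (D : Subgroup (↥C.K ⧸ C.Zk)), (∀ d ∈ D, d * d = 1) → ∀ a ∈ D, ∀ b ∈ D, a * b = b * a := by
        intro D hD a ha b hb
        have hi : ∀ d ∈ D, d⁻¹ = d := fun d hd => inv_eq_of_mul_eq_one_right (hD d hd)
        rw [← hi _ (mul_mem ha hb), _root_.mul_inv_rev, hi a ha, hi b hb]
      intro x hx y hy
      have dec : ∀ x ∈ C.Db (Q1 m) ⊔ C.Db (Q2 m), ∃ p ∈ C.Db (Q1 m), ∃ q ∈ C.Db (Q2 m), p * q = x := fun x hx =>
        CfsgLib.Coprime.mem_sup_exists (fun w hw => centralizer_le_normalizer _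
          (mem_centralizer_iff.2 fun a ha => hc a ha w hw)) hx
      obtain ⟨p, hp, q, hq, rfl⟩ := dec x hx
      obtain ⟨p', hp', q', hq', rfl⟩ := dec y hy
      calc p * q * (p' * q') = p * (q * p') * q' := by group
        _ = p * (p' * q) * q' := by rw [hc p' hp' q hq]
        _ = (p * p') * (q * q') := by group
        _ = (p' * p) * (q' * q) := by rw [sw _ (hexp _ (Or.inl rfl)) p hp p' hp', sw _ (hexp _ (Or.inr rfl)) q hq q' hq']
        _ = p' * (p * q') * q := by group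
        _ = p' * (q' * p) * q := by rw [hc p hp q' hq']
        _ = p' * q' * (p * q) := by group
    rw [hsup] at key
    exact ⟨⟨fun x y => Subtype.ext (key x x.2 y y.2)⟩⟩
  suffices main : ∀ X : Subgroup (Sd (2 * m)), (∀ g ∈ normalizer (C.SI : Set Q),
      g ∈ normalizer ((X.map C.φ : Subgroup Q) : Set Q)) → X ≤ inner m →
      Cfsg.IsStronglyClosed (C.Db X) (P : Subgroup (↥C.K ⧸ C.Zk)) from
    ⟨main _ (fun g hg => (C.fix_parts hg).1) C.Q1_le, main _ (fun g hg => (C.fix_parts hg).2) C.Q2_le⟩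
  intro X hX hXi
  have hle : C.Db X ≤ (P : Subgroup (↥C.K ⧸ C.Zk)) := hP ▸ map_le_range _ _
  refine ⟨hle, fun x hx g hg => ?_⟩
  obtain ⟨n, hn, hne⟩ := P.conj_eq_normalizer_conj_of_mem x g⁻¹ (hle hx) (by rwa [inv_inv])
  obtain ⟨k, hk'⟩ := QuotientGroup.mk'_surjective C.Zk n⁻¹
  replace hn : QuotientGroup.mk' C.Zk k ∈ normalizer ((P : Subgroup (↥C.K ⧸ C.Zk)) : Set (↥C.K ⧸ C.Zk)) :=
    hk' ▸ inv_mem hn
  have hgx : g * x * g⁻¹ = QuotientGroup.mk' C.Zk k * x * (QuotientGroup.mk' C.Zk k)⁻¹ := by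
    rw [hk', inv_inv, ← hne, inv_inv]
  rw [hgx]
  obtain ⟨u, hu, rfl⟩ := hx
  have hk : (k : Q) ∈ normalizer (C.SI : Set Q) := by
    refine mem_normalizer_fintype fun y hy => ?_
    obtain ⟨w, hw, rfl⟩ := hy
    have h := (mem_normalizer_iff.1 hn (C.ψ ⟨w, hw⟩)).1 (hP ▸ ⟨_, rfl⟩)
    rw [hP] at h
    obtain ⟨v, hv⟩ := h
    have hv' : QuotientGroup.mk' C.Zk (C.φK v) = QuotientGroup.mk' C.Zk (k * C.φK ⟨w, hw⟩ * k⁻¹) := by
      rw [map_mul, map_mul, map_inv]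
      exact hv
    obtain ⟨z, hz, e⟩ := (QuotientGroup.mk'_eq_mk' C.Zk).1 hv'
    show (k : Q) * C.φ w * (k : Q)⁻¹ ∈ C.SI
    have e' : C.φ (v : Sd (2 * m)) * (z : Q) = (k : Q) * C.φ w * (k : Q)⁻¹ := congrArg Subtype.val e
    rw [← e']
    refine mul_mem (C.mem_SI.2 v.2) ?_
    rcases (C.mem_Zk).1 hz with h | h <;> rw [h]
    · exact one_mem _
    · exact C.mem_SI.2 (mem_inner.2 rfl)
  obtain ⟨v, hv, hve⟩ := (mem_normalizer_iff.1 (hX _ hk) (C.φ (u : Sd (2 * m)))).1 ⟨_, hu, rfl⟩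
  refine ⟨⟨v, hXi hv⟩, hv, ?_⟩
  show QuotientGroup.mk' C.Zk (C.φK ⟨v, hXi hv⟩) = _
  rw [show C.ψ u = QuotientGroup.mk' C.Zk (C.φK u) from rfl, ← map_inv, ← map_mul, ← map_mul]
  exact congrArg _ (Subtype.ext hve)

/-- strongly closed factors -/
theorem exists_closed (P : Sylow 2 (↥C.K ⧸ C.Zk)) (hP : (P : Subgroup (↥C.K ⧸ C.Zk)) = C.ψ.range) :
    ∃ S₁ S₂ : Subgroup (↥C.K ⧸ C.Zk), Cfsg.IsInternalDirectProduct S₁ S₂ (P : Subgroup (↥C.K ⧸ C.Zk)) ∧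
      Nonempty (↥S₁ ≃* DihedralGroup m) ∧ Nonempty (↥S₂ ≃* DihedralGroup m) ∧
      Cfsg.IsStronglyClosed S₁ (P : Subgroup (↥C.K ⧸ C.Zk)) ∧
      Cfsg.IsStronglyClosed S₂ (P : Subgroup (↥C.K ⧸ C.Zk)) ∧
      (m = 2 → S₁ = C.Db (Q1 m) ∧ S₂ = C.Db (Q2 m)) := by
  by_cases h2 : m = 2
  · obtain ⟨c1, c2⟩ := C.Db_closed_two h2 P hP
    exact ⟨_, _, C.Db_prod P hP, C.Db1_dihedral, C.Db2_dihedral, c1, c2, fun _ => ⟨rfl, rfl⟩⟩
  haveI : Fact (Nat.Prime 2) := ⟨Nat.prime_two⟩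
  have h4 : 4 ∣ m := by
    obtain ⟨k, hk⟩ := IsPGroup.exists_card_eq (C.T.2.of_equiv C.e.symm)
    rw [card_Sd] at hk
    have hdvd : m ∣ 2 ^ k := ⟨16 * m, by rw [← hk]; ring⟩
    obtain ⟨l, -, rfl⟩ := (Nat.dvd_prime_pow Nat.prime_two).1 hdvd
    have h1 := C.two_le
    exact pow_dvd_pow 2 (show 2 ≤ l by
      by_contra h
      interval_cases l <;> simp_all)
  obtain ⟨e₁⟩ := C.Db1_dihedral
  obtain ⟨e₂⟩ := C.Db2_dihedral
  have hnc : ¬ IsMulCommutative ↥(P : Subgroup (↥C.K ⧸ C.Zk)) := by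
    intro hcm
    have hle := (C.Db_prod P hP).1
    let x : DihedralGroup m := DihedralGroup.r 1
    let y : DihedralGroup m := DihedralGroup.sr 0
    have h := congrArg Subtype.val (hcm.is_comm.comm ⟨_, hle (e₁.symm x).2⟩ ⟨_, hle (e₁.symm y).2⟩)
    have h' : x * y = y * x := e₁.symm.injective (by rw [map_mul, map_mul]; exact Subtype.ext h)
    simp [x, y, DihedralGroup.r_mul_sr, DihedralGroup.sr_mul_r] at h'
    have h'' : ((2 : ℕ) : ZMod m) = 0 := by push_cast; linear_combination -h'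
    rw [ZMod.natCast_eq_zero_iff] at h''
    exact absurd (Nat.le_of_dvd two_pos h'') (by have := Nat.le_of_dvd (by have := C.two_le; omega) h4; omega)
  obtain ⟨S₁, S₂, hp, ⟨f₁⟩, ⟨f₂⟩, c1, c2⟩ := CfsgLib.DDProd.exists_closed (C.Kb_perfect h4) hnc (C.Db_prod P hP)
    C.two_le C.two_le e₁ e₂
  exact ⟨S₁, S₂, hp, ⟨f₁.trans e₁⟩, ⟨f₂.trans e₂⟩, c1, c2, fun h => absurd h h2⟩

end Cen

/-- the direct product given by two strongly closed factors of a Sylow subgroup -/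
theorem direct_of_closed {G : Type*} [Group G] [Finite G] (hO : Cfsg.oddCore G = ⊥)
    (hO' : ∀ N : Subgroup G, N.Normal → Odd N.index → N = ⊤) (S : Sylow 2 G) {S₁ S₂ : Subgroup G}
    (hprod : Cfsg.IsInternalDirectProduct S₁ S₂ (S : Subgroup G))
    (hcl₁ : Cfsg.IsStronglyClosed S₁ (S : Subgroup G)) (hcl₂ : Cfsg.IsStronglyClosed S₂ (S : Subgroup G)) :
    (∀ u ∈ normalClosure (S₁ : Set G), ∀ v ∈ normalClosure (S₂ : Set G), Commute u v) ∧
      normalClosure (S₁ : Set G) ⊔ normalClosure (S₂ : Set G) = ⊤ ∧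
      normalClosure (S₁ : Set G) ⊓ normalClosure (S₂ : Set G) = ⊥ ∧
      normalClosure (S₁ : Set G) ⊓ (S : Subgroup G) = S₁ ∧ normalClosure (S₂ : Set G) ⊓ (S : Subgroup G) = S₂ := by
  haveI : Fact (Nat.Prime 2) := ⟨Nat.prime_two⟩
  obtain ⟨-, -, hcomm, hdisj, hsup⟩ := hprod
  set N₁ := normalClosure (S₁ : Set G) with hN₁
  set N₂ := normalClosure (S₂ : Set G) with hN₂
  have hO2 : Cfsg.pPrimeCore 2 G = ⊥ := hO
  have hle := CfsgLib.ProdFusion.commutator_normalClosure_le S hcl₁ hcl₂ hcomm hdisj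
  rw [hO2, le_bot_iff, commutator_eq_bot_iff_le_centralizer] at hle
  have hc : ∀ u ∈ N₁, ∀ v ∈ N₂, Commute u v := fun u hu v hv =>
    (mem_centralizer_iff.1 (hle hu) v hv).symm
  have hSN : (S : Subgroup G) ≤ N₁ ⊔ N₂ := hsup ▸ sup_le_sup subset_normalClosure subset_normalClosure
  have htop : N₁ ⊔ N₂ = ⊤ := by
    refine hO' _ inferInstance ?_
    rw [← Nat.not_even_iff_odd, even_iff_two_dvd]
    exact fun h2 => S.not_dvd_index (h2.trans (index_dvd_of_le hSN))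
  have h1 := CfsgLib.ProdFusion.normalClosure_inf_eq S hcl₁ hcl₂ hdisj hsup hc htop
  have h2 := CfsgLib.ProdFusion.normalClosure_inf_eq S hcl₂ hcl₁
    ((inf_comm S₂ S₁).trans hdisj) ((sup_comm S₂ S₁).trans hsup)
    (fun u hu v hv => (hc v hv u hu).symm) ((sup_comm N₂ N₁).trans htop)
  refine ⟨hc, htop, ?_, h1, h2⟩
  have hab : ∀ u ∈ N₁ ⊓ N₂, ∀ v ∈ N₁ ⊓ N₂, Commute u v := fun u hu v hv => hc u hu.1 v hv.2
  obtain ⟨g, hg⟩ := exists_conj_le_sylow (CfsgLib.ProdFusion.isPGroup_of_abelian_normal hO2 hab) S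
  rw [eq_bot_iff]
  intro u hu
  have h4 : g * u * g⁻¹ ∈ S₁ ⊓ S₂ :=
    ⟨h1 ▸ ⟨normalClosure_normal.conj_mem u hu.1 g, hg u hu⟩,
      h2 ▸ ⟨normalClosure_normal.conj_mem u hu.2 g, hg u hu⟩⟩
  rw [hdisj, mem_bot, mul_inv_eq_one, mul_eq_left] at h4
  exact mem_bot.2 h4

end CfsgLib.Invol.GTwoCent
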