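import Cfsg.Agent.Lib.Invol.GTwoCent.Transfer
import Cfsg.Agent.Lib.Invol.GTwoCent.Quat
import Cfsg.Agent.Lib.GW.DoubleCover

/-!
# The centraliser modulo its odd core: setting

`Cen`: Sylow subgroup of type `G₂(q)`, central involution, the subgroup of index two and the fusion of inner
involutions. The normal closure `K` of the inner part; its Frattini complement fixes both quaternion parts.
-/

set_option autoImplicit false
set_option linter.unusedSectionVars false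
set_option linter.style.haveILetI false

namespace CfsgLib.Invol.GTwoCent

open Subgroup CfsgLib.Invol CfsgLib.Invol.GTwoOdd CfsgLib.Invol.GTwoOdd.Sd

universe u

/-- the data -/
structure Cen (Q : Type u) [Group Q] [Finite Q] (m : ℕ) [NeZero m] where
  /-- the Sylow subgroup -/
  T : Sylow 2 Q
  /-- the coordinates -/
  e : Sd (2 * m) ≃* (T : Subgroup Q)
  two_le : 2 ≤ m
  even : 2 ∣ m
  core : Cfsg.oddCore Q = ⊥
  central : ∀ g : Q, g * (e (gz m) : Q) = (e (gz m) : Q) * g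
  exists_two : ∃ N : Subgroup Q, N.Normal ∧ N.index = 2 ∧ ∀ u, (e u : Q) ∈ N ↔ u ∈ inner m
  fused : ∀ v ∈ inner m, v * v = 1 → v ≠ 1 → v ≠ gz m → IsConj (e v : Q) (e (gt m) : Q)

namespace Cen

variable {Q : Type u} [Group Q] [Finite Q] {m : ℕ} [NeZero m] (C : Cen Q m)

/-- the coordinates as a homomorphism -/
def φ : Sd (2 * m) →* Q := (C.T : Subgroup Q).subtype.comp C.e.toMonoidHom

theorem φ_inj : Function.Injective C.φ := Subtype.val_injective.comp C.e.injective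

theorem φ_mem (u : Sd (2 * m)) : C.φ u ∈ (C.T : Subgroup Q) := (C.e u).2

theorem exists_of_mem {x : Q} (hx : x ∈ (C.T : Subgroup Q)) : ∃ u, C.φ u = x :=
  ⟨C.e.symm ⟨x, hx⟩, congrArg Subtype.val (C.e.apply_symm_apply ⟨x, hx⟩)⟩

theorem central' (g : Q) : g * C.φ (gz m) = C.φ (gz m) * g := C.central g

theorem conj_gz (g : Q) : g * C.φ (gz m) * g⁻¹ = C.φ (gz m) := by rw [C.central', mul_inv_cancel_right]

theorem gz_ord : orderOf (C.φ (gz m)) = 2 :=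
  invol_iff.2 ⟨by rw [← map_mul, gz_sq', map_one], fun h => gz_ne' (C.φ_inj (h.trans (map_one _).symm))⟩

/-- the inner part -/
def SI : Subgroup Q := (inner m).map C.φ

theorem mem_SI {u : Sd (2 * m)} : C.φ u ∈ C.SI ↔ u ∈ inner m := mem_map_iff_mem C.φ_inj

theorem inner_iff {u : Sd (2 * m)} : u ∈ inner m ↔ IsInner u := mem_inner

include C in
theorem Q1_le : Q1 m ≤ inner m := fun _ hu => mem_inner.2 (Q1_inner C.even hu)
include C in
theorem Q2_le : Q2 m ≤ inner m := fun _ hu => mem_inner.2 (Q2_inner C.even hu)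

include C in
theorem factor {u : Sd (2 * m)} (hu : u ∈ inner m) : ∃ a ∈ Q1 m, ∃ b ∈ Q2 m, u = a * b :=
  exists_factor C.even (mem_inner.1 hu)

/-- the normal closure of the inner part -/
def K : Subgroup Q := normalClosure (C.SI : Set Q)

instance K_normal : C.K.Normal := normalClosure_normal

theorem SI_le_K : C.SI ≤ C.K := subset_normalClosure

theorem mem_K_iff {u : Sd (2 * m)} : C.φ u ∈ C.K ↔ u ∈ inner m := by
  obtain ⟨N, hN, -, hmem⟩ := C.exists_two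
  haveI := hN
  refine ⟨fun h => (hmem u).1 ?_, fun h => C.SI_le_K ((C.mem_SI).2 h)⟩
  refine normalClosure_le_normal ?_ h
  rintro _ ⟨v, hv, rfl⟩
  exact (hmem v).2 hv

theorem inf_eq_SI : (C.T : Subgroup Q) ⊓ C.K = C.SI := by
  refine le_antisymm (fun x hx => ?_) (le_inf ?_ C.SI_le_K)
  · obtain ⟨u, rfl⟩ := C.exists_of_mem hx.1
    exact C.mem_SI.2 (C.mem_K_iff.1 hx.2)
  · rintro _ ⟨v, -, rfl⟩
    exact C.φ_mem v

theorem exists_sylow_K : ∃ P : Sylow 2 C.K, (P : Subgroup C.K).map C.K.subtype = C.SI := by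
  haveI : Fact (Nat.Prime 2) := ⟨Nat.prime_two⟩
  have hodd : ¬ 2 ∣ ((C.T : Subgroup Q).subgroupOf C.K).index := fun h =>
    C.T.not_dvd_index (h.trans (CfsgLib.ProdFusion.relIndex_dvd_of_normal _ C.K))
  refine ⟨(C.T.2.comap_subtype (K := C.K)).toSylow hodd, ?_⟩
  show ((C.T : Subgroup Q).subgroupOf C.K).map C.K.subtype = C.SI
  rw [subgroupOf_map_subtype, C.inf_eq_SI]

/-- the Frattini argument -/
theorem frattini : normalizer (C.SI : Set Q) ⊔ C.K = ⊤ := by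
  haveI : Fact (Nat.Prime 2) := ⟨Nat.prime_two⟩
  obtain ⟨P, hP⟩ := C.exists_sylow_K
  rw [← hP]
  exact Sylow.normalizer_sup_eq_top P

theorem T_le_normalizer (c : Sd (2 * m)) {A : Subgroup (Sd (2 * m))} (hA : A.Normal) :
    C.φ c ∈ normalizer ((A.map C.φ : Subgroup Q) : Set Q) := by
  refine mem_normalizer_iff.2 fun x => ⟨?_, fun h => ?_⟩
  · rintro ⟨a, ha, rfl⟩
    exact ⟨c * a * c⁻¹, hA.conj_mem a ha c, by rw [map_mul, map_mul, map_inv]⟩
  · obtain ⟨a, ha, e⟩ := h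
    refine ⟨c⁻¹ * a * c, by simpa using hA.conj_mem a ha c⁻¹, ?_⟩
    rw [map_mul, map_mul, map_inv, e]; group

/-- subgroups of the two parts filling the inner part are the parts -/
theorem eq_of_pair {A B X Y : Subgroup (Sd (2 * m))} (hA : A ≤ X) (hB : B ≤ Y)
    (hinf : ∀ u ∈ X, u ∈ Y → u = 1 ∨ u = gz m) (hz : gz m ∈ A)
    (hfill : ∀ u ∈ inner m, ∃ a ∈ A, ∃ b ∈ B, u = a * b) (hX : X ≤ inner m) : A = X := by
  refine le_antisymm hA fun u hu => ?_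
  obtain ⟨a, ha, b, hb, rfl⟩ := hfill u (hX hu)
  have hbX : b ∈ X := by simpa using mul_mem (inv_mem (hA ha)) hu
  rcases hinf b hbX (hB hb) with rfl | rfl
  · simpa using ha
  · exact mul_mem ha hz

include C in
theorem not_inner_le_Q1 : ¬ inner m ≤ Q1 m := fun h => by
  have := inf_cases (h (C.Q2_le J2_mem)) J2_mem
  rcases this with e | e <;> simp [J2, gz, one_def, Sd.mk.injEq] at e

include C in
theorem not_inner_le_Q2 : ¬ inner m ≤ Q2 m := fun h => by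
  have := inf_cases J1_mem (h (C.Q1_le J1_mem))
  rcases this with e | e <;> simp [J1, gz, one_def, Sd.mk.injEq] at e

/-- the inner automorphism on the coordinates -/
theorem moved_le {g : Q} (hg : g ∈ normalizer (C.SI : Set Q)) {X : Subgroup (Sd (2 * m))} (hX : X ≤ inner m)
    (hXg : X = closure {u | u ∈ X ∧ u * u = gz m}) (hXu : ∀ u ∈ X, u * u = 1 → u = 1 ∨ u = gz m) :
    (X.map ((MulAut.conj g).toMonoidHom.comp C.φ)).comap C.φ ≤ Q1 m ∨
      (X.map ((MulAut.conj g).toMonoidHom.comp C.φ)).comap C.φ ≤ Q2 m := by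
  set A := (X.map ((MulAut.conj g).toMonoidHom.comp C.φ)).comap C.φ with hA
  have cg : ∀ q, ((MulAut.conj g).toMonoidHom.comp C.φ) q = g * C.φ q * g⁻¹ := fun q => rfl
  refine le_Q (A := A) (fun a ha => ?_) fun a ha h2 => ?_
  · obtain ⟨q, hq, hqa⟩ := ha
    rw [cg] at hqa
    suffices ∀ q ∈ closure {u | u ∈ X ∧ u * u = gz m}, ∀ a, C.φ a = g * C.φ q * g⁻¹ →
        a ∈ closure {u | u ∈ A ∧ u * u = gz m} from this q (hXg ▸ hq) a hqa.symm
    intro q hq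
    induction hq using closure_induction with
    | mem q hq =>
      intro a e
      refine subset_closure ⟨⟨q, hq.1, e.symm⟩, C.φ_inj ?_⟩
      rw [map_mul, e, ← C.conj_gz g, ← hq.2, map_mul]; group
    | one =>
      intro a e
      rw [map_one, mul_one, mul_inv_cancel, ← map_one C.φ] at e
      rw [C.φ_inj e]; exact one_mem _
    | mul p q hp hq ihp ihq =>
      intro a e
      have hpX : p ∈ X := hXg ▸ hp
      obtain ⟨b, -, hb⟩ := (mem_normalizer_iff.1 hg (C.φ p)).1 (C.mem_SI.2 (hX hpX))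
      rw [← mul_inv_cancel_left b a]
      refine mul_mem (ihp b hb) (ihq _ ?_)
      rw [map_mul, map_inv, hb, e, map_mul]; group
    | inv p hp ihp =>
      intro a e
      rw [← inv_inv a]
      exact inv_mem (ihp a⁻¹ (by rw [map_inv, e, map_inv]; group))
  · obtain ⟨q, hq, hqa⟩ := ha
    rw [cg] at hqa
    have hq2 : q * q = 1 := C.φ_inj (by
      rw [map_mul, map_one]
      calc C.φ q * C.φ q = g⁻¹ * ((g * C.φ q * g⁻¹) * (g * C.φ q * g⁻¹)) * g := by group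
        _ = 1 := by rw [hqa, ← map_mul, h2, map_one]; group)
    rcases hXu q hq hq2 with e | e <;> rw [e] at hqa
    · left; refine C.φ_inj ?_; rw [← hqa]; simp
    · right; refine C.φ_inj ?_; rw [← hqa, C.conj_gz]

/-- conjugations normalising the inner part fix or exchange the parts -/
theorem fix_or_swap {g : Q} (hg : g ∈ normalizer (C.SI : Set Q)) :
    ((∀ q ∈ Q1 m, ∃ a ∈ Q1 m, C.φ a = g * C.φ q * g⁻¹) ∧ (∀ a ∈ Q1 m, ∃ q ∈ Q1 m, C.φ a = g * C.φ q * g⁻¹) ∧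
      (∀ q ∈ Q2 m, ∃ a ∈ Q2 m, C.φ a = g * C.φ q * g⁻¹) ∧ (∀ a ∈ Q2 m, ∃ q ∈ Q2 m, C.φ a = g * C.φ q * g⁻¹)) ∨
    ((∀ q ∈ Q1 m, ∃ a ∈ Q2 m, C.φ a = g * C.φ q * g⁻¹) ∧ (∀ a ∈ Q2 m, ∃ q ∈ Q1 m, C.φ a = g * C.φ q * g⁻¹) ∧
      (∀ q ∈ Q2 m, ∃ a ∈ Q1 m, C.φ a = g * C.φ q * g⁻¹) ∧ (∀ a ∈ Q1 m, ∃ q ∈ Q2 m, C.φ a = g * C.φ q * g⁻¹)) := by
  set f := (MulAut.conj g).toMonoidHom.comp C.φ with hf
  set A := ((Q1 m).map f).comap C.φ with hA
  set B := ((Q2 m).map f).comap C.φ with hB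
  have hA' := C.moved_le hg C.Q1_le Q1_gen fun u hu => unique_invol (Or.inl hu)
  have hB' := C.moved_le hg C.Q2_le Q2_gen fun u hu => unique_invol (Or.inr hu)
  have cg : ∀ q, f q = g * C.φ q * g⁻¹ := fun q => rfl
  have hzA : gz m ∈ A := ⟨gz m, gz_mem_Q1, by rw [cg, C.conj_gz]⟩
  have hzB : gz m ∈ B := ⟨gz m, gz_mem_Q2, by rw [cg, C.conj_gz]⟩
  have hfill : ∀ u ∈ inner m, ∃ a ∈ A, ∃ b ∈ B, u = a * b := by
    intro u hu
    obtain ⟨w, hw, hwu⟩ : ∃ w ∈ inner m, g * C.φ w * g⁻¹ = C.φ u := by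
      have h := (mem_normalizer_iff.1 hg (g⁻¹ * C.φ u * g)).2 (by
        rw [show g * (g⁻¹ * C.φ u * g) * g⁻¹ = C.φ u by group]; exact C.mem_SI.2 hu)
      obtain ⟨w, hw, e⟩ := h
      exact ⟨w, hw, by rw [e]; group⟩
    obtain ⟨p, hp, q, hq, rfl⟩ := C.factor hw
    obtain ⟨a, -, ha⟩ := (mem_normalizer_iff.1 hg (C.φ p)).1 (C.mem_SI.2 (C.Q1_le hp))
    refine ⟨a, ⟨p, hp, by rw [cg, ha]⟩, a⁻¹ * u, ⟨q, hq, ?_⟩, by group⟩
    rw [cg, map_mul, map_inv, ha, ← hwu, map_mul]; group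
  have hfill' : ∀ u ∈ inner m, ∃ b ∈ B, ∃ a ∈ A, u = b * a := fun u hu => by
    obtain ⟨a, ha, b, hb, e⟩ := hfill u⁻¹ (inv_mem hu)
    exact ⟨b⁻¹, inv_mem hb, a⁻¹, inv_mem ha, by rw [← _root_.mul_inv_rev, ← e, inv_inv]⟩
  have conv : ∀ (X Y : Subgroup (Sd (2 * m))), X ≤ inner m → (X.map f).comap C.φ = Y →
      (∀ q ∈ X, ∃ a ∈ Y, C.φ a = g * C.φ q * g⁻¹) ∧ ∀ a ∈ Y, ∃ q ∈ X, C.φ a = g * C.φ q * g⁻¹ := by
    intro X Y hX e
    subst e
    refine ⟨fun q hq => ?_, fun a ⟨q, hq, e⟩ => ⟨q, hq, by rw [← e, cg]⟩⟩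
    obtain ⟨a, -, ha⟩ := (mem_normalizer_iff.1 hg (C.φ q)).1 (C.mem_SI.2 (hX hq))
    exact ⟨a, ⟨q, hq, by rw [cg, ha]⟩, ha⟩
  have hbad : ∀ X : Subgroup (Sd (2 * m)), ¬ inner m ≤ X → A ≤ X → B ≤ X → False := fun X hX h h' =>
    hX fun u hu => by obtain ⟨a, ha, b, hb, rfl⟩ := hfill u hu; exact mul_mem (h ha) (h' hb)
  rcases hA' with hA1 | hA2 <;> rcases hB' with hB1 | hB2
  · exact (hbad _ C.not_inner_le_Q1 hA1 hB1).elim
  · left
    have e1 := eq_of_pair hA1 hB2 (fun u h h' => inf_cases h h') hzA hfill C.Q1_le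
    have e2 := eq_of_pair hB2 hA1 (fun u h h' => inf_cases h' h) hzB hfill' C.Q2_le
    obtain ⟨a1, a2⟩ := conv _ _ C.Q1_le e1
    obtain ⟨b1, b2⟩ := conv _ _ C.Q2_le e2
    exact ⟨a1, a2, b1, b2⟩
  · right
    have e1 := eq_of_pair hA2 hB1 (fun u h h' => inf_cases h' h) hzA hfill C.Q2_le
    have e2 := eq_of_pair hB1 hA2 (fun u h h' => inf_cases h h') hzB hfill' C.Q1_le
    obtain ⟨a1, a2⟩ := conv _ _ C.Q1_le e1
    obtain ⟨b1, b2⟩ := conv _ _ C.Q2_le e2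
    exact ⟨a1, a2, b1, b2⟩
  · exact (hbad _ C.not_inner_le_Q2 hA2 hB2).elim

theorem mem_normalizer_of {g : Q} {A : Subgroup (Sd (2 * m))}
    (h1 : ∀ q ∈ A, ∃ a ∈ A, C.φ a = g * C.φ q * g⁻¹) (h2 : ∀ a ∈ A, ∃ q ∈ A, C.φ a = g * C.φ q * g⁻¹) :
    g ∈ normalizer ((A.map C.φ : Subgroup Q) : Set Q) := by
  refine mem_normalizer_iff.2 fun x => ⟨?_, ?_⟩
  · rintro ⟨q, hq, rfl⟩
    obtain ⟨a, ha, e⟩ := h1 q hq
    exact ⟨a, ha, e⟩
  · rintro ⟨a, ha, e⟩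
    obtain ⟨q, hq, e'⟩ := h2 a ha
    exact ⟨q, hq, mul_left_cancel (mul_right_cancel (e'.symm.trans e))⟩

/-- the normaliser of the inner part fixes both parts -/
theorem fix_parts {g : Q} (hg : g ∈ normalizer (C.SI : Set Q)) :
    g ∈ normalizer (((Q1 m).map C.φ : Subgroup Q) : Set Q) ∧
      g ∈ normalizer (((Q2 m).map C.φ : Subgroup Q) : Set Q) := by
  haveI : Fact (Nat.Prime 2) := ⟨Nat.prime_two⟩
  rcases C.fix_or_swap hg with ⟨a1, a2, b1, b2⟩ | hs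
  · exact ⟨C.mem_normalizer_of a1 a2, C.mem_normalizer_of b1 b2⟩
  exfalso
  set NS := normalizer (C.SI : Set Q) with hNS
  set H : Subgroup Q := NS ⊓ normalizer (((Q1 m).map C.φ : Subgroup Q) : Set Q) with hH
  have notfix : ∀ k ∈ NS, (∀ q ∈ Q1 m, ∃ a ∈ Q2 m, C.φ a = k * C.φ q * k⁻¹) → k ∉ H := by
    intro k _ hk hkH
    obtain ⟨a, ha, e⟩ := hk _ J1_mem
    obtain ⟨a', ha', e'⟩ := (mem_normalizer_iff.1 hkH.2 (C.φ (J1 m))).1 ⟨_, J1_mem, rfl⟩
    rw [← e] at e'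
    have := C.φ_inj e'
    subst this
    rcases inf_cases ha' ha with h | h <;> rw [h] at e
    · rw [map_one] at e
      have : C.φ (J1 m) = C.φ 1 := by
        rw [map_one, show C.φ (J1 m) = k⁻¹ * (k * C.φ (J1 m) * k⁻¹) * k by group, ← e]; group
      simpa [J1, one_def, Sd.mk.injEq] using C.φ_inj this
    · have : C.φ (J1 m) = C.φ (gz m) := by
        rw [show C.φ (J1 m) = k⁻¹ * (k * C.φ (J1 m) * k⁻¹) * k by group, ← e, mul_assoc, ← C.central' k]; group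
      simpa [J1, gz, Sd.mk.injEq] using C.φ_inj this
  have hidx : H.relIndex NS = 2 := by
    refine index_eq_two_iff.2 ⟨⟨g, hg⟩, fun b => ?_⟩
    simp only [mem_subgroupOf, Subgroup.coe_mul]
    rcases C.fix_or_swap b.2 with ⟨a1, a2, -, -⟩ | ⟨a1, a2, b1, b2⟩
    · have hb : (b : Q) ∈ H := ⟨b.2, C.mem_normalizer_of a1 a2⟩
      exact Or.inr ⟨hb, fun h => notfix g hg hs.1 ((H.mul_mem_cancel_left hb).1 h)⟩
    · have hb : (b : Q) ∉ H := notfix b b.2 a1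
      refine Or.inl ⟨⟨mul_mem b.2 hg, C.mem_normalizer_of (fun q hq => ?_) (fun a ha => ?_)⟩, hb⟩
      · obtain ⟨p, hp, e⟩ := hs.1 q hq
        obtain ⟨r, hr, e'⟩ := b1 p hp
        exact ⟨r, hr, by rw [e', e]; group⟩
      · obtain ⟨p, hp, e⟩ := b2 a ha
        obtain ⟨q, hq, e'⟩ := hs.2.1 p hp
        exact ⟨q, hq, by rw [e, e']; group⟩
  have hT : (C.T : Subgroup Q) ≤ H := by
    intro x hx
    obtain ⟨c, rfl⟩ := C.exists_of_mem hx
    exact ⟨C.T_le_normalizer c (MonoidHom.normal_ker _), C.T_le_normalizer c Q1_normal⟩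
  have h1 := H.relIndex_mul_index (inf_le_left : H ≤ NS)
  rw [hidx] at h1
  exact C.T.not_dvd_index ((Dvd.intro _ h1).trans (index_dvd_of_le hT))

end Cen

end CfsgLib.Invol.GTwoCent
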