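import Cfsg.Agent.Lib.Invol.GTwoCent.Factors
import Cfsg.Agent.Lib.Invol.GTwoCent.Alt7
import Cfsg.Agent.Lib.GW.QGroup

/-!
# The preimages of the factors
-/

set_option autoImplicit false
set_option linter.unusedSectionVars false
set_option linter.style.haveILetI false

namespace CfsgLib.Invol.GTwoCent

open Subgroup CfsgLib.Invol CfsgLib.Invol.GTwoOdd CfsgLib.Invol.GTwoOdd.Sd
open scoped commutatorElement

universe u

namespace Cen

variable {Q : Type u} [Group Q] [Finite Q] {m : ℕ} [NeZero m] (C : Cen Q m)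

theorem conj_φ (c u : Sd (2 * m)) : C.φ c * C.φ u * (C.φ c)⁻¹ = C.φ (c * u * c⁻¹) := by
  rw [map_mul, map_mul, map_inv]

theorem conjK_Zk (g : Q) : C.Zk.map (MulAut.conjNormal g : MulAut ↥C.K).toMonoidHom = C.Zk := by
  have fix : ∀ x ∈ C.Zk, (MulAut.conjNormal g : MulAut ↥C.K) x = x := fun x hx => Subtype.ext (by
    rw [MulAut.conjNormal_apply]
    rcases C.mem_Zk.1 hx with h | h <;> rw [h]
    · rw [mul_one, mul_inv_cancel]
    · exact C.conj_gz g)
  ext x
  exact ⟨fun ⟨y, hy, e⟩ => e ▸ (show (MulAut.conjNormal g : MulAut ↥C.K).toMonoidHom y ∈ C.Zk from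
    (fix y hy).symm ▸ hy), fun hx => ⟨x, hx, fix x hx⟩⟩

/-- conjugation on `K` modulo the centre -/
def β : Q →* MulAut (↥C.K ⧸ C.Zk) :=
  MonoidHom.mk' (fun g => QuotientGroup.congr C.Zk C.Zk (MulAut.conjNormal g) (C.conjK_Zk g)) fun g h => by
    refine MulEquiv.ext fun x => ?_
    obtain ⟨x, rfl⟩ := QuotientGroup.mk'_surjective C.Zk x
    show QuotientGroup.mk' C.Zk ((MulAut.conjNormal (g * h) : MulAut ↥C.K) x) =
      QuotientGroup.mk' C.Zk ((MulAut.conjNormal g : MulAut ↥C.K) ((MulAut.conjNormal h : MulAut ↥C.K) x))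
    rw [map_mul]; rfl

theorem β_mk (g : Q) (x : ↥C.K) :
    C.β g (QuotientGroup.mk' C.Zk x) = QuotientGroup.mk' C.Zk ((MulAut.conjNormal g : MulAut ↥C.K) x) := rfl

theorem β_ψ (g : Q) (u : inner m) (v : inner m) (h : g * C.φ (u : Sd (2 * m)) * g⁻¹ = C.φ (v : Sd (2 * m))) :
    C.β g (C.ψ u) = C.ψ v := by
  show C.β g (QuotientGroup.mk' C.Zk (C.φK u)) = QuotientGroup.mk' C.Zk (C.φK v)
  rw [C.β_mk]
  exact congrArg _ (Subtype.ext (by rw [MulAut.conjNormal_apply]; exact h))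

/-- the preimage of a subgroup modulo the centre -/
def pL (N : Subgroup (↥C.K ⧸ C.Zk)) : Subgroup Q := (N.comap (QuotientGroup.mk' C.Zk)).map C.K.subtype

theorem mem_pL {N : Subgroup (↥C.K ⧸ C.Zk)} {x : Q} :
    x ∈ C.pL N ↔ ∃ h : x ∈ C.K, QuotientGroup.mk' C.Zk ⟨x, h⟩ ∈ N :=
  ⟨fun ⟨y, hy, e⟩ => by subst e; exact ⟨y.2, hy⟩, fun ⟨h, hx⟩ => ⟨⟨x, h⟩, hx, rfl⟩⟩

theorem pL_le (N : Subgroup (↥C.K ⧸ C.Zk)) : C.pL N ≤ C.K := map_subtype_le _

theorem gz_pL (N : Subgroup (↥C.K ⧸ C.Zk)) : C.φ (gz m) ∈ C.pL N := by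
  refine C.mem_pL.2 ⟨C.mem_K_iff.2 gz_inner, ?_⟩
  rw [show QuotientGroup.mk' C.Zk ⟨C.φ (gz m), C.mem_K_iff.2 gz_inner⟩ = 1 from
    (QuotientGroup.eq_one_iff _).2 (C.mem_Zk.2 (Or.inr rfl))]
  exact one_mem N

theorem X_pL {X : Subgroup (Sd (2 * m))} (hX : X ≤ inner m) {N : Subgroup (↥C.K ⧸ C.Zk)} (h : C.Db X ≤ N) :
    X.map C.φ ≤ C.pL N := by
  rintro _ ⟨u, hu, rfl⟩
  exact C.mem_pL.2 ⟨C.mem_K_iff.2 (hX hu), h ⟨⟨u, hX hu⟩, hu, rfl⟩⟩

theorem β_map {X : Subgroup (Sd (2 * m))} (hX : X ≤ inner m)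
    (hfix : ∀ g ∈ normalizer (C.SI : Set Q), g ∈ normalizer ((X.map C.φ : Subgroup Q) : Set Q))
    {N : Subgroup (↥C.K ⧸ C.Zk)} (hN : N = normalClosure (C.Db X : Set (↥C.K ⧸ C.Zk))) (g : Q) :
    N.map (C.β g).toMonoidHom = N := by
  have hNn : N.Normal := hN ▸ normalClosure_normal
  let Stab : Subgroup Q :=
    { carrier := {g | N.map (C.β g).toMonoidHom = N}
      one_mem' := by
        show N.map (C.β 1).toMonoidHom = N
        rw [map_one]; exact map_id _
      mul_mem' := fun {a b} ha hb => by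
        show N.map (C.β (a * b)).toMonoidHom = N
        rw [map_mul, show ((C.β a * C.β b : MulAut _)).toMonoidHom = (C.β a).toMonoidHom.comp (C.β b).toMonoidHom
          from rfl, ← Subgroup.map_map, hb, ha]
      inv_mem' := fun {a} ha => by
        show N.map (C.β a⁻¹).toMonoidHom = N
        conv_lhs => rw [← show N.map (C.β a).toMonoidHom = N from ha, Subgroup.map_map,
          show (C.β a⁻¹).toMonoidHom.comp (C.β a).toMonoidHom = (C.β a⁻¹ * C.β a).toMonoidHom from rfl,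
          ← map_mul, inv_mul_cancel, map_one]
        exact map_id _ }
  suffices htop : (⊤ : Subgroup Q) ≤ Stab from htop (mem_top g)
  rw [← C.frattini]
  refine sup_le (fun a ha => ?_) fun a ha => ?_
  · show N.map (C.β a).toMonoidHom = N
    have hD : (C.Db X).map (C.β a).toMonoidHom = C.Db X := by
      ext y
      constructor
      · rintro ⟨_, ⟨u, hu, rfl⟩, rfl⟩
        obtain ⟨v, hv, hve⟩ := (mem_normalizer_iff.1 (hfix a ha) (C.φ (u : Sd (2 * m)))).1 ⟨_, hu, rfl⟩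
        exact ⟨⟨v, hX hv⟩, hv, (C.β_ψ a u ⟨v, hX hv⟩ hve.symm).symm⟩
      · rintro ⟨v, hv, rfl⟩
        obtain ⟨u, hu, hue⟩ := (mem_normalizer_iff.1 (hfix a ha) (a⁻¹ * C.φ (v : Sd (2 * m)) * a)).2
          (by rw [show a * (a⁻¹ * C.φ (v : Sd (2 * m)) * a) * a⁻¹ = C.φ (v : Sd (2 * m)) by group]; exact ⟨_, hv, rfl⟩)
        exact ⟨_, ⟨⟨u, hX hu⟩, hu, rfl⟩, C.β_ψ a ⟨u, hX hu⟩ v (by rw [hue]; group)⟩
    have hD' := hD
    rw [hN, map_normalClosure _ _ (MulEquiv.surjective _)]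
    congr 1
    exact congrArg SetLike.coe hD'
  · show N.map (C.β a).toMonoidHom = N
    have key : ∀ b : ↥C.K, ∀ y ∈ N, C.β (b : Q) y ∈ N := by
      intro b y hy
      obtain ⟨x, rfl⟩ := QuotientGroup.mk'_surjective C.Zk y
      rw [C.β_mk, show (MulAut.conjNormal (b : Q) : MulAut ↥C.K) x = b * x * b⁻¹ from
        Subtype.ext (MulAut.conjNormal_apply _ _), map_mul, map_mul, map_inv]
      exact hNn.conj_mem _ hy _
    refine le_antisymm ?_ fun y hy => ?_
    · rintro _ ⟨y, hy, rfl⟩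
      exact key ⟨a, ha⟩ y hy
    · refine ⟨C.β a⁻¹ y, key ⟨a⁻¹, inv_mem ha⟩ y hy, ?_⟩
      show C.β a (C.β a⁻¹ y) = y
      rw [← MulAut.mul_apply, ← map_mul, mul_inv_cancel, map_one, MulAut.one_apply]

theorem pL_normal {X : Subgroup (Sd (2 * m))} (hX : X ≤ inner m)
    (hfix : ∀ g ∈ normalizer (C.SI : Set Q), g ∈ normalizer ((X.map C.φ : Subgroup Q) : Set Q))
    {N : Subgroup (↥C.K ⧸ C.Zk)} (hN : N = normalClosure (C.Db X : Set (↥C.K ⧸ C.Zk))) : (C.pL N).Normal := by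
  refine ⟨fun x hx g => ?_⟩
  obtain ⟨y, hy, rfl⟩ := hx
  refine ⟨(MulAut.conjNormal g : MulAut ↥C.K) y, ?_, MulAut.conjNormal_apply g y⟩
  show QuotientGroup.mk' C.Zk _ ∈ N
  rw [← C.β_mk, ← C.β_map hX hfix hN g]
  exact ⟨_, hy, rfl⟩

theorem pL_perfect {X : Subgroup (Sd (2 * m))} (hX : X ≤ inner m) {J : Sd (2 * m)} (hJ : J ∈ X)
    (hJsq : J * J = gz m) {N : Subgroup (↥C.K ⧸ C.Zk)} (hD : C.Db X ≤ N) (hp : Group.IsPerfect ↥N) :
    ⁅C.pL N, C.pL N⁆ = C.pL N := by
  set P := N.comap (QuotientGroup.mk' C.Zk) with hP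
  suffices hPP : ⁅P, P⁆ = P by
    show ⁅P.map C.K.subtype, P.map C.K.subtype⁆ = P.map C.K.subtype
    rw [← map_commutator, hPP]
  have hle : ⁅P, P⁆ ≤ P := commutator_le.2 fun a ha b hb =>
    mul_mem (mul_mem (mul_mem ha hb) (inv_mem ha)) (inv_mem hb)
  have himg : (⁅P, P⁆).map (QuotientGroup.mk' C.Zk) = N := by
    rw [map_commutator, hP, map_comap_eq_self_of_surjective (QuotientGroup.mk'_surjective _)]
    have h := congrArg (Subgroup.map N.subtype) hp.commutator_eq_top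
    rwa [← MonoidHom.range_eq_map, N.range_subtype, _root_.commutator_def, map_commutator,
      ← MonoidHom.range_eq_map, N.range_subtype] at h
  refine le_antisymm hle fun a ha => ?_
  -- the centre lies in the commutator
  obtain ⟨y, hy, hye⟩ : ∃ y ∈ ⁅P, P⁆, QuotientGroup.mk' C.Zk y = C.ψ ⟨J, hX hJ⟩ := by
    have h : C.ψ ⟨J, hX hJ⟩ ∈ N := hD ⟨⟨J, hX hJ⟩, hJ, rfl⟩
    rw [← himg] at h
    exact h
  obtain ⟨z, hz, e⟩ := (QuotientGroup.mk'_eq_mk' C.Zk).1 hye
  have hz2 : z * z = 1 := Subtype.ext (by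
    show (z : Q) * (z : Q) = 1
    rcases C.mem_Zk.1 hz with h | h <;> rw [h]
    · exact one_mul 1
    · exact (invol_iff.1 C.gz_ord).1)
  have hzP : C.Zk ≤ ⁅P, P⁆ := by
    have hyy : ((y * y : ↥C.K) : Q) = C.φ (gz m) := by
      have hcz := mem_center_iff.1 (C.Zk_central hz) y
      have h : y * y = C.φK ⟨J, hX hJ⟩ * C.φK ⟨J, hX hJ⟩ := by
        rw [← e, show y * z * (y * z) = y * (z * y) * z by group, ← hcz,
          show y * (y * z) * z = y * y * (z * z) by group, hz2, mul_one]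
      rw [h]
      show C.φ J * C.φ J = _
      rw [← map_mul, hJsq]
    intro w hw
    rcases C.mem_Zk.1 hw with h | h
    · rw [show w = 1 from Subtype.ext h]; exact one_mem _
    · rw [show w = y * y from Subtype.ext (h.trans hyy.symm)]
      exact mul_mem hy hy
  obtain ⟨c, hc, hca⟩ : ∃ c ∈ ⁅P, P⁆, QuotientGroup.mk' C.Zk c = QuotientGroup.mk' C.Zk a := by
    have h : QuotientGroup.mk' C.Zk a ∈ N := ha
    rw [← himg] at h
    exact h
  rw [show a = c * (c⁻¹ * a) by group]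
  exact mul_mem hc (hzP (QuotientGroup.eq.1 hca))

/-- a simple factor which is `PSL(2, F)` lifts to `SL(2, F)` -/
theorem pL_sl2 {X : Subgroup (Sd (2 * m))} (hX : X ≤ inner m) {J : Sd (2 * m)} (hJ : J ∈ X)
    (hJsq : J * J = gz m) {N : Subgroup (↥C.K ⧸ C.Zk)} (hD : C.Db X ≤ N) (hp : Group.IsPerfect ↥N)
    {F : Type} [Field F] [Fintype F] (hodd : Odd (Fintype.card F)) (h3 : 3 < Fintype.card F)
    (e : ↥N ≃* Matrix.ProjectiveSpecialLinearGroup (Fin 2) F) :
    Nonempty (↥(C.pL N) ≃* Matrix.SpecialLinearGroup (Fin 2) F) := by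
  set P := N.comap (QuotientGroup.mk' C.Zk) with hP
  haveI : Group.IsPerfect ↥P := by
    rw [Group.isPerfect_def]
    refine map_injective P.subtype_injective ?_
    rw [← MonoidHom.range_eq_map, P.range_subtype, _root_.commutator_def, map_commutator,
      ← MonoidHom.range_eq_map, P.range_subtype]
    refine map_injective C.K.subtype_injective ?_
    rw [map_commutator]
    exact C.pL_perfect hX hJ hJsq hD hp
  let π : ↥P →* Matrix.ProjectiveSpecialLinearGroup (Fin 2) F :=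
    e.toMonoidHom.comp ((QuotientGroup.mk' C.Zk).subgroupComap N)
  have hπ : Function.Surjective π := by
    intro y
    obtain ⟨a, ha⟩ := QuotientGroup.mk'_surjective C.Zk ((e.symm y : ↥N) : ↥C.K ⧸ C.Zk)
    refine ⟨⟨a, show QuotientGroup.mk' C.Zk a ∈ N by rw [ha]; exact (e.symm y).2⟩, ?_⟩
    show e _ = y
    conv_rhs => rw [← e.apply_symm_apply y]
    exact congrArg e (Subtype.ext ha)
  have hker : π.ker = C.Zk.subgroupOf P := by
    ext x
    show e _ = 1 ↔ _
    rw [EmbeddingLike.map_eq_one_iff, mem_subgroupOf, ← QuotientGroup.eq_one_iff, ← Subtype.coe_injective.eq_iff]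
    rfl
  have hZP : C.Zk ≤ P := fun z hz => by
    show QuotientGroup.mk' C.Zk z ∈ N
    rw [(QuotientGroup.eq_one_iff z).2 hz |> (fun h => (show QuotientGroup.mk' C.Zk z = 1 from h))]
    exact one_mem N
  obtain ⟨f⟩ := CfsgLib.GW.equiv_sl2_of_cover hodd h3 π hπ (by
    rw [hker]
    exact fun x hx => mem_center_iff.2 fun y => Subtype.ext (mem_center_iff.1 (C.Zk_central hx) (y : ↥C.K)))
    (by rw [hker, Nat.card_congr (subgroupOfEquivOfLe hZP).toEquiv, C.card_Zk])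
  exact ⟨(equivMapOfInjective _ _ C.K.subtype_injective).symm.trans f⟩

/-- the alternating group of degree seven does not occur -/
theorem no_alt7 {X : Subgroup (Sd (2 * m))} (hX : X ≤ inner m)
    (hfix : ∀ g ∈ normalizer (C.SI : Set Q), g ∈ normalizer ((X.map C.φ : Subgroup Q) : Set Q))
    {N : Subgroup (↥C.K ⧸ C.Zk)} (hN : N = normalClosure (C.Db X : Set (↥C.K ⧸ C.Zk)))
    (P : Sylow 2 (↥C.K ⧸ C.Zk)) (hNP : N ⊓ (P : Subgroup (↥C.K ⧸ C.Zk)) = C.Db X)
    (hdih : Nonempty (↥(C.Db X) ≃* DihedralGroup m))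
    {r J : Sd (2 * m)} (hr : r ∈ X) (hJ : J ∈ X) (hJsq : J * J = gz m) (hrm : r ^ m = gz m)
    (hord : ∀ i : ℕ, r ^ i = 1 ∨ r ^ i = gz m → m ∣ i) (hconj : J * r * J⁻¹ = r⁻¹)
    (hd1 : g10 m * r * (g10 m)⁻¹ = r⁻¹) (hd2 : g10 m * J * (g10 m)⁻¹ = J * r⁻¹)
    (e : ↥N ≃* ↥(alternatingGroup (Fin 7))) : False := by
  classical
  haveI : Fact (Nat.Prime 2) := ⟨Nat.prime_two⟩
  haveI hNn : N.Normal := hN ▸ normalClosure_normal
  obtain ⟨ed⟩ := hdih
  have hDN : C.Db X ≤ N := hNP ▸ inf_le_left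
  -- the order
  have hm4 : m = 4 := by
    have hodd : ¬ 2 ∣ (C.Db X).relIndex N := by
      rw [← hNP, inf_relIndex_left]
      exact fun h => P.not_dvd_index (h.trans (CfsgLib.ProdFusion.relIndex_dvd_of_normal _ N))
    have h1 := (C.Db X).subgroupOf N |>.card_mul_index
    rw [Nat.card_congr (subgroupOfEquivOfLe hDN).toEquiv, Nat.card_congr ed.toEquiv, DihedralGroup.nat_card,
      Nat.card_congr e.toEquiv, nat_card_alternatingGroup, Nat.card_fin] at h1
    have h2520 : (7 : ℕ).factorial / 2 = 2520 := by decide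
    rw [h2520] at h1
    have hdiv : 2 * m ∣ 2520 := Dvd.intro _ h1
    have h8 : 8 ∣ 2 * m := (Nat.Coprime.dvd_mul_right (Nat.Coprime.pow_left 3
      ((Nat.prime_two.coprime_iff_not_dvd).2 hodd))).1 (show 2 ^ 3 ∣ 2 * m * (C.Db X).relIndex N from by
        rw [show 2 * m * (C.Db X).relIndex N = 2520 from h1]; norm_num)
    obtain ⟨k, hk⟩ := IsPGroup.exists_card_eq (C.T.2.of_equiv C.e.symm)
    rw [card_Sd] at hk
    have hdvd : m ∣ 2 ^ k := ⟨16 * m, by rw [← hk]; ring⟩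
    obtain ⟨l, -, rfl⟩ := (Nat.dvd_prime_pow Nat.prime_two).1 hdvd
    have hl2 : l ≤ 2 := by
      by_contra h
      have h16 : 16 ∣ 2520 := (show 16 ∣ 2 * 2 ^ l from
        (pow_dvd_pow 2 (show 4 ≤ l + 1 by omega)).trans (by rw [pow_succ']))|>.trans hdiv
      norm_num at h16
    have hl1 : 2 ≤ l := by
      by_contra h
      have := Nat.le_of_dvd (by positivity) h8
      interval_cases l <;> norm_num at this
    rw [show l = 2 by omega]
    norm_num
  let rI : inner m := ⟨r, hX hr⟩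
  let JI : inner m := ⟨J, hX hJ⟩
  let a : ↥N := ⟨C.ψ rI, hDN ⟨rI, hr, rfl⟩⟩
  let j : ↥N := ⟨C.ψ JI, hDN ⟨JI, hJ, rfl⟩⟩
  have hj : j * j = 1 := Subtype.ext (by
    show C.ψ JI * C.ψ JI = 1
    rw [← map_mul, C.ψ_eq_one]
    exact Or.inr hJsq)
  have hinv : j * a * j = a⁻¹ := Subtype.ext (by
    have h : C.ψ JI = (C.ψ JI)⁻¹ := eq_inv_of_mul_eq_one_left (congrArg Subtype.val hj)
    show C.ψ JI * C.ψ rI * C.ψ JI = (C.ψ rI)⁻¹
    conv_lhs => arg 2; rw [h]
    rw [← map_inv, ← map_inv, ← map_mul, ← map_mul]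
    exact congrArg C.ψ (Subtype.ext hconj))
  have hapow : ∀ i : ℕ, ((a ^ i : ↥N) : ↥C.K ⧸ C.Zk) = C.ψ (rI ^ i) := fun i => by rw [map_pow]; rfl
  have ha : orderOf a = 4 := by
    refine Nat.dvd_antisymm (orderOf_dvd_of_pow_eq_one (Subtype.ext ?_)) ?_
    · rw [hapow, OneMemClass.coe_one, C.ψ_eq_one]
      exact Or.inr (show r ^ 4 = gz m from (congrArg (r ^ ·) hm4).symm.trans hrm)
    · rw [← hm4]
      refine hord _ ?_
      have h := congrArg Subtype.val (pow_orderOf_eq_one a)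
      rw [hapow, OneMemClass.coe_one, C.ψ_eq_one] at h
      exact h
  let g := C.φ (g10 m)
  have hβ : N.map (C.β g).toMonoidHom = N := C.β_map hX hfix hN g
  let α : MulAut ↥N := ((C.β g).subgroupMap N).trans (MulEquiv.subgroupCongr hβ)
  have hαr : α a = a⁻¹ := Subtype.ext (by
    show C.β g (C.ψ rI) = (C.ψ rI)⁻¹
    rw [← map_inv]
    exact C.β_ψ g rI rI⁻¹ (by rw [C.conj_φ]; exact congrArg C.φ hd1))
  refine Alt7.no_swap e α ha hj hinv ?_ (Or.inr (Subtype.ext ?_))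
  · rw [map_mul, hαr, ← mul_inv_rev]
    refine inv_eq_of_mul_eq_one_left ?_
    calc a * a * (a * a) = a ^ 4 := by simp [pow_succ, mul_assoc]
      _ = 1 := by rw [← ha, pow_orderOf_eq_one]
  · show C.β g (C.ψ JI) = C.ψ JI * (C.ψ rI)⁻¹
    rw [← map_inv, ← map_mul]
    exact C.β_ψ g JI (JI * rI⁻¹) (by rw [C.conj_φ]; exact congrArg C.φ hd2)

/-- outer automorphisms of a simple factor commute -/
theorem commutator_le_side {X : Subgroup (Sd (2 * m))} (hX : X ≤ inner m) {J : Sd (2 * m)} (hJ : J ∈ X)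
    (hJsq : J * J = gz m) {N : Subgroup (↥C.K ⧸ C.Zk)} (hD : C.Db X ≤ N) (hp : Group.IsPerfect ↥N)
    (hn : (C.pL N).Normal) {F : Type} [Field F] [Fintype F] (hodd : Odd (Fintype.card F))
    (e : ↥N ≃* Matrix.ProjectiveSpecialLinearGroup (Fin 2) F) (hs : IsSimpleGroup ↥N) (hne : ¬ IsMulCommutative ↥N) :
    commutator Q ≤ C.pL N ⊔ centralizer (C.pL N : Set Q) := by
  haveI := hn
  set L := C.pL N with hL
  set CL := centralizer (L : Set Q) with hCL
  haveI : CL.Normal := normal_centralizer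
  set π := QuotientGroup.mk' CL with hπ
  set M := L.map π with hM
  haveI : M.Normal := hn.map π (QuotientGroup.mk'_surjective CL)
  have hperf := C.pL_perfect hX hJ hJsq hD hp
  -- elements of `L` centralising `L`
  have hcen : ∀ x ∈ L, x ∈ CL → x = 1 ∨ x = C.φ (gz m) := by
    intro x hx hxc
    obtain ⟨hxK, hxN⟩ := C.mem_pL.1 hx
    have hz : (⟨_, hxN⟩ : ↥N) ∈ center ↥N := mem_center_iff.2 fun y => by
      obtain ⟨b, hb⟩ := QuotientGroup.mk'_surjective C.Zk (y : ↥C.K ⧸ C.Zk)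
      refine Subtype.ext ?_
      show (y : ↥C.K ⧸ C.Zk) * QuotientGroup.mk' C.Zk ⟨x, hxK⟩ = QuotientGroup.mk' C.Zk ⟨x, hxK⟩ * y
      rw [← hb, ← map_mul, ← map_mul]
      exact congrArg _ (Subtype.ext (mem_centralizer_iff.1 hxc (b : Q) (C.mem_pL.2 ⟨b.2, by
        rw [show (⟨(b : Q), b.2⟩ : ↥C.K) = b from rfl, hb]; exact y.2⟩)))
    haveI := hs
    rcases (center ↥N).normal_of_characteristic.eq_bot_or_eq_top with h | h
    · rw [h, mem_bot] at hz
      exact (C.mem_Zk).1 ((QuotientGroup.eq_one_iff _).1 (congrArg Subtype.val hz))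
    · exact absurd ⟨⟨fun a b => mem_center_iff.1 (h ▸ mem_top b) a⟩⟩ hne
  -- the isomorphism
  let f : ↥L →* ↥M := π.subgroupMap L
  let k : ↥L →* ↥N := ((QuotientGroup.mk' C.Zk).comp (Subgroup.inclusion (C.pL_le N))).codRestrict N
    fun x => (C.mem_pL.1 x.2).2
  have hk : Function.Surjective k := fun y => by
    obtain ⟨b, hb⟩ := QuotientGroup.mk'_surjective C.Zk (y : ↥C.K ⧸ C.Zk)
    exact ⟨⟨(b : Q), C.mem_pL.2 ⟨b.2, by rw [show (⟨(b : Q), b.2⟩ : ↥C.K) = b from rfl, hb]; exact y.2⟩⟩,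
      Subtype.ext hb⟩
  have hker : f.ker = k.ker := by
    ext x
    constructor
    · intro hx
      refine Subtype.ext ?_
      show QuotientGroup.mk' C.Zk ⟨(x : Q), C.pL_le N x.2⟩ = 1
      rw [QuotientGroup.mk'_apply, QuotientGroup.eq_one_iff, C.mem_Zk]
      exact hcen _ x.2 ((QuotientGroup.eq_one_iff _).1 (congrArg Subtype.val hx))
    · intro hx
      refine Subtype.ext ((QuotientGroup.eq_one_iff _).2 ?_)
      have h : (x : Q) = 1 ∨ (x : Q) = C.φ (gz m) :=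
        C.mem_Zk.1 ((QuotientGroup.eq_one_iff _).1 (congrArg Subtype.val hx))
      refine mem_centralizer_iff.2 fun l _ => ?_
      rcases h with h | h <;> rw [h]
      · rw [mul_one, one_mul]
      · exact C.central' l
  let eM : ↥M ≃* Matrix.ProjectiveSpecialLinearGroup (Fin 2) F :=
    ((QuotientGroup.quotientKerEquivOfSurjective f (π.subgroupMap_surjective L)).symm.trans
      ((QuotientGroup.quotientMulEquivOfEq hker).trans (QuotientGroup.quotientKerEquivOfSurjective k hk))).trans e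
  have hCM : centralizer (M : Set (Q ⧸ CL)) = ⊥ := by
    rw [eq_bot_iff]
    intro y hy
    obtain ⟨g, rfl⟩ := QuotientGroup.mk'_surjective CL y
    rw [mem_bot, QuotientGroup.mk'_apply, QuotientGroup.eq_one_iff]
    have hc : ∀ l ∈ L, ⁅g, l⁆ = 1 ∨ ⁅g, l⁆ = C.φ (gz m) := fun l hl => hcen _
      (mul_mem (hn.conj_mem l hl g) (inv_mem hl)) (by
        rw [← QuotientGroup.eq_one_iff, ← QuotientGroup.mk'_apply, map_commutatorElement,
          commutatorElement_eq_one_iff_mul_comm]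
        exact (mem_centralizer_iff.1 hy _ ⟨l, hl, rfl⟩).symm)
    -- the commutator map is trivial on a perfect group
    have hcm : ∀ l ∈ L, ⁅g, l⁆ ∈ center Q := fun l hl => mem_center_iff.2 fun q => by
      rcases hc l hl with h | h <;> rw [h]
      · rw [mul_one, one_mul]
      · exact C.central' q
    have h1 : ⁅⁅zpowers g, L⁆, L⁆ = ⊥ := by
      rw [commutator_eq_bot_iff_le_centralizer]
      refine commutator_le.2 fun x hx l hl => ?_
      obtain ⟨i, rfl⟩ := mem_zpowers_iff.1 hx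
      refine center_le_centralizer _ ?_
      rw [← QuotientGroup.eq_one_iff, ← QuotientGroup.mk'_apply, map_commutatorElement, map_zpow,
        commutatorElement_eq_one_iff_commute]
      refine Commute.zpow_left ?_ i
      rw [← commutatorElement_eq_one_iff_commute, ← map_commutatorElement, QuotientGroup.mk'_apply,
        QuotientGroup.eq_one_iff]
      exact hcm l hl
    have h3 : ⁅⁅L, L⁆, zpowers g⁆ = ⊥ :=
      commutator_commutator_eq_bot_of_rotate (by rwa [commutator_comm L (zpowers g)]) h1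
    rw [hperf, commutator_eq_bot_iff_le_centralizer] at h3
    exact mem_centralizer_iff.2 fun l hl => (mem_centralizer_iff.1 (h3 hl) g (mem_zpowers g)).symm
  have h := CfsgLib.GW.commutator_le_psl M eM (Classical.two_ne_zero_of_odd_card hodd) hCM
  intro x hx
  have hπx : π x ∈ M := h (by
    rw [← show (commutator Q).map π = commutator (Q ⧸ CL) by
      rw [_root_.commutator_def, map_commutator, ← MonoidHom.range_eq_map,
        MonoidHom.range_eq_top.2 (QuotientGroup.mk'_surjective CL), ← _root_.commutator_def]]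
    exact ⟨x, hx, rfl⟩)
  obtain ⟨l, hl, hlx⟩ := hπx
  rw [show x = l * (l⁻¹ * x) by group]
  exact mul_mem (le_sup_left (b := CL) hl) (le_sup_right (a := L) (QuotientGroup.eq.1 hlx))

end Cen

end CfsgLib.Invol.GTwoCent
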