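import Cfsg.Agent.Lib.Invol.GTwoCent.Parity

/-!
# The subgroup of index two of the centraliser
-/

set_option autoImplicit false
set_option linter.unusedSectionVars false
set_option linter.style.haveILetI false

namespace CfsgLib.Invol.GTwoCent

open Subgroup CfsgLib.Invol CfsgLib.Invol.GTwoOdd CfsgLib.Invol.GTwoOdd.Sd

variable {m : ℕ} [NeZero m] {G : Type*} [Group G] [Finite G] [IsSimpleGroup G] (F : Fr G m)

/-- every element of the inner subgroup is a product of two elements which are trivial or inner involutions -/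
theorem inner_gen {u : Sd (2 * m)} (hu : u ∈ inner m) : ∃ a b : Sd (2 * m),
    u = a * b ∧ a ∈ inner m ∧ b ∈ inner m ∧ a * a = 1 ∧ b * b = 1 := by
  rw [mem_inner] at hu
  obtain ⟨p, q, x, s⟩ := u
  refine ⟨⟨p, q, 1, 0⟩, ⟨0, 0, x + 1, s⟩, ?_, mem_inner.2 hu, mem_inner.2 rfl, ?_, ?_⟩
  · rcases two_cases x with rfl | rfl <;> simp [mul_def, Sd.mk.injEq, Sd.one_add_one]
  · simp [mul_def, one_def, Sd.mk.injEq, Sd.one_add_one]
  · rcases two_cases x with rfl | rfl <;> rcases two_cases s with rfl | rfl <;>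
      simp [mul_def, one_def, Sd.mk.injEq, Sd.one_add_one]

variable (hm : 2 ≤ m)
include hm

/-- pulling an involution fused to `gt` into the diagonal part -/
theorem pull_M {y : Sd (2 * m)} (hy : CR F y (gt m)) :
    ∃ h : G, h * F.φ (gz m) * h⁻¹ = F.φ (gz m) ∧ h * F.φ y * h⁻¹ = F.φ (gt m) ∧
      ∀ a, a * y = y * a → ∃ v, v.s = 0 ∧ F.φ v = h * F.φ a * h⁻¹ := by
  obtain ⟨g, hgz, hgy⟩ := hy
  let Cy : Subgroup (Sd (2 * m)) := centralizer ({y} : Set (Sd (2 * m)))
  have hle : Cy.map ((MulAut.conj g).toMonoidHom.comp F.φ) ≤ D F := by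
    rintro _ ⟨a, ha, rfl⟩
    show g * F.φ a * g⁻¹ ∈ D F
    refine (mem_D F).2 ⟨?_, ?_⟩
    · rw [← hgz]
      calc g * F.φ a * g⁻¹ * (g * F.φ (gz m) * g⁻¹) * (g * F.φ a * g⁻¹)⁻¹
          = g * (F.φ a * F.φ (gz m) * (F.φ a)⁻¹) * g⁻¹ := by group
        _ = _ := by rw [conj_map, gz_central, mul_inv_cancel_right]
    · rw [← hgy]
      calc g * F.φ a * g⁻¹ * (g * F.φ y * g⁻¹) * (g * F.φ a * g⁻¹)⁻¹
          = g * (F.φ a * F.φ y * (F.φ a)⁻¹) * g⁻¹ := by group
        _ = _ := by rw [conj_map, mem_centralizer_singleton_iff.1 ha, mul_inv_cancel_right]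
  obtain ⟨c, hc, hcm⟩ := toM F hm (((isPGroup_Sd F).to_subgroup Cy).map _) hle
  obtain ⟨hcz, hct⟩ := (mem_D F).1 hc
  refine ⟨c * g, ?_, ?_, fun a ha => ?_⟩
  · calc c * g * F.φ (gz m) * (c * g)⁻¹ = c * (g * F.φ (gz m) * g⁻¹) * c⁻¹ := by group
      _ = _ := by rw [hgz, hcz]
  · calc c * g * F.φ y * (c * g)⁻¹ = c * (g * F.φ y * g⁻¹) * c⁻¹ := by group
      _ = _ := by rw [hgy, hct]
  · obtain ⟨v, hv, hve⟩ := hcm (g * F.φ a * g⁻¹) ⟨a, mem_centralizer_singleton_iff.2 ha, rfl⟩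
    exact ⟨v, hv, hve.trans (by group)⟩

variable (hev : 2 ∣ m)
include hev

/-- **the outer involution is not fused to `gt`** -/
theorem not_fused : ¬ CR F (g10 m) (gt m) := by
  intro hc
  obtain ⟨h, hz, hy, himg⟩ := pull_M F hm hc
  obtain ⟨j, hj⟩ := hev
  have hh := half_eq hj
  have hn : -((m : ℕ) : ZMod (2 * m)) = (m : ℕ) := by linear_combination -(m_add_m (m := m))
  obtain ⟨f1, f2, f3, f4, f5, f6, f7⟩ := gt_facts (m := m)
  have cgt : gt m * g10 m = g10 m * gt m := by simp [mul_def, gt, g10, Sd.mk.injEq, hn, add_comm]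
  obtain ⟨v, hvs, hve⟩ := himg (gt m) cgt
  have hv2 : v * v = 1 := F.φ_inj (by
    rw [map_mul, hve, map_one]
    calc h * F.φ (gt m) * h⁻¹ * (h * F.φ (gt m) * h⁻¹) = h * F.φ (gt m * gt m) * h⁻¹ := by rw [map_mul]; group
      _ = 1 := by rw [f1, map_one]; group)
  have inj : ∀ {a b : G}, h * a * h⁻¹ = h * b * h⁻¹ → a = b := fun e => mul_left_cancel (mul_right_cancel e)
  obtain ⟨p, q, hv⟩ : ∃ p q, v = ⟨p, q, 1, 0⟩ := by
    rcases inv_cases hv2 with (e | e | e | e) | hpq | ⟨p, e⟩ | ⟨p, e⟩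
    · exfalso
      rw [e, map_one] at hve
      exact f3 (F.φ_inj (by rw [map_one]; exact inj (hve.symm.trans (by group))))
    · exact absurd (F.φ_inj (inj ((e ▸ hve).symm.trans hz.symm))) f4
    · have := F.φ_inj (inj ((e ▸ hve).symm.trans hy.symm))
      simp [gt, g10, Sd.mk.injEq] at this
    · exfalso
      have e2 : h * F.φ (g10 m * gz m) * h⁻¹ = F.φ (gt' m) := by
        calc h * F.φ (g10 m * gz m) * h⁻¹ = (h * F.φ (g10 m) * h⁻¹) * (h * F.φ (gz m) * h⁻¹) := by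
              rw [map_mul]; group
          _ = _ := by rw [hy, hz, ← map_mul, f7]
      rw [e] at hve
      have : F.φ (g10 m * gz m) = F.φ (gt m) := inj (e2.trans hve)
      have := F.φ_inj this
      simp [mul_def, gt, g10, gz, Sd.mk.injEq] at this
    · exact hpq
    all_goals rw [e] at hvs; exact absurd hvs one_ne_zero
  subst hv
  -- the automorphism fixing `g10` and moving `gt`
  set i : Sd (2 * m) := ⟨(j : ℕ), (j : ℕ), 0, 0⟩ with hi
  obtain ⟨i1, i2, i3⟩ : i * gt m * i⁻¹ = gt m ∧ i * gz m * i⁻¹ = gz m ∧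
      i * (⟨p, q, 1, 0⟩ : Sd (2 * m)) * i⁻¹ = ⟨p, q, 1, 0⟩ * gz m := by
    simp [hi, mul_def, inv_def, gt, gz, Sd.mk.injEq, hn]
    constructor <;> linear_combination hh
  set a := h⁻¹ * F.φ i * h with ha
  have az : a * F.φ (gz m) * a⁻¹ = F.φ (gz m) := by
    refine inj ?_
    calc h * (a * F.φ (gz m) * a⁻¹) * h⁻¹ = F.φ i * (h * F.φ (gz m) * h⁻¹) * (F.φ i)⁻¹ := by rw [ha]; group
      _ = _ := by rw [hz, conj_map, i2]
  have ay : a * F.φ (g10 m) * a⁻¹ = F.φ (g10 m) := by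
    refine inj ?_
    calc h * (a * F.φ (g10 m) * a⁻¹) * h⁻¹ = F.φ i * (h * F.φ (g10 m) * h⁻¹) * (F.φ i)⁻¹ := by rw [ha]; group
      _ = _ := by rw [hy, conj_map, i1]
  have at' : a * F.φ (gt m) * a⁻¹ = F.φ (gt' m) := by
    refine inj ?_
    calc h * (a * F.φ (gt m) * a⁻¹) * h⁻¹ = F.φ i * (h * F.φ (gt m) * h⁻¹) * (F.φ i)⁻¹ := by rw [ha]; group
      _ = (h * F.φ (gt m) * h⁻¹) * (h * F.φ (gz m) * h⁻¹) := by rw [← hve, conj_map, i3, map_mul, hz]
      _ = _ := by rw [← f7, map_mul]; group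
  obtain ⟨s1, s2, s3, s4⟩ := conj_gS (m := m)
  have he : F.φ (gS m) * a ∈ D F := by
    refine (mem_D F).2 ⟨?_, ?_⟩
    · calc F.φ (gS m) * a * F.φ (gz m) * (F.φ (gS m) * a)⁻¹
          = F.φ (gS m) * (a * F.φ (gz m) * a⁻¹) * (F.φ (gS m))⁻¹ := by group
        _ = _ := by rw [az, conj_map, s3]
    · calc F.φ (gS m) * a * F.φ (gt m) * (F.φ (gS m) * a)⁻¹
          = F.φ (gS m) * (a * F.φ (gt m) * a⁻¹) * (F.φ (gS m))⁻¹ := by group
        _ = _ := by rw [at', conj_map, s2]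
  have hpar := parity F hm he (p := 1) (q := 0) (p' := 0) (q' := 1) (by
    calc F.φ (gS m) * a * F.φ (g10 m) * (F.φ (gS m) * a)⁻¹
        = F.φ (gS m) * (a * F.φ (g10 m) * a⁻¹) * (F.φ (gS m))⁻¹ := by group
      _ = _ := by rw [ay, conj_map, s4])
  simp at hpar

theorem outer_not_fused {p q : ZMod (2 * m)} (hpq : par p ≠ par q) : ¬ CR F ⟨p, q, 1, 0⟩ (gt m) := by
  intro h
  refine not_fused F hm hev ?_
  have hcases : ∀ a b : ZMod 2, a ≠ b → a = 1 ∧ b = 0 ∨ a = 0 ∧ b = 1 := by decide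
  rcases hcases _ _ hpq with ⟨hp, hq⟩ | ⟨hp, hq⟩
  · exact (CR.of_cl (coset_conj (by rw [hp, map_one]) (by rw [hq, map_zero]))).tr h
  · refine (CR.of_cl ⟨gS m, (conj_gS (m := m)).2.2.2⟩).tr ?_
    exact (CR.of_cl (coset_conj (by rw [hp, map_zero]) (by rw [hq, map_one]))).tr h

variable (h1 : ∀ x y : G, orderOf x = 2 → orderOf y = 2 → IsConj x y)
include h1

/-- both exchanges are fused to `gt` -/
theorem exchange_fused : CR F (gS m) (gt m) ∧ CR F (gS' m) (gt m) := by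
  have hn : -((m : ℕ) : ZMod (2 * m)) = (m : ℕ) := by linear_combination -(m_add_m (m := m))
  have hw : CR F (g00 m) (gt m) := inv_fused F h1 hev (p := 0) (q := 0) rfl
  obtain ⟨h, hz, hy, himg⟩ := pull_M F hm hw
  obtain ⟨f1, f2, f3, f4, f5, f6, f7⟩ := gt_facts (m := m)
  have cs : gS m * g00 m = g00 m * gS m := by simp [mul_def, g00, gS, Sd.mk.injEq]
  have ct : gt m * g00 m = g00 m * gt m := by simp [mul_def, g00, gt, Sd.mk.injEq, hn]
  obtain ⟨r, hrs, hre⟩ := himg (gS m) cs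
  obtain ⟨v, hvs, hve⟩ := himg (gt m) ct
  have sS : gS m * gS m = (1 : Sd (2 * m)) := by simp [mul_def, gS, one_def, Sd.mk.injEq, Sd.one_add_one]
  have sq : ∀ {u w : Sd (2 * m)}, u * u = 1 → F.φ w = h * F.φ u * h⁻¹ → w * w = 1 := fun {u w} hu hw => F.φ_inj (by
    rw [map_mul, hw, map_one]
    calc h * F.φ u * h⁻¹ * (h * F.φ u * h⁻¹) = h * F.φ (u * u) * h⁻¹ := by rw [map_mul]; group
      _ = 1 := by rw [hu, map_one]; group)
  -- the commutator
  have hcom : r * v = v * r * gz m := by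
    have e : gS m * gt m = gt m * gS m * gz m := by simp [mul_def, gS, gt, gz, Sd.mk.injEq, m_add_m]
    refine F.φ_inj ?_
    rw [map_mul, map_mul, map_mul, hre, hve, ← hz]
    calc h * F.φ (gS m) * h⁻¹ * (h * F.φ (gt m) * h⁻¹) = h * F.φ (gS m * gt m) * h⁻¹ := by rw [map_mul]; group
      _ = h * F.φ (gt m * gS m * gz m) * h⁻¹ := by rw [e]
      _ = _ := by rw [map_mul, map_mul]; group
  have hv' := sq f1 hve
  have hr' := sq sS hre
  obtain ⟨p, q, x, s⟩ := r
  obtain ⟨p', q', x', s'⟩ := v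
  obtain rfl : s = 0 := hrs
  obtain rfl : s' = 0 := hvs
  have hne : ((m : ℕ) : ZMod (2 * m)) ≠ 0 := m_ne_zero
  obtain ⟨rfl, rfl⟩ : x = 1 ∧ x' = 1 := by
    rcases two_cases x with rfl | rfl <;> rcases two_cases x' with rfl | rfl
    · exfalso
      simp [mul_def, gz, Sd.mk.injEq, hne] at hcom
      exact hne (by linear_combination -hcom.1)
    · exfalso
      simp [mul_def, one_def, Sd.mk.injEq] at hr'
      simp [mul_def, gz, Sd.mk.injEq, hn] at hcom
      exact hne (by linear_combination -hcom.1 + hr'.1)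
    · exfalso
      simp [mul_def, one_def, Sd.mk.injEq] at hv'
      simp [mul_def, gz, Sd.mk.injEq, hn] at hcom
      exact hne (by linear_combination -hcom.1 - hv'.1)
    · exact ⟨rfl, rfl⟩
  simp [mul_def, gz, Sd.mk.injEq, Sd.one_add_one] at hcom
  obtain ⟨j, hj⟩ := hev
  have hh := half_eq hj
  have hparity : ∀ a b : ZMod (2 * m), a + -b = b + -a + (m : ℕ) → par a + par b = par ((j : ℕ) : ZMod (2 * m)) := by
    intro a b e
    have e' : (a + -b - ((j : ℕ) : ZMod (2 * m))) + (a + -b - ((j : ℕ) : ZMod (2 * m))) = 0 := by linear_combination e - hh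
    have h0 : par (a + -b - ((j : ℕ) : ZMod (2 * m))) = 0 := by
      rcases double_zero e' with e'' | e'' <;> rw [e'']
      · exact map_zero _
      · exact par_m_zero ⟨j, hj⟩
    rw [map_sub, map_add, map_neg, ZMod.neg_eq_self_mod_two, sub_eq_zero] at h0
    exact h0
  have hvin : par p' = par q' := by
    by_contra hne'
    refine outer_not_fused F hm ⟨j, hj⟩ hne' ⟨h⁻¹, ?_, ?_⟩
    · conv_lhs => rw [← hz]
      group
    · rw [hve]; group
  have hrin : par p = par q := by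
    have e1 := hparity p p' hcom.1
    have e2 := hparity q q' hcom.2
    rw [hvin] at e1
    exact add_right_cancel (e1.trans e2.symm)
  refine ⟨?_, ?_⟩
  · exact CR.tr ⟨h, hz, hre.symm⟩ (inv_fused F h1 ⟨j, hj⟩ hrin)
  · refine CR.tr (v := gt m * ⟨p, q, 1, 0⟩) ⟨h, hz, ?_⟩ ?_
    · rw [map_mul, hre, ← hy, show gS' m = g00 m * gS m by simp [mul_def, gS', g00, gS], map_mul]
      group
    · rw [show gt m * (⟨p, q, 1, 0⟩ : Sd (2 * m)) = ⟨(m : ℕ) + p, q, 1, 0⟩ by simp [mul_def, gt, Sd.mk.injEq]]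
      exact inv_fused F h1 ⟨j, hj⟩ (by rw [map_add, par_m_zero ⟨j, hj⟩, zero_add, hrin])

/-- the inner involutions other than the central one are fused to `gt` -/
theorem inner_fused {v : Sd (2 * m)} (hv : v ∈ inner m) (hv2 : v * v = 1) (hv1 : v ≠ 1) (hvz : v ≠ gz m) :
    CR F v (gt m) := by
  rw [mem_inner] at hv
  obtain ⟨e1, e2⟩ := exchange_fused F hm hev h1
  rcases inv_cases hv2 with (e | e | e | e) | ⟨p, q, e⟩ | ⟨p, e⟩ | ⟨p, e⟩
  · exact absurd e hv1
  · exact absurd e hvz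
  · exact CR.of_cl ⟨1, by rw [e, one_mul, inv_one, mul_one]⟩
  · exact e ▸ CR.of_cl ⟨gS m, conj_gS.2.1⟩
  · subst e; exact inv_fused F h1 hev hv
  · subst e; exact (CR.of_cl (s_conj p)).tr e1
  · subst e; exact (CR.of_cl (s'_conj p)).tr e2

/-- **the centraliser of the central involution has a normal subgroup of index two meeting the Sylow subgroup
in the inner subgroup** -/
theorem exists_index_two : ∃ N : Subgroup ↥(centralizer ({F.φ (gz m)} : Set G)), N.Normal ∧ N.index = 2 ∧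
    ∀ u, (⟨F.φ u, T_le_C F (F.φ_mem u)⟩ : ↥(centralizer ({F.φ (gz m)} : Set G))) ∈ N ↔ u ∈ inner m := by
  haveI : Fact (Nat.Prime 2) := ⟨Nat.prime_two⟩
  set C := centralizer ({F.φ (gz m)} : Set G) with hC
  let ψ : Sd (2 * m) →* C := F.φ.codRestrict C fun u => T_le_C F (F.φ_mem u)
  have ψinj : Function.Injective ψ := fun a b e => F.φ_inj (show F.φ a = F.φ b from congrArg (fun x : C => (x : G)) e)
  let P : Sylow 2 C := F.T.subtype (T_le_C F)
  have hP : (P : Subgroup C) = (⊤ : Subgroup (Sd (2 * m))).map ψ := by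
    ext x
    constructor
    · intro hx
      obtain ⟨u, hu⟩ := F.exists_of_mem hx
      exact ⟨u, trivial, Subtype.ext hu⟩
    · rintro ⟨u, -, rfl⟩
      exact F.φ_mem u
  have hQP : (inner m).map ψ ≤ (P : Subgroup C) := hP ▸ Subgroup.map_mono le_top
  have g10_out : g10 m ∉ inner m := by simp [mem_inner, g10]
  have hidx : (inner m).index = 2 := by
    rw [inner, index_ker, MonoidHom.range_eq_top.2 (fun b => ?_), card_top]
    · simp
    · rcases two_cases b.toAdd with e | e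
      · exact ⟨1, (map_one _).trans (toAdd_eq_zero.1 e).symm⟩
      · refine ⟨g10 m, Multiplicative.toAdd.injective ?_⟩
        rw [e]
        show 0 * (g10 m).x + 0 * (g10 m).s + 1 * (par (g10 m).p + par (g10 m).q) = (1 : ZMod 2)
        simp [g10]
  have hrel : ((inner m).map ψ).relIndex (P : Subgroup C) = 2 := by
    rw [hP, relIndex_map_map_of_injective _ _ ψinj, relIndex_top_right, hidx]
  have g10sq : g10 m * g10 m = (1 : Sd (2 * m)) := by simp [mul_def, one_def, g10, Sd.mk.injEq, Sd.one_add_one]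
  obtain ⟨N, hN, hNi, hu⟩ := CfsgLib.Fusion.thompson_transfer P hQP hrel (u := ψ (g10 m))
    (by rw [pow_two, ← map_mul, g10sq, map_one]) (fun g hg => by
      obtain ⟨v, hv, hve⟩ := hg
      have hgz : (g : G) * F.φ (gz m) * (g : G)⁻¹ = F.φ (gz m) :=
        mul_inv_eq_iff_eq_mul.2 (mem_centralizer_singleton_iff.1 g.2)
      replace hve : F.φ v = (g : G) * F.φ (g10 m) * (g : G)⁻¹ := congrArg Subtype.val hve
      have hv2 : v * v = 1 := F.φ_inj (by
        rw [map_mul, hve, map_one]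
        calc (g : G) * F.φ (g10 m) * (g : G)⁻¹ * ((g : G) * F.φ (g10 m) * (g : G)⁻¹)
              = (g : G) * F.φ (g10 m * g10 m) * (g : G)⁻¹ := by rw [map_mul]; group
          _ = 1 := by rw [g10sq, map_one]; group)
      have inj : ∀ {a b : G}, (g : G) * a * (g : G)⁻¹ = (g : G) * b * (g : G)⁻¹ → a = b :=
        fun e => mul_left_cancel (mul_right_cancel e)
      by_cases hv1 : v = 1
      · rw [hv1, map_one] at hve
        have := F.φ_inj ((inj (hve.symm.trans (by group) : _ = (g : G) * 1 * (g : G)⁻¹)).trans (map_one F.φ).symm)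
        simp [g10, one_def, Sd.mk.injEq] at this
      by_cases hvz : v = gz m
      · rw [hvz] at hve
        have := F.φ_inj (inj (hve.symm.trans hgz.symm))
        simp [g10, gz, Sd.mk.injEq] at this
      exact not_fused F hm hev (CR.tr ⟨g, hgz, hve.symm⟩ (inner_fused F hm hev h1 hv hv2 hv1 hvz)))
  refine ⟨N, hN, hNi, fun u => ?_⟩
  show ψ u ∈ N ↔ u ∈ inner m
  have hgt : ψ (gt m) ∈ N := by
    obtain ⟨j, hj⟩ := id hev
    have hh := half_eq hj
    have hn : -((m : ℕ) : ZMod (2 * m)) = (m : ℕ) := by linear_combination -(m_add_m (m := m))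
    have e : gt m = g00 m * ⟨(j : ℕ), 0, 0, 0⟩ * (g00 m)⁻¹ * (⟨(j : ℕ), 0, 0, 0⟩ : Sd (2 * m))⁻¹ := by
      simp [mul_def, inv_def, g00, gt, Sd.mk.injEq, Sd.one_add_one]
      linear_combination hn.symm + hh
    rw [e, map_mul, map_mul, map_mul, map_inv, map_inv]
    have hc : ∀ a b : C, a * b * a⁻¹ * b⁻¹ ∈ N := fun a b => by
      by_cases hb : b ∈ N
      · exact mul_mem (hN.conj_mem b hb a) (inv_mem hb)
      · refine (mul_mem_iff_of_index_two hNi).2 ⟨fun h => absurd ?_ hb, fun h => absurd (inv_mem_iff.1 h) hb⟩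
        simpa [mul_assoc] using hN.conj_mem _ h a⁻¹
    exact hc _ _
  have hgz : ψ (gz m) ∈ N := by
    have e : gz m = gt m * gt' m := (gt_facts (m := m)).2.2.2.2.1.symm
    have e' : gt' m = gS m * gt m * (gS m)⁻¹ := conj_gS.1.symm
    rw [e, e', map_mul, map_mul, map_mul, map_inv]
    exact mul_mem hgt (hN.conj_mem _ hgt _)
  have hinv : ∀ v, v ∈ inner m → v * v = 1 → ψ v ∈ N := by
    intro v hv hv2
    by_cases hv1 : v = 1
    · rw [hv1, map_one]; exact one_mem N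
    by_cases hvz : v = gz m
    · rw [hvz]; exact hgz
    obtain ⟨g, hg, hgv⟩ := (inner_fused F hm hev h1 hv hv2 hv1 hvz).sy
    have hgC : g ∈ C := mem_centralizer_singleton_iff.2 (mul_inv_eq_iff_eq_mul.1 hg)
    have he : ψ v = (⟨g, hgC⟩ : C) * ψ (gt m) * (⟨g, hgC⟩ : C)⁻¹ := Subtype.ext hgv.symm
    rw [he]
    exact hN.conj_mem _ hgt _
  have hle : ∀ v ∈ inner m, ψ v ∈ N := by
    intro v hv
    obtain ⟨a, b, rfl, ha, hb, ha2, hb2⟩ := inner_gen hv
    rw [map_mul]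
    exact mul_mem (hinv a ha ha2) (hinv b hb hb2)
  refine ⟨fun h => ?_, hle u⟩
  by_contra hu'
  refine hu ?_
  have h' : u * g10 m ∈ inner m := (mul_mem_iff_of_index_two hidx).2 (iff_of_false hu' g10_out)
  have := mul_mem (inv_mem h) (hle _ h')
  rwa [map_mul, inv_mul_cancel_left] at this

end CfsgLib.Invol.GTwoCent
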